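import Cfsg.Agent.Lib.Char.OneDiv
import Cfsg.Agent.Lib.Char.Extend
import Cfsg.Agent.Lib.Core.PSolvable
import Cfsg.Agent.Lib.Involutions2.NormalFour
import Mathlib

/-!
# The derived length of a Sylow subgroup and the number of characters of degree divisible by `p`
-/

set_option autoImplicit false
set_option linter.unusedSectionVars false
set_option linter.style.haveILetI false

namespace Cfsg.Agent.Lib.Char.DerivedDiv

open Cfsg Module
open Cfsg.Agent.Lib.Char.Basic Cfsg.Agent.Lib.Char.Ortho Cfsg.Agent.Lib.Char.Complete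
open Cfsg.Agent.Lib.Char.Conj Cfsg.Agent.Lib.Char.Clifford Cfsg.Agent.Lib.Char.Induced
open Cfsg.Agent.Lib.Char.IndRep
open Cfsg.Agent.Lib.Char.CliffordCorr Cfsg.Agent.Lib.Char.Linear Cfsg.Agent.Lib.Char.Degree
open Cfsg.Agent.Lib.Blk89.ItoMichler Cfsg.Agent.Lib.OddChar.Inertia
open Cfsg.Agent.Lib.OddChar.CentralBound Cfsg.Agent.Lib.Char.OneDiv
open scoped ComplexConjugate

universe u

/-- A constituent of a character has the kernel of the character in its kernel. -/
theorem apply_eq_of_constituent {Y : Type*} [Group Y] [Fintype Y] {ξ θ : Y → ℂ} (hξ : IsCharacter Y ξ)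
    (hθ : IsIrrCharacter Y θ) (hc : classInner ξ θ ≠ 0) {x : Y} (hx : ξ x = ξ 1) : θ x = θ 1 := by
  have hsub := isCharacter_sub_of_classInner_ne_zero hξ hθ hc
  obtain ⟨a, ha⟩ := exists_deg_of_isCharacter (isCharacter_of_isIrrCharacter hθ)
  obtain ⟨b, hb⟩ := exists_deg_of_isCharacter hsub
  have h1 := Cfsg.Agent.Lib.Blk89.Basic.norm_le_deg (isCharacter_of_isIrrCharacter hθ) x
  have h2 := Cfsg.Agent.Lib.Blk89.Basic.norm_le_deg hsub x
  rw [ha] at h1
  rw [hb] at h2
  simp only [Complex.norm_natCast] at h1 h2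
  have h3 : (ξ - θ) x + θ x = (ξ - θ) 1 + θ 1 := by
    simp only [Pi.sub_apply, sub_add_cancel]
    exact hx
  rw [hb, ha] at h3
  have h4 := congrArg Complex.re h3
  simp only [Complex.add_re, Complex.natCast_re] at h4
  have h5 := Complex.re_le_norm ((ξ - θ) x)
  have h6 := Complex.re_le_norm (θ x)
  have h7 : (θ x).re = a := by linarith
  have h8 : (θ x).im = 0 := by
    have h9 : ‖θ x‖ ^ 2 = (θ x).re ^ 2 + (θ x).im ^ 2 := by
      rw [Complex.sq_norm, Complex.normSq_apply]
      ring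
    have h10 : ‖θ x‖ ^ 2 ≤ (a : ℝ) ^ 2 := by
      have := norm_nonneg (θ x)
      gcongr
    rw [h9, h7] at h10
    nlinarith [sq_nonneg (θ x).im]
  rw [ha]
  apply Complex.ext
  · simpa using h7
  · simpa using h8

section Ext

variable {X : Type u} [Group X] [Fintype X] {A : Subgroup X} (hA : A.Normal) {p : ℕ} [hp : Fact p.Prime]

/-- Local extension at a prime different from `p`. -/
theorem ext_prime {θ : A → ℂ} (hθ : IsIrrCharacter A θ) (hinv : ∀ c : X, conjOn hA c θ = θ)
    (hAp : IsPGroup p A) {q : ℕ} (hq : q.Prime) (hqp : q ≠ p) :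
    ∃ (K : Subgroup X) (hAK : A ≤ K) (η : K → ℂ), Nat.Coprime K.index q ∧ IsCharacter K η ∧
      ∀ n : A, η ⟨n, hAK n.2⟩ = θ n := by
  classical
  haveI := hA
  haveI : Fact q.Prime := ⟨hq⟩
  let π := QuotientGroup.mk' A
  have hπ : Function.Surjective π := QuotientGroup.mk'_surjective A
  obtain ⟨Q₀⟩ : Nonempty (Sylow q (X ⧸ A)) := inferInstance
  let K : Subgroup X := (Q₀ : Subgroup (X ⧸ A)).comap π
  have hAK : A ≤ K := by
    intro n hn
    show π n ∈ (Q₀ : Subgroup (X ⧸ A))
    rw [show π n = 1 from (QuotientGroup.eq_one_iff _).mpr hn]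
    exact Subgroup.one_mem _
  have hKi : K.index = (Q₀ : Subgroup (X ⧸ A)).index := Subgroup.index_comap_of_surjective _ hπ
  letI : Fintype K := Fintype.ofFinite _
  let A' : Subgroup K := A.subgroupOf K
  have hA' : A'.Normal := hA.subgroupOf K
  let eqv : A' ≃* A := Subgroup.subgroupOfEquivOfLe hAK
  let θ' : A' → ℂ := θ ∘ eqv
  have hθ' : IsIrrCharacter A' θ' := isIrrCharacter_comp_mulEquiv eqv hθ
  letI : Fintype A' := Fintype.ofFinite _
  have hinv' : ∀ c : K, conjOn hA' c θ' = θ' := by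
    intro c
    funext n
    have h1 := congrFun (hinv c) (eqv n)
    simp only [conjOn_apply] at h1 ⊢
    simp only [θ', Function.comp]
    rw [← h1]
    congr 1
  have hcop : Nat.Coprime (Nat.card A') A'.index := by
    have h1 : Nat.card A' = Nat.card A := Nat.card_congr eqv.toEquiv
    obtain ⟨a, ha⟩ := IsPGroup.iff_card.mp hAp
    have h2 : A'.index = A.relIndex K := rfl
    have h3 : A = (⊥ : Subgroup (X ⧸ A)).comap π := by
      ext n
      rw [Subgroup.mem_comap, Subgroup.mem_bot]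
      exact (QuotientGroup.eq_one_iff _).symm
    have h4 : A.relIndex K = Nat.card (Q₀ : Subgroup (X ⧸ A)) := by
      conv_lhs => rw [h3, Subgroup.relIndex_comap]
      rw [Subgroup.map_comap_eq_self_of_surjective hπ, Subgroup.relIndex_bot_left]
    rw [h1, h2, h4, ha, Q₀.card_eq_multiplicity]
    exact Nat.coprime_pow_primes _ _ hp.out hq hqp.symm
  obtain ⟨ξ, hξ, hξe⟩ := exists_ext_of_coprime hA' hθ' hinv' hcop
  refine ⟨K, hAK, ξ, ?_, isCharacter_of_isIrrCharacter hξ, ?_⟩
  · rw [hKi]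
    exact ((Nat.Prime.coprime_iff_not_dvd hq).mpr Q₀.not_dvd_index).symm
  · intro n
    have h1 := hξe (eqv.symm n)
    have h2 : ((eqv.symm n : A') : K) = ⟨n, hAK n.2⟩ := by
      apply Subtype.ext
      have h4 := congrArg Subtype.val (eqv.apply_symm_apply n)
      exact h4
    rw [h2] at h1
    simpa [θ'] using h1

/-- Local extension at `p`. -/
theorem ext_at_p [Fintype A] {θ : A → ℂ} (hθ : IsIrrCharacter A θ) (hinv : ∀ c : X, conjOn hA c θ = θ)
    (hAp : IsPGroup p A) {ξ : X → ℂ} (hξ : IsIrrCharacter X ξ)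
    (hcon : classInner (fun n : A => ξ n) θ ≠ 0) (hnd : ¬ p ∣ charDegree ξ) :
    ∃ (K : Subgroup X) (hAK : A ≤ K) (η : K → ℂ), Nat.Coprime K.index p ∧ IsCharacter K η ∧
      ∀ n : A, η ⟨n, hAK n.2⟩ = θ n := by
  classical
  haveI := hA
  obtain ⟨R⟩ : Nonempty (Sylow p X) := inferInstance
  have hAK : A ≤ (R : Subgroup X) := hAp.le_sylow_of_normal R
  letI : Fintype (R : Subgroup X) := Fintype.ofFinite _
  have hξc := isCharacter_of_isIrrCharacter hξ
  have hres : IsCharacter (R : Subgroup X) (fun r : (R : Subgroup X) => ξ r) := isCharacter_restrict _ hξc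
  have := finite_irrCharacter (G := (R : Subgroup X))
  letI := Fintype.ofFinite (IrrCharacter (R : Subgroup X))
  obtain ⟨m, hm⟩ := exists_nat_combination hres
  -- a constituent of degree prime to `p`
  have hex : ∃ i : IrrCharacter (R : Subgroup X), m i ≠ 0 ∧ ¬ p ∣ charDegree (i : ↥(R : Subgroup X) → ℂ) := by
    by_contra hcon2
    push Not at hcon2
    apply hnd
    have h1 := congrFun hm 1
    have h2 : ξ 1 = ∑ i, (m i : ℂ) * (charDegree (i : ↥(R : Subgroup X) → ℂ) : ℂ) := by
      have h3 : ξ ((1 : (R : Subgroup X)) : X) = ξ 1 := by simp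
      rw [← h3, h1, Finset.sum_apply]
      refine Finset.sum_congr rfl fun i _ => ?_
      simp only [Pi.smul_apply, nsmul_eq_mul]
      rw [charDegree_natCast (isCharacter_of_isIrrCharacter i.2)]
    have h4 : ((charDegree ξ : ℕ) : ℂ) = ((∑ i, m i * charDegree (i : ↥(R : Subgroup X) → ℂ) : ℕ) : ℂ) := by
      rw [charDegree_natCast hξc, h2]
      push_cast
      rfl
    have h5 : charDegree ξ = ∑ i, m i * charDegree (i : ↥(R : Subgroup X) → ℂ) := by
      exact_mod_cast h4
    rw [h5]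
    apply Finset.dvd_sum
    intro i _
    by_cases hi : m i = 0
    · rw [hi]
      simp
    · exact (hcon2 i hi).mul_left _
  obtain ⟨i, him, hinp⟩ := hex
  -- it is linear
  have hi1 : (i : ↥(R : Subgroup X) → ℂ) 1 = 1 := by
    have h1 : charDegree (i : ↥(R : Subgroup X) → ℂ) ∣ Nat.card (R : Subgroup X) := charDegree_dvd_card i.2
    rw [R.card_eq_multiplicity] at h1
    obtain ⟨j, -, hj⟩ := (Nat.dvd_prime_pow hp.out).mp h1
    rcases Nat.eq_zero_or_pos j with rfl | hjpos
    · rw [← charDegree_natCast (isCharacter_of_isIrrCharacter i.2), hj]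
      simp
    · exfalso
      apply hinp
      rw [hj]
      exact dvd_pow_self _ hjpos.ne'
  have hic := isCharacter_of_isIrrCharacter i.2
  -- the restriction of `i` to `A`
  let ν : A → ℂ := fun n => (i : ↥(R : Subgroup X) → ℂ) ⟨n, hAK n.2⟩
  have hνc : IsCharacter A ν := isCharacter_comp (Subgroup.inclusion hAK) hic
  have hν1 : ν 1 = 1 := hi1
  have hνi : IsIrrCharacter A ν := isIrrCharacter_of_deg_one hνc hν1
  have hinner : classInner (fun r : (R : Subgroup X) => ξ r) (i : ↥(R : Subgroup X) → ℂ) ≠ 0 := by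
    rw [hm, classInner_sum_left]
    rw [Finset.sum_eq_single i]
    · rw [classInner_nsmul_left, classInner_self_of_isIrr i.2]
      simpa using him
    · intro j _ hj
      rw [classInner_nsmul_left, classInner_irr j.2 i.2, if_neg (fun h => hj (Subtype.ext h))]
      simp
    · simp
  have hsub := isCharacter_sub_of_classInner_ne_zero hres i.2 hinner
  -- `ξ_A` contains `ν`
  have hξν : classInner (fun n : A => ξ n) ν ≠ 0 := by
    have h1 : (fun n : A => ξ n) = ν + fun n : A => ((fun r : (R : Subgroup X) => ξ r) - (i : ↥(R : Subgroup X) → ℂ)) ⟨n, hAK n.2⟩ := by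
      funext n
      simp [ν]
    have h2 : IsCharacter A (fun n : A => ((fun r : (R : Subgroup X) => ξ r) - (i : ↥(R : Subgroup X) → ℂ)) ⟨n, hAK n.2⟩) :=
      isCharacter_comp (Subgroup.inclusion hAK) hsub
    obtain ⟨k, hk⟩ := exists_nat_classInner h2 hνc
    rw [h1, classInner_add_left, classInner_self_of_isIrr hνi, hk]
    have : ((1 + k : ℕ) : ℂ) ≠ 0 := by exact_mod_cast (by omega : 1 + k ≠ 0)
    simpa using this
  have e1 := restrict_eq_smul hA hξ hθ hinv hcon
  have hθν : θ = ν := by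
    by_contra hne
    apply hξν
    rw [e1, classInner_smul_left, classInner_irr hθ hνi, if_neg hne, mul_zero]
  refine ⟨R, hAK, i, ?_, hic, ?_⟩
  · exact (Nat.Prime.coprime_iff_not_dvd hp.out).mpr R.not_dvd_index |>.symm
  · intro n
    rw [hθν]

/-- An invariant character of a normal `p`-subgroup under a character of degree prime to `p` extends. -/
theorem exists_ext_of_not_dvd [Fintype A] {θ : A → ℂ} (hθ : IsIrrCharacter A θ)
    (hinv : ∀ c : X, conjOn hA c θ = θ) (hAp : IsPGroup p A) {ξ : X → ℂ} (hξ : IsIrrCharacter X ξ)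
    (hcon : classInner (fun n : A => ξ n) θ ≠ 0) (hnd : ¬ p ∣ charDegree ξ) :
    ∃ χ : X → ℂ, IsIrrCharacter X χ ∧ ∀ n : A, χ n = θ n := by
  apply Cfsg.Agent.Lib.Char.Extend.exists_irr_ext_of_local hA hθ hinv
  intro q hq
  by_cases hqp : q = p
  · subst hqp
    exact ext_at_p hA hθ hinv hAp hξ hcon hnd
  · exact ext_prime hA hθ hinv hAp hq hqp

end Ext

section Core

variable {G : Type u} [Group G] [Fintype G] {F : Subgroup G} (hF : F.Normal) [Fintype F]
  {p : ℕ} [hp : Fact p.Prime]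

/-- Characters of `G` of degree divisible by `p` have `F` in their kernel; what happens over a
nontrivial character of `F`. -/
theorem not_dvd_of_over (hker : ∀ χ : IrrCharacter G, p ∣ charDegree (χ : G → ℂ) → ∀ f : F, (χ : G → ℂ) f = (χ : G → ℂ) 1)
    {θ : F → ℂ} (hθ : IsIrrCharacter F θ) (hne : θ ≠ fun _ => 1) {χ : G → ℂ} (hχ : IsIrrCharacter G χ)
    (hcon : classInner (fun n : F => χ n) θ ≠ 0) : ¬ p ∣ charDegree χ := by
  intro hd
  have h1 := hker ⟨χ, hχ⟩ hd
  exact hne (eq_one_of_ker h1 hθ hcon)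

/-- The key step. -/
theorem sylow_comm_mod (hFp : IsPGroup p F) (hG : IsPSolvable p G)
    (hker : ∀ χ : IrrCharacter G, p ∣ charDegree (χ : G → ℂ) → ∀ f : F, (χ : G → ℂ) f = (χ : G → ℂ) 1)
    {θ : F → ℂ} (hθ : IsIrrCharacter F θ) (hne : θ ≠ fun _ => 1) :
    ¬ p ∣ (inertia hF θ).index ∧
      ∀ R : Sylow p (↥(inertia hF θ) ⧸ F.subgroupOf (inertia hF θ)),
        ∀ a ∈ (R : Subgroup (↥(inertia hF θ) ⧸ F.subgroupOf (inertia hF θ))),
        ∀ b ∈ (R : Subgroup (↥(inertia hF θ) ⧸ F.subgroupOf (inertia hF θ))), a * b = b * a := by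
  classical
  haveI := hF
  set T := inertia hF θ with hT
  have hFT : F ≤ T := le_inertia hF (isClassFunction_of_isIrrCharacter hθ)
  letI : Fintype T := Fintype.ofFinite _
  have hnd : ∀ {χ : G → ℂ}, IsIrrCharacter G χ → classInner (fun n : F => χ n) θ ≠ 0 → ¬ p ∣ charDegree χ :=
    fun hχ hcon => not_dvd_of_over hker hθ hne hχ hcon
  constructor
  · obtain ⟨χ, hχ⟩ := exists_irr_over hθ
    have h1 := deg_mul_index_dvd hF χ.2 hθ hχ
    exact fun h2 => hnd χ.2 hχ ((h2.mul_right _).trans h1)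
  -- the setting in `T`
  let F' : Subgroup T := F.subgroupOf T
  have hF' : F'.Normal := hF.subgroupOf T
  haveI := hF'
  let eqv : F' ≃* F := Subgroup.subgroupOfEquivOfLe hFT
  let θ' : F' → ℂ := θ ∘ eqv
  have hθ' : IsIrrCharacter F' θ' := isIrrCharacter_comp_mulEquiv eqv hθ
  letI : Fintype F' := Fintype.ofFinite _
  have hinv' : ∀ c : T, conjOn hF' c θ' = θ' := by
    intro c
    funext n
    have h1 := congrFun (show conjOn hF c θ = θ from c.2) (eqv n)
    simp only [conjOn_apply] at h1 ⊢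
    simp only [θ', Function.comp]
    rw [← h1]
    congr 1
  have hinner : ∀ ξ : T → ℂ, classInner (fun n : F' => ξ n) θ' = classInner (res hFT ξ) θ := by
    intro ξ
    have hres : (fun n : F' => ξ n) = res hFT ξ ∘ eqv := by
      funext n
      rfl
    rw [hres]
    exact classInner_comp_mulEquiv eqv _ _
  have hF'p : IsPGroup p F' := hFp.of_equiv eqv.symm
  have hdegind : ∀ ξ : T → ℂ, IsCharacter T ξ → charDegree (indFun T ξ) = T.index * charDegree ξ := by
    intro ξ hξ
    have h1 := charDegree_natCast (isCharacter_indFun T hξ)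
    rw [indFun_one, ← charDegree_natCast hξ] at h1
    exact_mod_cast h1
  -- a character of `T` over `θ'`
  obtain ⟨ξ₀, hξ₀⟩ := exists_irr_over hθ'
  have hres₀ : classInner (res hFT (ξ₀ : T → ℂ)) θ ≠ 0 := by
    rw [← hinner]
    exact hξ₀
  obtain ⟨h1, h2⟩ := isIrrCharacter_indFun_of_lies_over hF hFT hθ hT ξ₀.2 hres₀
  have hnd₀ : ¬ p ∣ charDegree (ξ₀ : T → ℂ) := by
    intro hd
    apply hnd h1 (by rw [h2]; exact hres₀)
    rw [hdegind _ (isCharacter_of_isIrrCharacter ξ₀.2)]
    exact hd.mul_left _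
  -- the extension
  obtain ⟨ψ, hψ, hψe⟩ := exists_ext_of_not_dvd hF' hθ' hinv' hF'p ξ₀.2 hξ₀ hnd₀
  let π := QuotientGroup.mk' F'
  have hπ : Function.Surjective π := QuotientGroup.mk'_surjective F'
  have hone := isIrr_one (G := T) F'
  have hone_inv : ∀ g : T, conjOn hF' g (fun _ : F' => (1 : ℂ)) = fun _ => (1 : ℂ) := fun g => rfl
  have hprod : ∀ θ : F' → ℂ, ((fun _ : F' => (1 : ℂ)) * θ) = θ := by
    intro θ
    funext n
    simp
  have hbij := Cfsg.Agent.Lib.Char.Gallagher.bijOn_mul_extension hF' hone hone_inv hinv'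
    (by rw [hprod]; exact hθ') hψ (by funext n; exact hψe n)
  rw [hprod] at hbij
  -- the degrees of `T/F'`
  have hdegs : ∀ β : IrrCharacter (T ⧸ F'), ¬ p ∣ charDegree (β : T ⧸ F' → ℂ) := by
    intro β
    letI : Fintype (T ⧸ F') := Fintype.ofFinite _
    have hβ : IsIrrCharacter T ((β : T ⧸ F' → ℂ) ∘ π) :=
      Cfsg.Agent.Lib.Char.Conj.isIrrCharacter_comp _ hπ β.2
    have hβd : charDegree ((β : T ⧸ F' → ℂ) ∘ π) = charDegree (β : T ⧸ F' → ℂ) := by
      have h3 := charDegree_natCast (isCharacter_of_isIrrCharacter hβ)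
      have h4 := charDegree_natCast (isCharacter_of_isIrrCharacter β.2)
      have h5 : ((charDegree ((β : T ⧸ F' → ℂ) ∘ π) : ℕ) : ℂ) = (charDegree (β : T ⧸ F' → ℂ) : ℕ) := by
        rw [h3, h4]
        simp
      exact_mod_cast h5
    have hβc := isCharacter_of_isIrrCharacter hβ
    have hmem : ((β : T ⧸ F' → ℂ) ∘ π) ∈ {β : T → ℂ | IsIrrCharacter T β ∧
        classInner (indFun F' (fun _ : F' => (1 : ℂ))) β ≠ 0} := by
      refine ⟨hβ, ?_⟩
      rw [classInner_indFun_left F' _ _ (isClassFunction_of_isIrrCharacter hβ)]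
      apply classInner_ne_zero_comm
      have h3 : (fun n : F' => ((β : T ⧸ F' → ℂ) ∘ π) n) =
          ((β : T ⧸ F' → ℂ) 1) • (fun _ : F' => (1 : ℂ)) := by
        funext n
        simp only [Function.comp, Pi.smul_apply, smul_eq_mul, mul_one]
        rw [show π (n : T) = 1 from (QuotientGroup.eq_one_iff _).mpr n.2]
      rw [h3, classInner_smul_left, classInner_self_of_isIrr hone, mul_one]
      exact irr_one_ne_zero β.2
    have hτm := hbij.mapsTo hmem
    set τ : T → ℂ := ((β : T ⧸ F' → ℂ) ∘ π) * ψ with hτdef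
    have hτ : IsIrrCharacter T τ := hτm.1
    have hτc : classInner (indFun F' θ') τ ≠ 0 := hτm.2
    have hτc' : classInner (res hFT τ) θ ≠ 0 := by
      rw [← hinner]
      rw [classInner_indFun_left F' _ _ (isClassFunction_of_isIrrCharacter hτ)] at hτc
      exact classInner_ne_zero_comm hτc
    obtain ⟨h3, h4⟩ := isIrrCharacter_indFun_of_lies_over hF hFT hθ hT hτ hτc'
    have h5 := hnd h3 (by rw [h4]; exact hτc')
    intro hd
    apply h5
    rw [hdegind _ (isCharacter_of_isIrrCharacter hτ)]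
    apply Dvd.dvd.mul_left
    have h6 : charDegree τ = charDegree ((β : T ⧸ F' → ℂ) ∘ π) * charDegree ψ := by
      have h7 := charDegree_natCast (isCharacter_of_isIrrCharacter hτ)
      have h8 : ((charDegree τ : ℕ) : ℂ) = ((charDegree ((β : T ⧸ F' → ℂ) ∘ π) * charDegree ψ : ℕ) : ℂ) := by
        rw [h7, hτdef, Pi.mul_apply]
        push_cast
        rw [charDegree_natCast hβc, charDegree_natCast (isCharacter_of_isIrrCharacter hψ)]
      exact_mod_cast h8
    rw [h6, hβd]
    exact hd.mul_right _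
  have hsolv : IsPSolvable p (T ⧸ F') :=
    Cfsg.Agent.Lib.Core.PSolvable.isPSolvable_of_surjective π hπ
      (Cfsg.Agent.Lib.Core.PSolvable.isPSolvable_subgroup T hG)
  intro R a ha b hb
  obtain ⟨-, hc⟩ := normal_comm_of_forall_not_dvd p _ (T ⧸ F') rfl hsolv hdegs R
  have := hc.is_comm.comm ⟨a, ha⟩ ⟨b, hb⟩
  exact congrArg Subtype.val this

include hF in
/-- Commutators of a Sylow subgroup lie in `F`. -/
theorem comm_in_core (hFp : IsPGroup p F) (hG : IsPSolvable p G)
    (hker : ∀ χ : IrrCharacter G, p ∣ charDegree (χ : G → ℂ) → ∀ f : F, (χ : G → ℂ) f = (χ : G → ℂ) 1)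
    {θ : F → ℂ} (hθ : IsIrrCharacter F θ) (hne : θ ≠ fun _ => 1) (P : Sylow p G) {x y : G}
    (hx : x ∈ (P : Subgroup G)) (hy : y ∈ (P : Subgroup G)) : x * y * x⁻¹ * y⁻¹ ∈ F := by
  classical
  haveI := hF
  obtain ⟨hnT, hcomm⟩ := sylow_comm_mod hF hFp hG hker hθ hne
  set T := inertia hF θ with hT
  obtain ⟨g, hg⟩ := exists_conj_le_of_not_dvd_index P.isPGroup' T hnT
  let F' : Subgroup T := F.subgroupOf T
  haveI hF' : F'.Normal := hF.subgroupOf T
  let π := QuotientGroup.mk' F'
  have hπ : Function.Surjective π := QuotientGroup.mk'_surjective F'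
  let S : Subgroup T := ((P : Subgroup G).map (MulAut.conj g⁻¹).toMonoidHom).subgroupOf T
  have hS : IsPGroup p S := (P.isPGroup'.map _).comap_subtype
  obtain ⟨R₀, hR₀⟩ := hS.exists_le_sylow
  have hmemS : ∀ z ∈ (P : Subgroup G), ∀ h : g⁻¹ * z * g ∈ T, (⟨g⁻¹ * z * g, h⟩ : T) ∈ (R₀ : Subgroup T) := by
    intro z hz h
    apply hR₀
    rw [Subgroup.mem_subgroupOf]
    refine ⟨z, hz, ?_⟩
    simp
  let R : Sylow p (T ⧸ F') := R₀.mapSurjective hπ
  have hmemR : ∀ z ∈ (P : Subgroup G), ∀ h : g⁻¹ * z * g ∈ T, π ⟨g⁻¹ * z * g, h⟩ ∈ (R : Subgroup (T ⧸ F')) := by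
    intro z hz h
    exact ⟨_, hmemS z hz h, rfl⟩
  have h1 := hcomm R _ (hmemR x hx (hg x hx)) _ (hmemR y hy (hg y hy))
  set x' : T := ⟨g⁻¹ * x * g, hg x hx⟩ with hx'
  set y' : T := ⟨g⁻¹ * y * g, hg y hy⟩ with hy'
  have h2 : π (x' * y' * x'⁻¹ * y'⁻¹) = 1 := by
    simp only [map_mul, map_inv, h1]
    group
  have h3 : x' * y' * x'⁻¹ * y'⁻¹ ∈ F' := (QuotientGroup.eq_one_iff _).mp h2
  have h4 : ((x' * y' * x'⁻¹ * y'⁻¹ : T) : G) ∈ F := h3
  have h5 : ((x' * y' * x'⁻¹ * y'⁻¹ : T) : G) = g⁻¹ * (x * y * x⁻¹ * y⁻¹) * g := by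
    simp only [hx', hy', Subgroup.coe_mul, Subgroup.coe_inv]
    group
  rw [h5] at h4
  have h6 := hF.conj_mem _ h4 g
  have h7 : g * (g⁻¹ * (x * y * x⁻¹ * y⁻¹) * g) * g⁻¹ = x * y * x⁻¹ * y⁻¹ := by group
  rwa [h7] at h6

end Core

section Derived

/-- Images of derived series. -/
theorem derived_mem {G H : Type*} [Group G] [Group H] (f : G →* H) (K : Subgroup G) (L : Subgroup H)
    (hL : L = K.map f) (m : ℕ) (h : derivedSeries L m = ⊥) (x : K) (hx : x ∈ derivedSeries K m) :
    f x = 1 := by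
  subst hL
  have h1 := map_derivedSeries_eq (f.subgroupMap_surjective K) m
  have h2 : f.subgroupMap K x ∈ derivedSeries (K.map f) m := by
    rw [← h1]
    exact ⟨x, hx, rfl⟩
  rw [h] at h2
  have h3 : f.subgroupMap K x = 1 := h2
  exact congrArg Subtype.val h3

/-- The abelian step. -/
theorem step_abelian {G : Type*} [Group G] [Finite G] {p : ℕ} [Fact p.Prime] (N : Subgroup G) [N.Normal]
    (hN : ∀ a ∈ N, ∀ b ∈ N, a * b = b * a) (P : Sylow p G) (m : ℕ)
    (h : derivedSeries ↥((P.mapSurjective (QuotientGroup.mk'_surjective N)) : Subgroup (G ⧸ N)) m = ⊥) :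
    derivedSeries ↥(P : Subgroup G) (m + 1) = ⊥ := by
  rw [derivedSeries_succ, eq_bot_iff, Subgroup.commutator_le]
  intro a ha b hb
  have h1 : (QuotientGroup.mk' N) (a : G) = 1 :=
    derived_mem (QuotientGroup.mk' N) P _ (Sylow.coe_mapSurjective _ _) m h a ha
  have h2 : (QuotientGroup.mk' N) (b : G) = 1 :=
    derived_mem (QuotientGroup.mk' N) P _ (Sylow.coe_mapSurjective _ _) m h b hb
  have h3 : (a : G) ∈ N := (QuotientGroup.eq_one_iff _).mp h1
  have h4 : (b : G) ∈ N := (QuotientGroup.eq_one_iff _).mp h2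
  rw [Subgroup.mem_bot, commutatorElement_eq_one_iff_mul_comm]
  exact Subtype.ext (hN _ h3 _ h4)

/-- The coprime step. -/
theorem step_coprime {G : Type*} [Group G] [Finite G] {p : ℕ} [hp : Fact p.Prime] (N : Subgroup G) [N.Normal]
    (hN : (Nat.card N).Coprime p) (P : Sylow p G) (m : ℕ)
    (h : derivedSeries ↥((P.mapSurjective (QuotientGroup.mk'_surjective N)) : Subgroup (G ⧸ N)) m = ⊥) :
    derivedSeries ↥(P : Subgroup G) m = ⊥ := by
  rw [eq_bot_iff]
  intro a ha
  have h1 : (QuotientGroup.mk' N) (a : G) = 1 :=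
    derived_mem (QuotientGroup.mk' N) P _ (Sylow.coe_mapSurjective _ _) m h a ha
  have h3 : (a : G) ∈ N := (QuotientGroup.eq_one_iff _).mp h1
  rw [Subgroup.mem_bot]
  apply Subtype.ext
  obtain ⟨k, hk⟩ := IsPGroup.iff_card.mp P.isPGroup'
  have h4 : orderOf (a : G) ∣ p ^ k := hk ▸ Subgroup.orderOf_dvd_natCard _ a.2
  have h5 : orderOf (a : G) ∣ Nat.card N := Subgroup.orderOf_dvd_natCard N h3
  have h6 := Nat.Coprime.coprime_dvd_left h5 (hN.pow_right k)
  exact orderOf_eq_one_iff.mp (Nat.Coprime.eq_one_of_dvd h6 h4)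

/-- Inflation of characters. -/
theorem count_le {G : Type u} [Group G] [Fintype G] (p : ℕ) (N : Subgroup G) [N.Normal] :
    Nat.card {χ : IrrCharacter (G ⧸ N) // p ∣ charDegree (χ : G ⧸ N → ℂ)} ≤
      Nat.card {χ : IrrCharacter G // p ∣ charDegree (χ : G → ℂ)} ∧
    ((∃ χ₀ : IrrCharacter G, p ∣ charDegree (χ₀ : G → ℂ) ∧ ∃ n ∈ N, (χ₀ : G → ℂ) n ≠ (χ₀ : G → ℂ) 1) →
      Nat.card {χ : IrrCharacter (G ⧸ N) // p ∣ charDegree (χ : G ⧸ N → ℂ)} <
        Nat.card {χ : IrrCharacter G // p ∣ charDegree (χ : G → ℂ)}) := by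
  classical
  let π := QuotientGroup.mk' N
  have hπ : Function.Surjective π := QuotientGroup.mk'_surjective N
  letI : Fintype (G ⧸ N) := Fintype.ofFinite _
  have hirr : ∀ β : IrrCharacter (G ⧸ N), IsIrrCharacter G ((β : G ⧸ N → ℂ) ∘ π) := fun β =>
    Cfsg.Agent.Lib.Char.Conj.isIrrCharacter_comp _ hπ β.2
  have hdeg : ∀ β : IrrCharacter (G ⧸ N), charDegree ((β : G ⧸ N → ℂ) ∘ π) = charDegree (β : G ⧸ N → ℂ) := by
    intro β
    have h3 := charDegree_natCast (isCharacter_of_isIrrCharacter (hirr β))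
    have h4 := charDegree_natCast (isCharacter_of_isIrrCharacter β.2)
    have h5 : ((charDegree ((β : G ⧸ N → ℂ) ∘ π) : ℕ) : ℂ) = (charDegree (β : G ⧸ N → ℂ) : ℕ) := by
      rw [h3, h4]
      simp
    exact_mod_cast h5
  let f : {χ : IrrCharacter (G ⧸ N) // p ∣ charDegree (χ : G ⧸ N → ℂ)} →
      {χ : IrrCharacter G // p ∣ charDegree (χ : G → ℂ)} := fun β =>
    ⟨⟨_, hirr β.1⟩, by
      show p ∣ charDegree ((β.1 : G ⧸ N → ℂ) ∘ π)
      rw [hdeg]
      exact β.2⟩
  have hf : Function.Injective f := by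
    intro a b hab
    apply Subtype.ext
    apply Subtype.ext
    have h1 : ((a.1 : G ⧸ N → ℂ) ∘ π) = (b.1 : G ⧸ N → ℂ) ∘ π :=
      congrArg (fun z : {χ : IrrCharacter G // p ∣ charDegree (χ : G → ℂ)} => (z.1 : G → ℂ)) hab
    exact hπ.injective_comp_right h1
  haveI := finite_irrCharacter (G := G)
  haveI := finite_irrCharacter (G := G ⧸ N)
  constructor
  · exact Nat.card_le_card_of_injective f hf
  · rintro ⟨χ₀, h1, n, hn, hne⟩
    letI := Fintype.ofFinite {χ : IrrCharacter (G ⧸ N) // p ∣ charDegree (χ : G ⧸ N → ℂ)}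
    letI := Fintype.ofFinite {χ : IrrCharacter G // p ∣ charDegree (χ : G → ℂ)}
    rw [Nat.card_eq_fintype_card, Nat.card_eq_fintype_card]
    apply Fintype.card_lt_of_injective_of_notMem f hf (b := ⟨χ₀, h1⟩)
    rintro ⟨β, hβ⟩
    have h2 : ((β.1 : G ⧸ N → ℂ) ∘ π) = (χ₀ : G → ℂ) :=
      congrArg (fun z : {χ : IrrCharacter G // p ∣ charDegree (χ : G → ℂ)} => (z.1 : G → ℂ)) hβ
    apply hne
    rw [← h2]
    simp only [Function.comp]
    rw [map_one, show π n = 1 from (QuotientGroup.eq_one_iff _).mpr hn]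

/-- The main induction. -/
theorem main_ind (p : ℕ) [hp : Fact p.Prime] :
    ∀ (n : ℕ) (G : Type u) [Group G] [Fintype G], Nat.card G = n → IsPSolvable p G →
      ∀ P : Sylow p G, derivedSeries ↥(P : Subgroup G)
        (Nat.card {χ : IrrCharacter G // p ∣ charDegree (χ : G → ℂ)} + 1) = ⊥ := by
  classical
  intro n
  induction n using Nat.strong_induction_on with
  | _ n ih =>
  intro G _ _ hn hsolv P
  by_cases hG : Subsingleton G
  · haveI : Subsingleton ↥(P : Subgroup G) := inferInstance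
    exact Subsingleton.elim _ _
  have hnt : Nontrivial G := not_subsingleton_iff_nontrivial.mp hG
  set c := Nat.card {χ : IrrCharacter G // p ∣ charDegree (χ : G → ℂ)} with hc
  -- the induction hypothesis for a quotient
  have hIH : ∀ (N : Subgroup G) [N.Normal], N ≠ ⊥ →
      derivedSeries ↥((P.mapSurjective (QuotientGroup.mk'_surjective N)) : Subgroup (G ⧸ N))
        (Nat.card {χ : IrrCharacter (G ⧸ N) // p ∣ charDegree (χ : G ⧸ N → ℂ)} + 1) = ⊥ := by
    intro N _ hN
    have hlt : Nat.card (G ⧸ N) < n := by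
      rw [← hn]
      have h1 := N.card_eq_card_quotient_mul_card_subgroup
      have h2 : 1 < Nat.card N := by
        have := Nat.card_pos (α := N)
        have h3 : Nat.card N ≠ 1 := by
          intro h4
          exact hN (Subgroup.card_eq_one.mp h4)
        omega
      have h5 : 0 < Nat.card (G ⧸ N) := Nat.card_pos
      nlinarith
    letI : Fintype (G ⧸ N) := Fintype.ofFinite _
    exact ih _ hlt (G ⧸ N) rfl (Cfsg.Agent.Lib.Core.PSolvable.isPSolvable_of_surjective
      (QuotientGroup.mk' N) (QuotientGroup.mk'_surjective N) hsolv) _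
  -- the key reduction
  have hkey : ∀ (N : Subgroup G) [N.Normal], (∀ a ∈ N, ∀ b ∈ N, a * b = b * a) →
      (∃ χ₀ : IrrCharacter G, p ∣ charDegree (χ₀ : G → ℂ) ∧ ∃ n ∈ N, (χ₀ : G → ℂ) n ≠ (χ₀ : G → ℂ) 1) →
      derivedSeries ↥(P : Subgroup G) (c + 1) = ⊥ := by
    intro N _ hab hex
    have hNne : N ≠ ⊥ := by
      rintro rfl
      obtain ⟨χ₀, -, x, hx, hne⟩ := hex
      rw [Subgroup.mem_bot] at hx
      rw [hx] at hne
      exact hne rfl
    have hlt := (count_le p N).2 hex
    apply step_abelian N hab P c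
    have h1 := hIH N hNne
    rw [eq_bot_iff, ← h1]
    exact derivedSeries_antitone _ (by omega)
  by_cases hO : pPrimeCore p G = ⊥
  swap
  · have hle := (count_le p (pPrimeCore p G)).1
    apply step_coprime (pPrimeCore p G) Cfsg.Agent.Lib.Core.Basic.pPrimeCore_coprime P
    have h1 := hIH _ hO
    rw [eq_bot_iff, ← h1]
    exact derivedSeries_antitone _ (by omega)
  -- the `p`-core
  set F := pCore p G with hF
  have hFn : F.Normal := inferInstance
  have hFp : IsPGroup p F := Cfsg.Agent.Lib.Core.Basic.pCore_isPGroup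
  have hC := Cfsg.Agent.Lib.Core.PSolvable.centralizer_pCore_le_of_isPSolvable hsolv hO
  letI : Fintype F := Fintype.ofFinite _
  by_cases hFab : ∀ a ∈ F, ∀ b ∈ F, a * b = b * a
  · by_cases hex : ∃ χ₀ : IrrCharacter G, p ∣ charDegree (χ₀ : G → ℂ) ∧ ∃ n ∈ F, (χ₀ : G → ℂ) n ≠ (χ₀ : G → ℂ) 1
    · exact hkey F hFab hex
    push Not at hex
    have hker : ∀ χ : IrrCharacter G, p ∣ charDegree (χ : G → ℂ) → ∀ f : F, (χ : G → ℂ) f = (χ : G → ℂ) 1 :=
      fun χ h f => hex χ h f f.2
    by_cases hc0 : c = 0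
    · -- all degrees are prime to `p`
      have hall : ∀ χ : IrrCharacter G, ¬ p ∣ charDegree (χ : G → ℂ) := by
        intro χ hχ
        haveI := finite_irrCharacter (G := G)
        have hpos : 0 < c := by
          rw [hc]
          exact Nat.card_pos_iff.mpr ⟨⟨⟨χ, hχ⟩⟩, inferInstance⟩
        omega
      obtain ⟨-, hcomm⟩ := normal_comm_of_forall_not_dvd p _ G rfl hsolv hall P
      rw [hc0, zero_add, derivedSeries_one]
      rw [eq_bot_iff, commutator_def, Subgroup.commutator_le]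
      intro a _ b _
      rw [Subgroup.mem_bot, commutatorElement_eq_one_iff_mul_comm]
      exact hcomm.is_comm.comm a b
    · -- `F` is not trivial
      have hFne : F ≠ ⊥ := by
        intro h
        have hC' : Subgroup.centralizer (F : Set G) ≤ F := hC
        rw [h] at hC'
        apply hG
        have h1 : ∀ g : G, g = 1 := by
          intro g
          have h2 : g ∈ Subgroup.centralizer ((⊥ : Subgroup G) : Set G) := by
            rw [Subgroup.mem_centralizer_iff]
            intro x hx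
            have h3 : x = 1 := hx
            rw [h3]
            simp
          exact hC' h2
        exact ⟨fun a b => by rw [h1 a, h1 b]⟩
      obtain ⟨z, hz⟩ := (Subgroup.ne_bot_iff_exists_ne_one).mp hFne
      have hconj : ¬ IsConj z 1 := fun h => hz (isConj_one_right.mp h.symm)
      rw [isConj_iff_forall_irr] at hconj
      push Not at hconj
      obtain ⟨θ, hθ⟩ := hconj
      have hθne : (θ : F → ℂ) ≠ fun _ => 1 := by
        intro h
        apply hθ
        rw [h]
      -- commutators of `P` lie in `F`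
      have hcm := fun x hx y hy => comm_in_core hFn hFp hsolv hker θ.2 hθne P (x := x) (y := y) hx hy
      have h1 : derivedSeries ↥(P : Subgroup G) 2 = ⊥ := by
        have h2 : ∀ a ∈ derivedSeries ↥(P : Subgroup G) 1, (a : G) ∈ F := by
          intro a ha
          rw [derivedSeries_one, commutator_def] at ha
          have h3 : ⁅(⊤ : Subgroup ↥(P : Subgroup G)), (⊤ : Subgroup ↥(P : Subgroup G))⁆ ≤ F.subgroupOf P := by
            rw [Subgroup.commutator_le]
            intro x _ y _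
            rw [Subgroup.mem_subgroupOf]
            have := hcm x x.2 y y.2
            simpa [commutatorElement_def] using this
          exact h3 ha
        rw [show (2 : ℕ) = 1 + 1 from rfl, derivedSeries_succ, eq_bot_iff, Subgroup.commutator_le]
        intro a ha b hb
        rw [Subgroup.mem_bot, commutatorElement_eq_one_iff_mul_comm]
        exact Subtype.ext (hFab _ (h2 a ha) _ (h2 b hb))
      rw [eq_bot_iff, ← h1]
      exact derivedSeries_antitone _ (by omega)
  · -- `F` is not abelian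
    have hFne : commutator F ≠ ⊥ := by
      intro h
      apply hFab
      intro a ha b hb
      have h1 : (⟨a, ha⟩ : F) * ⟨b, hb⟩ * (⟨a, ha⟩ : F)⁻¹ * (⟨b, hb⟩ : F)⁻¹ ∈ commutator F :=
        Subgroup.commutator_mem_commutator (Subgroup.mem_top _) (Subgroup.mem_top _)
      rw [h, Subgroup.mem_bot] at h1
      have h2 : (⟨a, ha⟩ : F) * ⟨b, hb⟩ = ⟨b, hb⟩ * ⟨a, ha⟩ := by
        have h3 : (⟨a, ha⟩ : F) * ⟨b, hb⟩ =
            ((⟨a, ha⟩ : F) * ⟨b, hb⟩ * (⟨a, ha⟩ : F)⁻¹ * (⟨b, hb⟩ : F)⁻¹) * (⟨b, hb⟩ * ⟨a, ha⟩) := by group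
        rw [h3, h1, one_mul]
      exact congrArg Subtype.val h2
    have hinf := Cfsg.Agent.Lib.Involutions2.NormalFour.inf_center_ne_bot hFp (commutator F) hFne
    obtain ⟨⟨z, hz1, hz2⟩, hz⟩ := (Subgroup.ne_bot_iff_exists_ne_one).mp hinf
    let N₀ : Subgroup F := commutator F ⊓ Subgroup.center F
    haveI : N₀.Characteristic := by
      constructor
      intro φ
      simp only [N₀]
      have e1 : (commutator F).comap φ.toMonoidHom = commutator F :=
        (inferInstance : (commutator F).Characteristic).fixed φ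
      have e2 : (Subgroup.center F).comap φ.toMonoidHom = Subgroup.center F :=
        (inferInstance : (Subgroup.center F).Characteristic).fixed φ
      rw [Subgroup.comap_inf, e1, e2]
    let N : Subgroup G := N₀.map F.subtype
    haveI hNn : N.Normal := inferInstance
    have hNab : ∀ a ∈ N, ∀ b ∈ N, a * b = b * a := by
      rintro _ ⟨a, ⟨-, ha⟩, rfl⟩ _ ⟨b, -, rfl⟩
      have h1 : a * b = b * a := (Subgroup.mem_center_iff.mp ha b).symm
      exact congrArg Subtype.val h1
    apply hkey N hNab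
    have hz1' : z ≠ 1 := fun h => hz (Subtype.ext h)
    have hconj : ¬ IsConj z 1 := fun h => hz1' (isConj_one_right.mp h.symm)
    rw [isConj_iff_forall_irr] at hconj
    push Not at hconj
    obtain ⟨θ, hθ⟩ := hconj
    -- `θ` is not linear
    have hθ1 : (θ : F → ℂ) 1 ≠ 1 := by
      intro h1
      obtain ⟨lam, hlam⟩ := exists_hom_of_deg_one (isCharacter_of_isIrrCharacter θ.2) h1
      apply hθ
      have hle : commutator F ≤ lam.ker := by
        rw [commutator_def, Subgroup.commutator_le]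
        intro a _ b _
        rw [MonoidHom.mem_ker, commutatorElement_def]
        simp only [map_mul, map_inv]
        rw [mul_comm (lam a), mul_assoc, mul_assoc]
        simp
      have h2 : lam z = 1 := hle hz1
      rw [hlam]
      simp [h2]
    have hθp : p ∣ charDegree (θ : F → ℂ) := by
      have h1 := charDegree_dvd_card θ.2
      obtain ⟨f, hf⟩ := IsPGroup.iff_card.mp hFp
      rw [hf] at h1
      obtain ⟨j, -, hj⟩ := (Nat.dvd_prime_pow hp.out).mp h1
      rcases Nat.eq_zero_or_pos j with rfl | hjpos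
      · exfalso
        apply hθ1
        rw [← charDegree_natCast (isCharacter_of_isIrrCharacter θ.2), hj]
        simp
      · rw [hj]
        exact dvd_pow_self _ hjpos.ne'
    obtain ⟨χ, hχ⟩ := exists_irr_over θ.2
    refine ⟨χ, ?_, z, ⟨z, ⟨hz1, hz2⟩, rfl⟩, ?_⟩
    · exact (hθp.trans (Dvd.intro_left _ rfl)).trans (deg_mul_index_dvd hFn χ.2 θ.2 hχ)
    · intro heq
      apply hθ
      have h1 := apply_eq_of_constituent
        (isCharacter_restrict F (isCharacter_of_isIrrCharacter χ.2)) θ.2 hχ (x := z) (by simpa using heq)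
      exact h1

end Derived

end Cfsg.Agent.Lib.Char.DerivedDiv
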