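import Cfsg.Agent.Lib.Char.CliffordCorr
import Cfsg.Agent.Lib.CharZeros.Gallagher
import Cfsg.Agent.Lib.OddChar.Dual
import Mathlib.GroupTheory.FiniteAbelian.Duality
import Mathlib.Tactic

/-!
# The going-down theorem (Isaacs 6.18)
-/

set_option autoImplicit false

namespace Cfsg.Agent.Lib.Char.GoingDown

open Cfsg Module
open Cfsg.Agent.Lib.Char.Basic Cfsg.Agent.Lib.Char.Ortho Cfsg.Agent.Lib.Char.Complete
open Cfsg.Agent.Lib.Char.Induced Cfsg.Agent.Lib.Char.Conj
open Cfsg.Agent.Lib.Char.Clifford Cfsg.Agent.Lib.Char.CliffordCorr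
open Cfsg.Agent.Lib.Char.Linear
open scoped ComplexConjugate

universe u

section Dual

variable {K : Type u} [Group K]

/-- There are finitely many homomorphisms to `ℂˣ`. -/
theorem finite_hom [Finite K] : Finite (K →* ℂˣ) := by
  have := finite_irrCharacter (G := K)
  refine Finite.of_injective
    (fun μ : K →* ℂˣ => (⟨fun k => (μ k : ℂ), isIrrCharacter_of_hom μ⟩ : IrrCharacter K)) ?_
  intro μ ν h
  ext k
  exact congrFun (congrArg Subtype.val h) k

/-- The annihilator of a subgroup of homomorphisms. -/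
def annih (S : Subgroup (K →* ℂˣ)) : Subgroup K where
  carrier := {k | ∀ μ ∈ S, μ k = 1}
  mul_mem' := by
    intro a b ha hb μ hμ
    rw [map_mul, ha μ hμ, hb μ hμ, one_mul]
  one_mem' := fun μ _ => map_one μ
  inv_mem' := by
    intro a ha μ hμ
    rw [map_inv, ha μ hμ, inv_one]

theorem mem_annih {S : Subgroup (K →* ℂˣ)} {k : K} : k ∈ annih S ↔ ∀ μ ∈ S, μ k = 1 := Iff.rfl

open Classical in
/-- Orthogonality in the first variable. -/
theorem sum_subgroup_apply (S : Subgroup (K →* ℂˣ)) [Fintype S] (k : K) :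
    ∑ μ : S, (((μ : K →* ℂˣ) k : ℂˣ) : ℂ) = if k ∈ annih S then (Nat.card S : ℂ) else 0 := by
  by_cases hk : k ∈ annih S
  · rw [if_pos hk]
    have h1 : ∀ μ : S, (((μ : K →* ℂˣ) k : ℂˣ) : ℂ) = 1 := by
      intro μ
      rw [hk μ μ.2]
      rfl
    simp only [h1, Finset.sum_const, Finset.card_univ, nsmul_eq_mul, mul_one,
      Nat.card_eq_fintype_card]
  · rw [if_neg hk]
    obtain ⟨μ₀, hμ₀, hne⟩ : ∃ μ₀ ∈ S, μ₀ k ≠ 1 := by
      by_contra hcon
      push Not at hcon
      exact hk hcon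
    have hs : ((μ₀ k : ℂˣ) : ℂ) * ∑ μ : S, (((μ : K →* ℂˣ) k : ℂˣ) : ℂ) =
        ∑ μ : S, (((μ : K →* ℂˣ) k : ℂˣ) : ℂ) := by
      rw [Finset.mul_sum]
      refine (Fintype.sum_equiv (Equiv.mulLeft (⟨μ₀, hμ₀⟩ : S)) _ _ ?_)
      intro μ
      simp
    have hne' : ((μ₀ k : ℂˣ) : ℂ) ≠ 1 := fun h => hne (Units.ext h)
    have h0 : (1 - ((μ₀ k : ℂˣ) : ℂ)) * ∑ μ : S, (((μ : K →* ℂˣ) k : ℂˣ) : ℂ) = 0 := by
      rw [sub_mul, one_mul, hs, sub_self]
    exact (mul_eq_zero.mp h0).resolve_left (sub_ne_zero.mpr hne'.symm)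

/-- Orthogonality in the second variable. -/
theorem sum_apply_hom [Fintype K] (μ : K →* ℂˣ) (hμ : μ ≠ 1) :
    ∑ k : K, ((μ k : ℂˣ) : ℂ) = 0 := by
  obtain ⟨k₀, hk₀⟩ : ∃ k₀, μ k₀ ≠ 1 := by
    by_contra hcon
    push Not at hcon
    exact hμ (MonoidHom.ext hcon)
  have hs : ((μ k₀ : ℂˣ) : ℂ) * ∑ k : K, ((μ k : ℂˣ) : ℂ) = ∑ k : K, ((μ k : ℂˣ) : ℂ) := by
    rw [Finset.mul_sum]
    refine (Fintype.sum_equiv (Equiv.mulLeft k₀) _ _ ?_)
    intro k
    simp
  have hne' : ((μ k₀ : ℂˣ) : ℂ) ≠ 1 := fun h => hk₀ (Units.ext h)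
  have h0 : (1 - ((μ k₀ : ℂˣ) : ℂ)) * ∑ k : K, ((μ k : ℂˣ) : ℂ) = 0 := by
    rw [sub_mul, one_mul, hs, sub_self]
  exact (mul_eq_zero.mp h0).resolve_left (sub_ne_zero.mpr hne'.symm)

/-- Duality: `|S| |S^⊥| = |K|`. -/
theorem card_mul_card_annih [Finite K] (S : Subgroup (K →* ℂˣ)) :
    Nat.card S * Nat.card (annih S) = Nat.card K := by
  classical
  letI : Fintype K := Fintype.ofFinite K
  have := finite_hom (K := K)
  letI : Fintype S := Fintype.ofFinite S
  have h1 : ∑ k : K, ∑ μ : S, (((μ : K →* ℂˣ) k : ℂˣ) : ℂ) =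
      (Nat.card S : ℂ) * (Nat.card (annih S) : ℂ) := by
    simp only [sum_subgroup_apply]
    rw [Finset.sum_ite, Finset.sum_const_zero, add_zero, Finset.sum_const, nsmul_eq_mul, mul_comm]
    congr 2
    rw [Nat.card_eq_fintype_card, Fintype.card_subtype]
  have h2 : ∑ k : K, ∑ μ : S, (((μ : K →* ℂˣ) k : ℂˣ) : ℂ) = (Nat.card K : ℂ) := by
    rw [Finset.sum_comm, Finset.sum_eq_single (1 : S)]
    · simp [Nat.card_eq_fintype_card]
    · intro μ _ hμ
      exact sum_apply_hom μ.1 (fun h => hμ (Subtype.ext h))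
    · intro h
      exact absurd (Finset.mem_univ _) h
  have h3 := h1.symm.trans h2
  exact_mod_cast h3

/-- The homomorphisms trivial on a subgroup. -/
def dualOf (L : Subgroup K) : Subgroup (K →* ℂˣ) where
  carrier := {μ | ∀ l ∈ L, μ l = 1}
  mul_mem' := by
    intro a b ha hb l hl
    simp [ha l hl, hb l hl]
  one_mem' := fun _ _ => rfl
  inv_mem' := by
    intro a ha l hl
    simp [ha l hl]

theorem mem_dualOf {L : Subgroup K} {μ : K →* ℂˣ} : μ ∈ dualOf L ↔ ∀ l ∈ L, μ l = 1 := Iff.rfl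

theorem annih_dualOf [Finite K] {L : Subgroup K} (hL : L.Normal)
    (hab : ∀ a b : K, a * b * a⁻¹ * b⁻¹ ∈ L) : annih (dualOf L) = L := by
  apply le_antisymm
  · intro k hk
    by_contra hkL
    letI : CommGroup (K ⧸ L) :=
      { (QuotientGroup.Quotient.group L) with
        mul_comm := by
          intro a b
          obtain ⟨a, rfl⟩ := QuotientGroup.mk_surjective a
          obtain ⟨b, rfl⟩ := QuotientGroup.mk_surjective b
          change ((a * b : K) : K ⧸ L) = ((b * a : K) : K ⧸ L)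
          rw [QuotientGroup.eq]
          have := hab b⁻¹ a⁻¹
          simpa [mul_assoc] using this }
    have hen := Cfsg.Agent.Lib.OddChar.Dual.enough (K ⧸ L)
    have hne : ((k : K) : K ⧸ L) ≠ 1 := fun h => hkL ((QuotientGroup.eq_one_iff k).mp h)
    obtain ⟨φ, hφ⟩ := CommGroup.exists_apply_ne_one_of_hasEnoughRootsOfUnity (K ⧸ L) ℂ hne
    let μ : K →* ℂˣ := φ.comp (QuotientGroup.mk' L)
    have hμ : μ ∈ dualOf L := by
      intro l hl
      change φ ((l : K) : K ⧸ L) = 1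
      rw [(QuotientGroup.eq_one_iff l).mpr hl, map_one]
    exact hφ (hk μ hμ)
  · intro l hl μ hμ
    exact hμ l hl

theorem card_dualOf [Finite K] {L : Subgroup K} (hL : L.Normal)
    (hab : ∀ a b : K, a * b * a⁻¹ * b⁻¹ ∈ L) : Nat.card (dualOf L) = L.index := by
  have h1 := card_mul_card_annih (dualOf L)
  rw [annih_dualOf hL hab] at h1
  have h2 := L.card_mul_index
  have hpos : 0 < Nat.card L := Nat.card_pos
  have : Nat.card (dualOf L) * Nat.card L = L.index * Nat.card L := by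
    rw [h1, ← h2, mul_comm]
  exact Nat.eq_of_mul_eq_mul_right hpos this

end Dual

section Core

variable {K : Type u} [Group K] [Fintype K] {L : Subgroup K}

/-- The homomorphisms trivial on `L` fixing `ϑ` under multiplication. -/
def stab (L : Subgroup K) (ϑ : K → ℂ) : Subgroup (K →* ℂˣ) where
  carrier := {μ | μ ∈ dualOf L ∧ ∀ k, ((μ k : ℂˣ) : ℂ) * ϑ k = ϑ k}
  mul_mem' := by
    rintro a b ⟨ha, ha'⟩ ⟨hb, hb'⟩
    refine ⟨(dualOf L).mul_mem ha hb, fun k => ?_⟩
    rw [MonoidHom.mul_apply, Units.val_mul, mul_assoc, hb', ha']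
  one_mem' := ⟨(dualOf L).one_mem, fun k => by simp⟩
  inv_mem' := by
    rintro a ⟨ha, ha'⟩
    refine ⟨(dualOf L).inv_mem ha, fun k => ?_⟩
    have h1 := ha' k
    have h2 : ((a⁻¹ k : ℂˣ) : ℂ) * ((a k : ℂˣ) : ℂ) = 1 := by
      rw [← Units.val_mul]
      simp
    calc ((a⁻¹ k : ℂˣ) : ℂ) * ϑ k = ((a⁻¹ k : ℂˣ) : ℂ) * (((a k : ℂˣ) : ℂ) * ϑ k) := by rw [h1]
      _ = ϑ k := by rw [← mul_assoc, h2, one_mul]

theorem stab_le_dualOf (L : Subgroup K) (ϑ : K → ℂ) : stab L ϑ ≤ dualOf L := fun _ h => h.1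

/-- The norm of the restriction to `L` counts the stabilizer. -/
theorem classInner_restrict_self (hL : L.Normal) [Fintype L]
    (hab : ∀ a b : K, a * b * a⁻¹ * b⁻¹ ∈ L) {ϑ : K → ℂ} (hϑ : IsIrrCharacter K ϑ) :
    classInner (fun l : L => ϑ l) (fun l : L => ϑ l) = (Nat.card (stab L ϑ) : ℂ) := by
  classical
  have := finite_hom (K := K)
  letI : Fintype (dualOf L) := Fintype.ofFinite _
  have hstep1 : ∑ μ : dualOf L, classInner (fun k => (((μ : K →* ℂˣ) k : ℂˣ) : ℂ) * ϑ k) ϑ =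
      (Nat.card (stab L ϑ) : ℂ) := by
    have h1 : ∀ μ : dualOf L, classInner (fun k => (((μ : K →* ℂˣ) k : ℂˣ) : ℂ) * ϑ k) ϑ =
        if (μ : K →* ℂˣ) ∈ stab L ϑ then 1 else 0 := by
      intro μ
      by_cases hμ : (μ : K →* ℂˣ) ∈ stab L ϑ
      · rw [if_pos hμ]
        have : (fun k => (((μ : K →* ℂˣ) k : ℂˣ) : ℂ) * ϑ k) = ϑ := funext hμ.2
        rw [this]
        exact classInner_self_of_isIrr hϑ
      · rw [if_neg hμ]
        apply classInner_eq_zero_of_isIrr_of_ne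
        · exact Cfsg.Agent.Lib.CharZeros.Gallagher.isIrrCharacter_mul_linear
            (isCharacter_of_isIrrCharacter (isIrrCharacter_of_hom μ.1)) (by simp) hϑ
        · exact hϑ
        · intro h
          exact hμ ⟨μ.2, fun k => congrFun h k⟩
    simp only [h1]
    rw [Finset.sum_boole, ← Fintype.card_subtype, ← Nat.card_eq_fintype_card]
    congr 1
    exact Nat.card_congr
      { toFun := fun x => ⟨x.1.1, x.2⟩
        invFun := fun y => ⟨⟨y.1, stab_le_dualOf L ϑ y.2⟩, y.2⟩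
        left_inv := fun x => rfl
        right_inv := fun y => rfl }
  have hstep2 : ∑ μ : dualOf L, classInner (fun k => (((μ : K →* ℂˣ) k : ℂˣ) : ℂ) * ϑ k) ϑ =
      classInner (fun l : L => ϑ l) (fun l : L => ϑ l) := by
    simp only [classInner]
    rw [← Finset.mul_sum, Finset.sum_comm]
    have h2 : ∀ k : K, ∑ μ : dualOf L, (((μ : K →* ℂˣ) k : ℂˣ) : ℂ) * ϑ k * conj (ϑ k) =
        extendByZero L (fun l : L => (L.index : ℂ) * (ϑ l * conj (ϑ l))) k := by
      intro k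
      simp only [mul_assoc]
      rw [← Finset.sum_mul, sum_subgroup_apply, annih_dualOf hL hab, card_dualOf hL hab]
      by_cases hk : k ∈ L
      · rw [if_pos hk, extendByZero_of_mem _ _ hk]
      · rw [if_neg hk, extendByZero_of_not_mem _ _ hk, zero_mul]
    simp only [h2]
    rw [sum_extendByZero, ← Finset.mul_sum, ← mul_assoc]
    congr 1
    have h3 : (Nat.card K : ℂ) = (Nat.card L : ℂ) * (L.index : ℂ) := by
      exact_mod_cast L.card_mul_index.symm
    have hL0 : (Nat.card L : ℂ) ≠ 0 := card_subgroup_ne_zero L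
    have hi0 : (L.index : ℂ) ≠ 0 := by
      exact_mod_cast L.index_ne_zero_of_finite
    rw [h3]
    field_simp
  rw [← hstep2, hstep1]

/-- The degree equation from Clifford's theorem. -/
theorem exists_sq_mul_index (hL : L.Normal) [Fintype L]
    (hab : ∀ a b : K, a * b * a⁻¹ * b⁻¹ ∈ L) {ϑ : K → ℂ} (hϑ : IsIrrCharacter K ϑ)
    {φ : L → ℂ} (hφ : IsIrrCharacter L φ) (hcon : classInner (fun l : L => ϑ l) φ ≠ 0) :
    ∃ e : ℕ, classInner (fun l : L => ϑ l) φ = e ∧
      e ^ 2 * (inertia hL φ).index = Nat.card (stab L ϑ) := by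
  classical
  have hres := clifford_restrict hL hϑ hφ hcon
  obtain ⟨e, he⟩ := exists_nat_classInner
    (isCharacter_restrict L (isCharacter_of_isIrrCharacter hϑ)) (isCharacter_of_isIrrCharacter hφ)
  refine ⟨e, he, ?_⟩
  rw [he] at hres
  have horb : ∀ ψ ∈ orbitFinset hL φ, IsIrrCharacter L ψ := by
    intro ψ hψ
    obtain ⟨g, rfl⟩ := (mem_orbitFinset hL φ ψ).mp hψ
    exact isIrrCharacter_conjOn hL g hφ
  have hnorm : classInner (∑ ψ ∈ orbitFinset hL φ, ψ) (∑ ψ ∈ orbitFinset hL φ, ψ) =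
      ((orbitFinset hL φ).card : ℂ) := by
    rw [classInner_sum_left]
    have h1 : ∀ ψ ∈ orbitFinset hL φ, classInner ψ (∑ ψ' ∈ orbitFinset hL φ, ψ') = 1 := by
      intro ψ hψ
      rw [classInner_sum_right, Finset.sum_eq_single ψ]
      · exact classInner_self_of_isIrr (horb ψ hψ)
      · intro b hb hne
        exact classInner_eq_zero_of_isIrr_of_ne (horb ψ hψ) (horb b hb) hne.symm
      · intro h
        exact absurd hψ h
    rw [Finset.sum_congr rfl h1]
    simp
  have h1 := classInner_restrict_self hL hab hϑ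
  rw [hres, classInner_smul_left, classInner_smul_right, hnorm, card_orbit_eq_index] at h1
  simp only [map_natCast] at h1
  have h2 : ((e ^ 2 * (inertia hL φ).index : ℕ) : ℂ) = (Nat.card (stab L ϑ) : ℂ) := by
    rw [← h1]
    push_cast
    ring
  exact_mod_cast h2

theorem annih_stab_invariant {ϑ : K → ℂ} (α : K ≃* K) (hαL : ∀ l ∈ L, α l ∈ L)
    (hαϑ : ∀ k, ϑ (α k) = ϑ k) {d : K} (hd : d ∈ annih (stab L ϑ)) :
    α d ∈ annih (stab L ϑ) := by
  intro μ hμ
  have hμ' : μ.comp α.toMonoidHom ∈ stab L ϑ := by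
    refine ⟨fun l hl => hμ.1 _ (hαL l hl), fun k => ?_⟩
    have := hμ.2 (α k)
    rw [hαϑ] at this
    exact this
  exact hd _ hμ'

theorem le_annih_stab (L : Subgroup K) (ϑ : K → ℂ) : L ≤ annih (stab L ϑ) :=
  fun l hl _ hμ => hμ.1 l hl

theorem inertia_invariant (hL : L.Normal) [Fintype L]
    (hab : ∀ a b : K, a * b * a⁻¹ * b⁻¹ ∈ L) {ϑ : K → ℂ} (hϑ : IsIrrCharacter K ϑ)
    {φ : L → ℂ} (hφ : IsIrrCharacter L φ) (hcon : classInner (fun l : L => ϑ l) φ ≠ 0)
    (α : K ≃* K) (hαL : ∀ l ∈ L, α l ∈ L) (hαL' : ∀ l ∈ L, α.symm l ∈ L)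
    (hαϑ : ∀ k, ϑ (α k) = ϑ k) {t : K} (ht : t ∈ inertia hL φ) : α t ∈ inertia hL φ := by
  classical
  let e : L ≃* L :=
    { toFun := fun x => ⟨α x, hαL x x.2⟩
      invFun := fun x => ⟨α.symm x, hαL' x x.2⟩
      left_inv := fun x => Subtype.ext (by simp)
      right_inv := fun x => Subtype.ext (by simp)
      map_mul' := fun x y => Subtype.ext (by simp) }
  have hψ : IsIrrCharacter L (φ ∘ e) := isIrrCharacter_comp_mulEquiv e hφ
  have hcon' : classInner (fun l : L => ϑ l) (φ ∘ e) ≠ 0 := by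
    have h1 : (fun l : L => ϑ l) = (fun l : L => ϑ l) ∘ e := by
      funext l
      exact (hαϑ l).symm
    rw [h1, classInner_comp_mulEquiv]
    exact hcon
  obtain ⟨k, hk⟩ : ∃ k : K, conjOn hL k φ = φ ∘ e := by
    by_contra hne
    push Not at hne
    exact hcon' (classInner_restrict_eq_zero_of_not_conj hL hϑ hφ hψ hcon hne)
  set f : K → ℂ := extendByZero L φ with hf
  have hfL : ∀ (x : K) (hx : x ∈ L), f x = φ ⟨x, hx⟩ := fun x hx => extendByZero_of_mem L φ hx
  have hkf : ∀ y ∈ L, f (α y) = f (k * y * k⁻¹) := by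
    intro y hy
    rw [hfL _ (hαL y hy), hfL _ (hL.conj_mem y hy k)]
    exact (congrFun hk ⟨y, hy⟩).symm
  have htf : ∀ y ∈ L, f (t * y * t⁻¹) = f y := by
    intro y hy
    rw [hfL _ hy, hfL _ (hL.conj_mem y hy t)]
    exact congrFun ht ⟨y, hy⟩
  have hcf : ∀ c ∈ L, ∀ y ∈ L, f (c * y * c⁻¹) = f y := by
    intro c hc y hy
    rw [hfL _ hy, hfL _ (hL.conj_mem y hy c)]
    exact isClassFunction_of_isIrrCharacter hφ ⟨y, hy⟩ ⟨c, hc⟩
  change conjOn hL (α t) φ = φ
  funext x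
  rw [conjOn_apply]
  have hx := x.2
  have hy : α.symm (x : K) ∈ L := hαL' _ hx
  set y := α.symm (x : K) with hydef
  have hαy : α y = x := by simp [hydef]
  have hxe : (x : K) = α y := hαy.symm
  have h1 : (α t * x * (α t)⁻¹ : K) = α (t * y * t⁻¹) := by
    rw [hxe]
    simp
  have hc : k * t * k⁻¹ * t⁻¹ ∈ L := hab k t
  have hk1 : k * t * k⁻¹ * t⁻¹ * k⁻¹ = k * t * k⁻¹ * t⁻¹ * k⁻¹ := rfl
  have hty := hL.conj_mem y hy t
  have hky := hL.conj_mem y hy k
  have hmain : f (α (t * y * t⁻¹)) = f (α y) := by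
    rw [hkf _ hty]
    have h2 : k * (t * y * t⁻¹) * k⁻¹ =
        (k * t * k⁻¹ * t⁻¹) * (t * (k * y * k⁻¹) * t⁻¹) * (k * t * k⁻¹ * t⁻¹)⁻¹ := by
      group
    rw [h2, hcf _ hc _ (hL.conj_mem _ hky t), htf _ hky, hkf y hy]
  have hfinal := hmain
  rw [← h1, ← hxe, hfL _ (hL.conj_mem (x : K) hx (α t)), hfL _ hx] at hfinal
  exact hfinal

/-- The abstract form of the going-down theorem. -/
theorem going_down_abstract (hL : L.Normal) [Fintype L]
    (hab : ∀ a b : K, a * b * a⁻¹ * b⁻¹ ∈ L) {ϑ : K → ℂ} (hϑ : IsIrrCharacter K ϑ)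
    (𝓐 : Set (K ≃* K)) (hA : ∀ α ∈ 𝓐, (∀ l ∈ L, α l ∈ L) ∧ (∀ l ∈ L, α.symm l ∈ L))
    (hinv : ∀ α ∈ 𝓐, ∀ k, ϑ (α k) = ϑ k)
    (hchief : ∀ M : Subgroup K, L ≤ M → (∀ α ∈ 𝓐, ∀ m ∈ M, α m ∈ M) → M = L ∨ M = ⊤) :
    IsIrrCharacter L (fun l : L => ϑ l) ∨
      (∃ (φ : L → ℂ) (e : ℕ), IsIrrCharacter L φ ∧ (fun l : L => ϑ l) = (e : ℂ) • φ ∧
        e ^ 2 = L.index) ∨
      (∃ F : Finset (L → ℂ), (∀ φ ∈ F, IsIrrCharacter L φ) ∧ F.card = L.index ∧
        (fun l : L => ϑ l) = ∑ φ ∈ F, φ) := by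
  classical
  have hne : (fun l : L => ϑ l) ≠ 0 := by
    intro h0
    have := congrFun h0 1
    simp only [OneMemClass.coe_one, Pi.zero_apply] at this
    exact irr_one_ne_zero hϑ this
  have hcfL : IsClassFunction L (fun l : L => ϑ l) :=
    isClassFunction_of_isCharacter (isCharacter_restrict L (isCharacter_of_isIrrCharacter hϑ))
  obtain ⟨φ, hφ, hcon⟩ := exists_irr_constituent hcfL hne
  obtain ⟨e, he, heq⟩ := exists_sq_mul_index hL hab hϑ hφ hcon
  have hres := clifford_restrict hL hϑ hφ hcon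
  rw [he] at hres
  have hcard := card_mul_card_annih (stab L ϑ)
  have hLT : L ≤ inertia hL φ := le_inertia hL (isClassFunction_of_isIrrCharacter hφ)
  have horbtop : inertia hL φ = ⊤ → orbitFinset hL φ = {φ} := by
    intro hT
    ext ψ
    rw [mem_orbitFinset, Finset.mem_singleton]
    constructor
    · rintro ⟨g, rfl⟩
      have hg : g ∈ inertia hL φ := by rw [hT]; trivial
      exact hg
    · rintro rfl
      exact ⟨1, conjOn_one hL _⟩
  have hcK : 0 < Nat.card K := Nat.card_pos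
  rcases hchief (annih (stab L ϑ)) (le_annih_stab L ϑ)
      (fun α hα m hm => annih_stab_invariant α (hA α hα).1 (hinv α hα) hm) with hD | hD
  · -- `S^⊥ = L`
    rw [hD] at hcard
    have hcardS : Nat.card (stab L ϑ) = L.index := by
      have h2 := L.card_mul_index
      have hpos : 0 < Nat.card L := Nat.card_pos
      have : Nat.card (stab L ϑ) * Nat.card L = L.index * Nat.card L := by
        rw [hcard, ← h2, mul_comm]
      exact Nat.eq_of_mul_eq_mul_right hpos this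
    rw [hcardS] at heq
    rcases hchief (inertia hL φ) hLT
        (fun α hα m hm => inertia_invariant hL hab hϑ hφ hcon α (hA α hα).1 (hA α hα).2
          (hinv α hα) hm) with hT | hT
    · -- non-homogeneous
      rw [hT] at heq
      have hi0 : 0 < L.index := Nat.pos_of_ne_zero Subgroup.index_ne_zero_of_finite
      have he1 : e = 1 := by
        have : e ^ 2 = 1 := by
          have h3 : e ^ 2 * L.index = 1 * L.index := by rw [heq, one_mul]
          exact Nat.eq_of_mul_eq_mul_right hi0 h3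
        exact (Nat.pow_eq_one.mp this).resolve_right (by norm_num)
      right
      right
      refine ⟨orbitFinset hL φ, ?_, ?_, ?_⟩
      · intro ψ hψ
        obtain ⟨g, rfl⟩ := (mem_orbitFinset hL φ ψ).mp hψ
        exact isIrrCharacter_conjOn hL g hφ
      · rw [card_orbit_eq_index, hT]
      · rw [hres, he1]
        simp
    · -- homogeneous
      rw [hT, Subgroup.index_top, mul_one] at heq
      rw [horbtop hT, Finset.sum_singleton] at hres
      right
      left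
      exact ⟨φ, e, hφ, hres, heq⟩
  · -- `S^⊥ = K`
    rw [hD, Subgroup.card_top] at hcard
    have hcardS : Nat.card (stab L ϑ) = 1 := by
      have : Nat.card (stab L ϑ) * Nat.card K = 1 * Nat.card K := by rw [hcard, one_mul]
      exact Nat.eq_of_mul_eq_mul_right hcK this
    rw [hcardS] at heq
    have he1 : e = 1 := by
      have := Nat.eq_one_of_mul_eq_one_right heq
      exact (Nat.pow_eq_one.mp this).resolve_right (by norm_num)
    have hi1 : (inertia hL φ).index = 1 := Nat.eq_one_of_mul_eq_one_left heq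
    have hT : inertia hL φ = ⊤ := Subgroup.index_eq_one.mp hi1
    rw [horbtop hT, Finset.sum_singleton, he1] at hres
    left
    have : (fun l : L => ϑ l) = φ := by
      rw [hres]
      simp
    rw [this]
    exact hφ

end Core

section Main

variable {G : Type u} [Group G] [Fintype G]

/-- **Going down** (Isaacs 6.18). -/
theorem going_down (K L : Subgroup G) [hK : K.Normal] [hLn : L.Normal] (hLK : L < K)
    (hchief : ∀ M : Subgroup G, M.Normal → L ≤ M → M ≤ K → M = L ∨ M = K)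
    (hab : ⁅K, K⁆ ≤ L) (ϑ : K → ℂ) (hϑ : IsIrrCharacter K ϑ)
    (hinv : ∀ (g : G) (n : K), ϑ ⟨g * n * g⁻¹, hK.conj_mem (n : G) n.2 g⟩ = ϑ n) :
    IsIrrCharacter L (fun x : L => ϑ ⟨(x : G), hLK.le x.2⟩) ∨
      (∃ (φ : L → ℂ) (e : ℕ), IsIrrCharacter L φ ∧
        (fun x : L => ϑ ⟨(x : G), hLK.le x.2⟩) = (e : ℂ) • φ ∧ e ^ 2 = L.relIndex K) ∨
      (∃ F : Finset (L → ℂ), (∀ φ ∈ F, IsIrrCharacter L φ) ∧ F.card = L.relIndex K ∧
        (fun x : L => ϑ ⟨(x : G), hLK.le x.2⟩) = ∑ φ ∈ F, φ) := by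
  classical
  letI : Fintype K := Fintype.ofFinite K
  set L' : Subgroup K := L.subgroupOf K with hL'
  have hL'n : L'.Normal := hLn.subgroupOf K
  letI : Fintype L' := Fintype.ofFinite L'
  have hab' : ∀ a b : K, a * b * a⁻¹ * b⁻¹ ∈ L' := by
    intro a b
    rw [hL', Subgroup.mem_subgroupOf]
    exact hab (Subgroup.commutator_mem_commutator a.2 b.2)
  let 𝓐 : Set (K ≃* K) := Set.range (fun g : G => MulAut.conjNormal g)
  have hA : ∀ α ∈ 𝓐, (∀ l ∈ L', α l ∈ L') ∧ (∀ l ∈ L', α.symm l ∈ L') := by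
    rintro _ ⟨g, rfl⟩
    constructor
    · intro l hl
      rw [hL', Subgroup.mem_subgroupOf] at hl ⊢
      exact hLn.conj_mem _ hl g
    · intro l hl
      rw [hL', Subgroup.mem_subgroupOf] at hl ⊢
      rw [MulAut.conjNormal_symm_apply]
      have := hLn.conj_mem _ hl g⁻¹
      rwa [inv_inv] at this
  have hinv' : ∀ α ∈ 𝓐, ∀ k, ϑ (α k) = ϑ k := by
    rintro _ ⟨g, rfl⟩ k
    rw [← hinv g k]
    congr 1
  have hchief' : ∀ M : Subgroup K, L' ≤ M → (∀ α ∈ 𝓐, ∀ m ∈ M, α m ∈ M) → M = L' ∨ M = ⊤ := by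
    intro M hLM hM
    have hMn : (M.map K.subtype).Normal := by
      constructor
      rintro _ ⟨m, hm, rfl⟩ g
      have h1 := hM _ ⟨g, rfl⟩ m hm
      exact ⟨_, h1, MulAut.conjNormal_apply g m⟩
    have hLM' : L ≤ M.map K.subtype := by
      intro l hl
      exact ⟨⟨l, hLK.le hl⟩, hLM (Subgroup.mem_subgroupOf.mpr hl), rfl⟩
    rcases hchief _ hMn hLM' (Subgroup.map_subtype_le M) with h | h
    · left
      apply le_antisymm
      · intro m hm
        rw [hL', Subgroup.mem_subgroupOf, ← h]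
        exact ⟨m, hm, rfl⟩
      · exact hLM
    · right
      rw [eq_top_iff]
      intro k _
      have : (k : G) ∈ M.map K.subtype := by
        rw [h]
        exact k.2
      obtain ⟨m, hm, hmk⟩ := this
      have : m = k := Subtype.ext hmk
      rwa [← this]
  have hmain := going_down_abstract hL'n hab' hϑ 𝓐 hA hinv' hchief'
  let eqv : L ≃* L' := (Subgroup.subgroupOfEquivOfLe hLK.le).symm
  have hcomp : (fun x : L => ϑ ⟨(x : G), hLK.le x.2⟩) = (fun l : L' => ϑ l) ∘ eqv := rfl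
  rw [hcomp]
  rcases hmain with h | ⟨φ, e, hφ, h1, h2⟩ | ⟨F, hF, h1, h2⟩
  · left
    exact isIrrCharacter_comp_mulEquiv eqv h
  · right
    left
    refine ⟨φ ∘ eqv, e, isIrrCharacter_comp_mulEquiv eqv hφ, ?_, h2⟩
    rw [h1]
    rfl
  · right
    right
    refine ⟨F.image (fun φ => φ ∘ eqv), ?_, ?_, ?_⟩
    · intro ψ hψ
      obtain ⟨φ, hφ, rfl⟩ := Finset.mem_image.mp hψ
      exact isIrrCharacter_comp_mulEquiv eqv (hF φ hφ)
    · rw [Finset.card_image_of_injective]
      · exact h1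
      · intro a b hab
        funext x
        have := congrFun hab (eqv.symm x)
        simpa using this
    · rw [Finset.sum_image]
      · rw [h2]
        funext x
        simp [Finset.sum_apply]
      · intro a _ b _ hab
        funext x
        have := congrFun hab (eqv.symm x)
        simpa using this

end Main

end Cfsg.Agent.Lib.Char.GoingDown
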