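import Cfsg.Agent.Lib.Char.Product
import Cfsg.Agent.Lib.Char.Gallagher
import Cfsg.Agent.Lib.Char.Extend
import Cfsg.Agent.Lib.Char.Linear
import Cfsg.Agent.Lib.Char.DerivedDiv
import Cfsg.Agent.Lib.FG7.FrobeniusCoset
import Mathlib.GroupTheory.RegularWreathProduct

/-!
# The wreath product of an M-group with a group of prime order is an M-group

Consequently every finite solvable group embeds in a finite M-group (Dade).

* `irr_fin_pi`, `irr_pi`: irreducible characters of `Q → A` are products over `Q`.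
* `prod_family_inj`: the factors are unique.
-/

set_option autoImplicit false
set_option linter.style.haveILetI false
set_option linter.unusedVariables false
set_option linter.unusedSectionVars false

namespace Cfsg.Agent.Lib.Char.MWreath

open Cfsg Module RegularWreathProduct
open Cfsg.Agent.Lib.Char.Basic Cfsg.Agent.Lib.Char.Ortho Cfsg.Agent.Lib.Char.Complete
open Cfsg.Agent.Lib.Char.Induced Cfsg.Agent.Lib.Char.IndRep Cfsg.Agent.Lib.Char.Conj
open Cfsg.Agent.Lib.Char.Clifford Cfsg.Agent.Lib.Char.CliffordCorr Cfsg.Agent.Lib.Char.Gallagher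
open Cfsg.Agent.Lib.Char.Linear Cfsg.Agent.Lib.Char.Product
open scoped ComplexConjugate

universe u

section PiIrr

variable {A : Type u} [Group A] [Finite A]

/-- Irreducible characters of `Fin n → A`. -/
theorem irr_fin_pi (n : ℕ) (θ : (Fin n → A) → ℂ) (hθ : IsIrrCharacter (Fin n → A) θ) :
    ∃ α : Fin n → A → ℂ, (∀ i, IsIrrCharacter A (α i)) ∧ θ = fun x => ∏ i, α i (x i) := by
  induction n with
  | zero =>
    refine ⟨fun i => i.elim0, fun i => i.elim0, ?_⟩
    funext x
    have hx : x = 1 := Subsingleton.elim _ _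
    have h1 : θ 1 = 1 := isIrr_deg_one_of_comm (fun a b => Subsingleton.elim _ _) hθ
    simp [hx, h1]
  | succ n ih =>
    let e : A × (Fin n → A) ≃* (Fin (n + 1) → A) :=
      { toFun := fun p => Fin.cons p.1 p.2
        invFun := fun f => (f 0, Fin.tail f)
        left_inv := fun p => by simp
        right_inv := fun f => by simp
        map_mul' := fun p q => by
          funext i
          refine Fin.cases ?_ (fun j => ?_) i <;> simp }
    have h1 : IsIrrCharacter (A × (Fin n → A)) (θ ∘ e) := isIrrCharacter_comp_mulEquiv e hθ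
    obtain ⟨φ, ψ, hφ, hψ, hθe⟩ := (isIrr_prod_iff _).mp h1
    obtain ⟨β, hβ, hψβ⟩ := ih ψ hψ
    refine ⟨Fin.cons φ β, ?_, ?_⟩
    · intro i
      refine Fin.cases ?_ (fun j => ?_) i
      · simpa using hφ
      · simpa using hβ j
    · funext f
      have h2 : θ f = (θ ∘ e) (f 0, Fin.tail f) := by
        simp only [Function.comp, e]
        congr 1
        change f = Fin.cons (f 0) (Fin.tail f)
        simp
      rw [h2, hθe, Fin.prod_univ_succ]
      simp only [Fin.cons_zero, Fin.cons_succ, hψβ]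
      rfl

/-- Irreducible characters of `Q → A`. -/
theorem irr_pi {Q : Type*} [Fintype Q] (θ : (Q → A) → ℂ) (hθ : IsIrrCharacter (Q → A) θ) :
    ∃ α : Q → A → ℂ, (∀ i, IsIrrCharacter A (α i)) ∧ θ = fun x => ∏ i, α i (x i) := by
  classical
  let σ := Fintype.equivFin Q
  let e : (Fin (Fintype.card Q) → A) ≃* (Q → A) :=
    { toFun := fun f => f ∘ σ
      invFun := fun g => g ∘ σ.symm
      left_inv := fun f => by funext i; simp
      right_inv := fun f => by funext i; simp
      map_mul' := fun p q => rfl }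
  have h1 := isIrrCharacter_comp_mulEquiv e hθ
  obtain ⟨α, hα, hαe⟩ := irr_fin_pi _ _ h1
  refine ⟨fun q => α (σ q), fun q => hα _, ?_⟩
  funext g
  have h2 : θ g = (θ ∘ e) (g ∘ σ.symm) := by
    simp only [Function.comp, e]
    congr 1
    change g = (g ∘ σ.symm) ∘ σ
    funext i; simp
  rw [h2, hαe]
  simp only
  rw [← Equiv.prod_comp σ]
  simp

/-- The factors of a product of irreducible characters are unique. -/
theorem prod_family_inj [Fintype A] {Q : Type*} [Fintype Q] {α α' : Q → A → ℂ}
    (hα : ∀ q, IsIrrCharacter A (α q)) (hα' : ∀ q, IsIrrCharacter A (α' q))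
    (h : ∀ f : Q → A, ∏ q, α q (f q) = ∏ q, α' q (f q)) : α = α' := by
  classical
  funext q₀
  set C := ∏ q ∈ Finset.univ.erase q₀, α q 1 with hC
  set C' := ∏ q ∈ Finset.univ.erase q₀, α' q 1 with hC'
  have hC0 : C ≠ 0 := Finset.prod_ne_zero_iff.mpr fun q _ => irr_one_ne_zero (hα q)
  have hC0' : C' ≠ 0 := Finset.prod_ne_zero_iff.mpr fun q _ => irr_one_ne_zero (hα' q)
  have key : ∀ a : A, α q₀ a * C = α' q₀ a * C' := by
    intro a
    have h1 := h (Function.update (1 : Q → A) q₀ a)
    have h2 : ∀ (β : Q → A → ℂ), ∏ q, β q (Function.update (1 : Q → A) q₀ a q) =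
        β q₀ a * ∏ q ∈ Finset.univ.erase q₀, β q 1 := by
      intro β
      rw [← Finset.mul_prod_erase Finset.univ (fun q => β q (Function.update (1 : Q → A) q₀ a q))
        (Finset.mem_univ q₀), Function.update_self]
      congr 1
      refine Finset.prod_congr rfl fun q hq => ?_
      rw [Function.update_of_ne (Finset.ne_of_mem_erase hq)]
      rfl
    rwa [h2, h2] at h1
  by_contra hne
  have h0 := classInner_eq_zero_of_isIrr_of_ne (hα q₀) (hα' q₀) hne
  have h3 : α q₀ = (C' / C) • α' q₀ := by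
    funext a
    simp only [Pi.smul_apply, smul_eq_mul]
    field_simp
    rw [mul_comm C']
    exact key a
  rw [h3, classInner_smul_left, classInner_self_of_isIrr (hα' q₀), mul_one] at h0
  exact (div_ne_zero hC0' hC0) h0

end PiIrr

section Wreath

variable {A Q : Type u} [Group A] [Group Q]

/-- The base group of the regular wreath product. -/
def base (A Q : Type u) [Group A] [Group Q] : Subgroup (A ≀ᵣ Q) := (rightHom : A ≀ᵣ Q →* Q).ker

theorem mem_base {w : A ≀ᵣ Q} : w ∈ base A Q ↔ w.right = 1 := Iff.rfl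

instance base_normal : (base A Q).Normal := MonoidHom.normal_ker _

/-- The base group as a function group. -/
def baseEquiv : base A Q ≃* (Q → A) where
  toFun b := b.1.left
  invFun f := ⟨⟨f, 1⟩, rfl⟩
  left_inv b := by
    apply Subtype.ext
    ext q
    · rfl
    · exact b.2.symm
  right_inv f := rfl
  map_mul' a b := by
    funext q
    have ha : a.1.right = 1 := a.2
    change (a.1 * b.1).left q = a.1.left q * b.1.left q
    rw [mul_left]
    simp [ha]

theorem conj_left (w : A ≀ᵣ Q) {b : A ≀ᵣ Q} (hb : b ∈ base A Q) (x : Q) :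
    (w * b * w⁻¹).left x = w.left x * b.left (w.right⁻¹ * x) * (w.left x)⁻¹ := by
  have hb' : b.right = 1 := hb
  simp [mul_left, inv_left, hb', mul_assoc]

theorem inv_conj_left (w : A ≀ᵣ Q) {b : A ≀ᵣ Q} (hb : b ∈ base A Q) (x : Q) :
    (w⁻¹ * b * w).left x = (w.left (w.right * x))⁻¹ * b.left (w.right * x) * w.left (w.right * x) := by
  have hb' : b.right = 1 := hb
  simp [mul_left, inv_left, hb', mul_assoc]

theorem inv_conj_right (w : A ≀ᵣ Q) {b : A ≀ᵣ Q} (hb : b ∈ base A Q) :
    (w⁻¹ * b * w).right = 1 := by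
  have hb' : b.right = 1 := hb
  simp [hb']

/-- The product function on the base group. -/
def prodFun [Fintype Q] (α : Q → A → ℂ) : base A Q → ℂ := fun b => ∏ q, α q (b.1.left q)

/-- Conjugation of the product function. -/
theorem conjOn_prodFun [Fintype Q] {α : Q → A → ℂ} (hα : ∀ q, IsClassFunction A (α q))
    (w : A ≀ᵣ Q) :
    conjOn (base_normal (A := A) (Q := Q)) w (prodFun α) = prodFun fun q => α (w.right * q) := by
  funext b
  change ∏ x, α x ((w * b.1 * w⁻¹).left x) = ∏ q, α (w.right * q) (b.1.left q)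
  rw [← Equiv.prod_comp (Equiv.mulLeft w.right)]
  refine Finset.prod_congr rfl fun y _ => ?_
  simp only [Equiv.coe_mulLeft]
  rw [conj_left w b.2, hα _ _ _]
  simp

/-- Exchanging a product of sums. -/
theorem sum_prod_conj [Fintype Q] [Fintype A] [DecidableEq Q] (f : Q → A) (F : Q → A → ℂ) :
    ∑ g : Q → A, ∏ y, F y ((g y)⁻¹ * f y * g y) = ∏ y, ∑ a : A, F y (a⁻¹ * f y * a) := by
  rw [Finset.prod_univ_sum, Fintype.piFinset_univ]

section Family

variable [Fintype Q] [Fintype A]

/-- The product of subgroups inside the base group. -/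
def B0 (H : Q → Subgroup A) : Subgroup (A ≀ᵣ Q) where
  carrier := {w | w.right = 1 ∧ ∀ q, w.left q ∈ H q}
  one_mem' := ⟨rfl, fun q => (H q).one_mem⟩
  mul_mem' := by
    rintro a b ⟨ha, ha'⟩ ⟨hb, hb'⟩
    refine ⟨by simp [ha, hb], fun q => ?_⟩
    simp only [mul_left, Pi.mul_apply, ha, inv_one, one_mul]
    exact (H q).mul_mem (ha' q) (hb' q)
  inv_mem' := by
    rintro a ⟨ha, ha'⟩
    refine ⟨by simp [ha], fun q => ?_⟩
    simp only [inv_left, ha, one_mul, Pi.inv_apply]
    exact (H q).inv_mem (ha' q)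

theorem B0_le_base (H : Q → Subgroup A) : B0 H ≤ base A Q := fun _ hw => hw.1

/-- The linear character of `B0`. -/
def mu0 (H : Q → Subgroup A) (lam : ∀ q, H q →* ℂˣ) : B0 H →* ℂˣ where
  toFun w := ∏ q, lam q ⟨w.1.left q, w.2.2 q⟩
  map_one' := by
    refine Finset.prod_eq_one fun q _ => ?_
    exact (lam q).map_one
  map_mul' := by
    intro a b
    rw [← Finset.prod_mul_distrib]
    refine Finset.prod_congr rfl fun q _ => ?_
    rw [← map_mul]
    congr 1
    apply Subtype.ext
    have ha : a.1.right = 1 := a.2.1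
    change (a.1 * b.1).left q = a.1.left q * b.1.left q
    simp [mul_left, ha]

theorem extendByZero_B0 (H : Q → Subgroup A) (lam : ∀ q, H q →* ℂˣ) {z : A ≀ᵣ Q}
    (hz : z ∈ base A Q) :
    extendByZero (B0 H) (fun h => ((mu0 H lam h : ℂˣ) : ℂ)) z =
      ∏ q, extendByZero (H q) (fun h => ((lam q h : ℂˣ) : ℂ)) (z.left q) := by
  by_cases h : z ∈ B0 H
  · rw [extendByZero_of_mem _ _ h]
    simp only [mu0, MonoidHom.coe_mk, OneHom.coe_mk, Units.coe_prod]
    refine Finset.prod_congr rfl fun q _ => ?_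
    rw [extendByZero_of_mem _ _ (h.2 q)]
  · rw [extendByZero_of_not_mem _ _ h]
    have h1 : ∃ q, z.left q ∉ H q := by
      by_contra hcon
      push Not at hcon
      exact h ⟨hz, hcon⟩
    obtain ⟨q, hq⟩ := h1
    symm
    apply Finset.prod_eq_zero (Finset.mem_univ q)
    exact extendByZero_of_not_mem _ _ hq

theorem card_B0 (H : Q → Subgroup A) : Nat.card (B0 H) = ∏ q, Nat.card (H q) := by
  classical
  rw [← Nat.card_pi]
  apply Nat.card_congr
  exact
    { toFun := fun w q => ⟨w.1.left q, w.2.2 q⟩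
      invFun := fun f => ⟨⟨fun q => (f q).1, 1⟩, rfl, fun q => (f q).2⟩
      left_inv := fun w => by
        apply Subtype.ext
        ext q
        · rfl
        · exact w.2.1.symm
      right_inv := fun f => rfl }

/-- A product of monomial characters is induced from a linear character of `B0`. -/
theorem prodFun_eq_indFun [Fintype (base A Q)] (H : Q → Subgroup A) (lam : ∀ q, H q →* ℂˣ) :
    prodFun (fun q => indFun (H q) (fun h => ((lam q h : ℂˣ) : ℂ))) =
      indFun ((B0 H).subgroupOf (base A Q)) (fun x =>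
        ((mu0 H lam ⟨(x : base A Q), Subgroup.mem_subgroupOf.mp x.2⟩ : ℂˣ) : ℂ)) := by
  classical
  funext b
  rw [indFun_apply]
  have hcard : Nat.card ((B0 H).subgroupOf (base A Q)) = ∏ q, Nat.card (H q) := by
    rw [← card_B0 H]
    exact Nat.card_congr (Subgroup.subgroupOfEquivOfLe (B0_le_base H)).toEquiv
  rw [hcard]
  have hext : ∀ y : base A Q, extendByZero ((B0 H).subgroupOf (base A Q)) (fun x =>
        ((mu0 H lam ⟨(x : base A Q), Subgroup.mem_subgroupOf.mp x.2⟩ : ℂˣ) : ℂ)) (y⁻¹ * b * y) =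
      ∏ q, extendByZero (H q) (fun h => ((lam q h : ℂˣ) : ℂ))
        (((y : A ≀ᵣ Q).left q)⁻¹ * (b : A ≀ᵣ Q).left q * (y : A ≀ᵣ Q).left q) := by
    intro y
    have h1 : extendByZero ((B0 H).subgroupOf (base A Q)) (fun x =>
        ((mu0 H lam ⟨(x : base A Q), Subgroup.mem_subgroupOf.mp x.2⟩ : ℂˣ) : ℂ)) (y⁻¹ * b * y) =
        extendByZero (B0 H) (fun h => ((mu0 H lam h : ℂˣ) : ℂ)) ((y⁻¹ * b * y : base A Q) : A ≀ᵣ Q) := by
      by_cases hy : ((y⁻¹ * b * y : base A Q) : A ≀ᵣ Q) ∈ B0 H
      · rw [extendByZero_of_mem _ _ (Subgroup.mem_subgroupOf.mpr hy), extendByZero_of_mem _ _ hy]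
      · rw [extendByZero_of_not_mem _ _ (fun h => hy (Subgroup.mem_subgroupOf.mp h)),
          extendByZero_of_not_mem _ _ hy]
    rw [h1, extendByZero_B0 H lam (y⁻¹ * b * y).2]
    refine Finset.prod_congr rfl fun q _ => ?_
    congr 1
    have h5 : baseEquiv (y⁻¹ * b * y) = (baseEquiv y)⁻¹ * baseEquiv b * baseEquiv y := by
      simp only [map_mul, map_inv]
    exact congrFun h5 q
  simp only [hext]
  have h4 : ∑ y : base A Q, ∏ q, extendByZero (H q) (fun h => ((lam q h : ℂˣ) : ℂ))
      (((y : A ≀ᵣ Q).left q)⁻¹ * (b : A ≀ᵣ Q).left q * (y : A ≀ᵣ Q).left q) =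
      ∑ g : Q → A, ∏ q, extendByZero (H q) (fun h => ((lam q h : ℂˣ) : ℂ))
        ((g q)⁻¹ * (b : A ≀ᵣ Q).left q * g q) :=
    Fintype.sum_equiv (baseEquiv (A := A) (Q := Q)).toEquiv _ _ (fun y => rfl)
  rw [h4, sum_prod_conj]
  simp only [prodFun, indFun_apply]
  rw [Finset.prod_mul_distrib, Nat.cast_prod, Finset.prod_inv_distrib]

end Family

section Constant

variable [Fintype Q] [Fintype A]

/-- The wreath product of a subgroup with `Q`. -/
def T0 (H : Subgroup A) : Subgroup (A ≀ᵣ Q) where
  carrier := {w | ∀ q, w.left q ∈ H}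
  one_mem' := fun q => H.one_mem
  mul_mem' := by
    intro a b ha hb q
    simp only [mul_left, Pi.mul_apply]
    exact H.mul_mem (ha q) (hb _)
  inv_mem' := by
    intro a ha q
    simp only [inv_left, Pi.inv_apply]
    exact H.inv_mem (ha _)

/-- The linear character of `H ≀ Q` given by a linear character of `H`. -/
def muHat (H : Subgroup A) (lam : H →* ℂˣ) : T0 (Q := Q) H →* ℂˣ where
  toFun w := ∏ q, lam ⟨w.1.left q, w.2 q⟩
  map_one' := by
    refine Finset.prod_eq_one fun q _ => ?_
    exact lam.map_one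
  map_mul' := by
    intro a b
    rw [← Equiv.prod_comp (Equiv.mulLeft a.1.right⁻¹) (fun q => lam ⟨b.1.left q, b.2 q⟩),
      ← Finset.prod_mul_distrib]
    refine Finset.prod_congr rfl fun q _ => ?_
    rw [← map_mul]
    congr 1

theorem extendByZero_T0 (H : Subgroup A) (lam : H →* ℂˣ) (z : A ≀ᵣ Q) :
    extendByZero (T0 H) (fun h => ((muHat H lam h : ℂˣ) : ℂ)) z =
      ∏ q, extendByZero H (fun h => ((lam h : ℂˣ) : ℂ)) (z.left q) := by
  by_cases h : z ∈ T0 H
  · rw [extendByZero_of_mem _ _ h]
    simp only [muHat, MonoidHom.coe_mk, OneHom.coe_mk, Units.coe_prod]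
    refine Finset.prod_congr rfl fun q _ => ?_
    rw [extendByZero_of_mem _ _ (h q)]
  · rw [extendByZero_of_not_mem _ _ h]
    have h1 : ∃ q, z.left q ∉ H := by
      by_contra hcon
      push Not at hcon
      exact h hcon
    obtain ⟨q, hq⟩ := h1
    symm
    apply Finset.prod_eq_zero (Finset.mem_univ q)
    exact extendByZero_of_not_mem _ _ hq

theorem card_T0 (H : Subgroup A) :
    Nat.card (T0 (Q := Q) H) = Nat.card H ^ Nat.card Q * Nat.card Q := by
  classical
  rw [← Nat.card_fun, ← Nat.card_prod]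
  apply Nat.card_congr
  exact
    { toFun := fun w => (fun q => ⟨w.1.left q, w.2 q⟩, w.1.right)
      invFun := fun f => ⟨⟨fun q => (f.1 q).1, f.2⟩, fun q => (f.1 q).2⟩
      left_inv := fun w => rfl
      right_inv := fun f => rfl }

/-- The restriction to the base group of the character induced from `H ≀ Q`. -/
theorem indFun_T0_apply [Fintype (A ≀ᵣ Q)] (H : Subgroup A) (lam : H →* ℂˣ) {b : A ≀ᵣ Q}
    (hb : b ∈ base A Q) :
    indFun (T0 H) (fun h => ((muHat H lam h : ℂˣ) : ℂ)) b =
      ∏ q, indFun H (fun h => ((lam h : ℂˣ) : ℂ)) (b.left q) := by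
  classical
  rw [indFun_apply]
  set E : A → ℂ := extendByZero H (fun h => ((lam h : ℂˣ) : ℂ)) with hE
  have h1 : ∀ w : A ≀ᵣ Q, extendByZero (T0 H) (fun h => ((muHat H lam h : ℂˣ) : ℂ)) (w⁻¹ * b * w) =
      ∏ y, E ((w.left y)⁻¹ * b.left y * w.left y) := by
    intro w
    rw [extendByZero_T0, ← Equiv.prod_comp (Equiv.mulLeft w.right)
      (fun y => E ((w.left y)⁻¹ * b.left y * w.left y))]
    refine Finset.prod_congr rfl fun x _ => ?_
    rw [inv_conj_left w hb]
    rfl
  simp only [h1]
  have h2 : ∑ w : A ≀ᵣ Q, ∏ y, E ((w.left y)⁻¹ * b.left y * w.left y) =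
      ∑ p : (Q → A) × Q, ∏ y, E ((p.1 y)⁻¹ * b.left y * p.1 y) :=
    Fintype.sum_equiv (equivProd A Q) _ _ (fun w => rfl)
  rw [h2, Fintype.sum_prod_type]
  simp only [Finset.sum_const, Finset.card_univ, nsmul_eq_mul]
  rw [← Finset.mul_sum, sum_prod_conj, card_T0, ← Nat.card_eq_fintype_card]
  simp only [indFun_apply]
  rw [Finset.prod_mul_distrib, Finset.prod_const, Finset.card_univ, ← Nat.card_eq_fintype_card]
  have hQ : (Nat.card Q : ℂ) ≠ 0 := by exact_mod_cast Nat.card_pos.ne'
  push_cast
  rw [mul_inv]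
  rw [inv_pow]
  field_simp
  rfl

end Constant

/-- The property of being an M-group. -/
def IsM (M : Type u) [Group M] [Fintype M] : Prop :=
  ∀ χ : M → ℂ, IsIrrCharacter M χ →
    ∃ (H : Subgroup M) (lam : H →* ℂˣ), χ = indFun H (fun h => ((lam h : ℂˣ) : ℂ))

theorem indFun_one_of_mem {G : Type u} [Group G] [Fintype G] {N : Subgroup G} (hN : N.Normal)
    {g : G} (hg : g ∈ N) :
    indFun N (fun _ => (1 : ℂ)) g = (Nat.card N : ℂ)⁻¹ * (Nat.card G : ℂ) := by
  rw [indFun_apply]
  congr 1
  have : ∀ x : G, extendByZero N (fun _ => (1 : ℂ)) (x⁻¹ * g * x) = 1 := by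
    intro x
    have hx : x⁻¹ * g * x ∈ N := by
      have := hN.conj_mem g hg x⁻¹
      simpa using this
    rw [extendByZero_of_mem _ _ hx]
  simp [this, Nat.card_eq_fintype_card]

/-- The main step: the wreath product of an M-group with a group of prime order is an M-group. -/
theorem isM_wreath [Fintype A] [Fintype Q] [Fintype (A ≀ᵣ Q)] (hA : IsM A)
    (hQ : (Nat.card Q).Prime) : IsM (A ≀ᵣ Q) := by
  classical
  intro χ hχ
  letI : Fintype (base A Q) := Fintype.ofFinite _
  have hN : (base A Q).Normal := base_normal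
  have hχc := isCharacter_of_isIrrCharacter hχ
  have hχcf := isClassFunction_of_isCharacter hχc
  have hres : IsCharacter (base A Q) (fun n => χ n) := isCharacter_comp (base A Q).subtype hχc
  have hne : (fun n : base A Q => χ n) ≠ 0 := by
    intro h
    have := congrFun h 1
    exact irr_one_ne_zero hχ (by simpa using this)
  obtain ⟨θ, hθ, hcon⟩ := exists_irr_constituent (isClassFunction_of_isCharacter hres) hne
  have hθcf := isClassFunction_of_isCharacter (isCharacter_of_isIrrCharacter hθ)
  obtain ⟨α, hα, hαθ⟩ := irr_pi (θ ∘ (baseEquiv (A := A) (Q := Q)).symm)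
    (isIrrCharacter_comp_mulEquiv _ hθ)
  have hθα : θ = prodFun α := by
    funext b
    have := congrFun hαθ (baseEquiv b)
    have h2 : θ b = ∏ i, α i (baseEquiv b i) := by simpa using this
    exact h2
  have hαcf : ∀ q, IsClassFunction A (α q) := fun q =>
    isClassFunction_of_isCharacter (isCharacter_of_isIrrCharacter (hα q))
  by_cases hconst : ∀ q, α q = α 1
  · -- the invariant case
    obtain ⟨H, lam, ha⟩ := hA (α 1) (hα 1)
    set ξ : A ≀ᵣ Q → ℂ := indFun (T0 H) (fun h => ((muHat H lam h : ℂˣ) : ℂ)) with hξ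
    have hξres : (fun n : base A Q => ξ n) = θ := by
      funext b
      rw [hξ, indFun_T0_apply H lam b.2, hθα, ← ha]
      refine Finset.prod_congr rfl fun q _ => ?_
      rw [hconst q]
    letI : Fintype (T0 (Q := Q) H) := Fintype.ofFinite _
    have hξc : IsCharacter (A ≀ᵣ Q) ξ := isCharacter_indFun (T0 H)
      (isCharacter_of_isIrrCharacter (isIrrCharacter_of_hom (muHat H lam)))
    have hξi : IsIrrCharacter (A ≀ᵣ Q) ξ :=
      Cfsg.Agent.Lib.Char.Extend.isIrrCharacter_of_restrict_isIrr (base A Q) hξc (by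
        rw [hξres]; exact hθ)
    have hinv : ∀ g : A ≀ᵣ Q, conjOn hN g θ = θ := by
      intro g
      rw [hθα]
      rw [conjOn_prodFun hαcf g]
      congr 1
      funext q
      rw [hconst q, hconst (g.right * q)]
    have hone : IsIrrCharacter (base A Q) (fun _ => (1 : ℂ)) := by
      simpa using isIrrCharacter_of_hom (1 : base A Q →* ℂˣ)
    have honeinv : ∀ g : A ≀ᵣ Q, conjOn hN g (fun _ => (1 : ℂ)) = fun _ => (1 : ℂ) :=
      fun g => rfl
    have hprodeq : ((fun _ => (1 : ℂ)) * θ) = θ := by
      funext x; simp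
    have hbij := bijOn_mul_extension hN hone honeinv hinv (by rw [hprodeq]; exact hθ) hξi hξres
    have hχmem : χ ∈ {ψ : A ≀ᵣ Q → ℂ | IsIrrCharacter (A ≀ᵣ Q) ψ ∧
        classInner (indFun (base A Q) ((fun _ => (1 : ℂ)) * θ)) ψ ≠ 0} := by
      refine ⟨hχ, ?_⟩
      rw [hprodeq, classInner_indFun_left _ _ _ hχcf]
      exact classInner_ne_zero_comm hcon
    obtain ⟨β, ⟨hβ, hβc⟩, hβχ⟩ := hbij.surjOn hχmem
    have hβc' : IsCharacter (A ≀ᵣ Q) β := isCharacter_of_isIrrCharacter hβ
    have h1 : ∀ n ∈ base A Q, β n = β 1 := by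
      intro n hn
      have hind : IsCharacter (A ≀ᵣ Q) (indFun (base A Q) (fun _ => (1 : ℂ))) :=
        isCharacter_indFun _ (isCharacter_of_isIrrCharacter hone)
      exact Cfsg.Agent.Lib.Char.DerivedDiv.apply_eq_of_constituent hind hβ hβc (by
        rw [indFun_one_of_mem hN hn, indFun_one_of_mem hN (one_mem _)])
    obtain ⟨φ', hφ', hβφ⟩ := isIrrCharacter_descend (rightHom : A ≀ᵣ Q →* Q)
      (fun q => ⟨⟨1, q⟩, rfl⟩) hβ (fun k hk => h1 k hk)
    haveI : Fact (Nat.card Q).Prime := ⟨hQ⟩
    have hc : ∀ a b : Q, a * b = b * a := by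
      haveI : IsCyclic Q := isCyclic_of_prime_card rfl
      exact isMulCommutative_iff.mp IsCyclic.isMulCommutative
    have hφ1 := isIrr_deg_one_of_comm hc hφ'
    have hβ1 : β 1 = 1 := by
      rw [hβφ]
      simpa using hφ1
    obtain ⟨l, hl⟩ := exists_hom_of_deg_one hβc' hβ1
    refine ⟨T0 H, (muHat H lam) * (l.comp (T0 H).subtype), ?_⟩
    rw [← hβχ]
    simp only
    rw [mul_comm, hξ, indFun_mul_of_isClassFunction _ _ (isClassFunction_of_isCharacter hβc')]
    congr 1
    funext h
    simp [hl]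
  · -- the non-invariant case
    have hT : base A Q = inertia hN θ := by
      apply le_antisymm (le_inertia hN hθcf)
      intro w hw
      have hw' : conjOn hN w θ = θ := hw
      rw [hθα, conjOn_prodFun hαcf w] at hw'
      have h1 : (fun q => α (w.right * q)) = α := by
        apply prod_family_inj (fun q => hα _) hα
        intro f
        exact congrFun hw' ((baseEquiv (A := A) (Q := Q)).symm f)
      let S : Subgroup Q :=
        { carrier := {r | ∀ q, α (r * q) = α q}
          one_mem' := fun q => by simp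
          mul_mem' := by
            intro a b ha hb q
            rw [mul_assoc, ha, hb]
          inv_mem' := by
            intro a ha q
            have := ha (a⁻¹ * q)
            rw [mul_inv_cancel_left] at this
            exact this.symm }
      haveI : Fact (Nat.card Q).Prime := ⟨hQ⟩
      have hS : w.right ∈ S := fun q => congrFun h1 q
      rcases Subgroup.eq_bot_or_eq_top_of_prime_card S with h | h
      · rw [h, Subgroup.mem_bot] at hS
        exact hS
      · exfalso
        apply hconst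
        intro q
        have : q ∈ S := by rw [h]; exact Subgroup.mem_top q
        have h2 := this 1
        rwa [mul_one] at h2
    obtain ⟨ψ, hψ, hψχ, hψc⟩ := exists_irr_inertia_of_lies_over hN le_rfl hθ hT hχ hcon
    have hψθ : ψ = θ := by
      by_contra hne'
      have h0 := classInner_eq_zero_of_isIrr_of_ne hψ hθ hne'
      have hres' : res (le_refl (base A Q)) ψ = ψ := rfl
      rw [hres', h0] at hψc
      exact hcon hψc.symm
    choose H lam hHlam using fun q => hA (α q) (hα q)
    have h3 : θ = prodFun (fun q => indFun (H q) (fun h => ((lam q h : ℂˣ) : ℂ))) := by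
      rw [hθα]
      congr 1
      funext q
      exact hHlam q
    refine ⟨B0 H, mu0 H lam, ?_⟩
    rw [← hψχ, hψθ, h3, prodFun_eq_indFun H lam]
    exact indFun_indFun (B0 H) (base A Q) (B0_le_base H)
      (fun h : B0 H => ((mu0 H lam h : ℂˣ) : ℂ))

end Wreath

section Embed

/-- A group with a normal subgroup embeds in the wreath product. -/
theorem exists_embed {G A : Type u} [Group G] [Group A] (N : Subgroup G) [hN : N.Normal]
    (φ : N →* A) (hφ : Function.Injective φ) :
    ∃ f : G →* A ≀ᵣ (G ⧸ N), Function.Injective f := by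
  classical
  let s : G ⧸ N → G := Quotient.out
  have hs : ∀ q : G ⧸ N, ((s q : G) : G ⧸ N) = q := fun q => QuotientGroup.out_eq' q
  have hmem : ∀ (g : G) (x : G ⧸ N), (s x)⁻¹ * g * s ((g : G ⧸ N)⁻¹ * x) ∈ N := by
    intro g x
    rw [← QuotientGroup.eq_one_iff]
    rw [QuotientGroup.mk_mul, QuotientGroup.mk_mul, QuotientGroup.mk_inv, hs, hs]
    group
  let f : G →* A ≀ᵣ (G ⧸ N) :=
    { toFun := fun g => ⟨fun x => φ ⟨(s x)⁻¹ * g * s ((g : G ⧸ N)⁻¹ * x), hmem g x⟩, (g : G ⧸ N)⟩
      map_one' := by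
        ext x
        · simp only [one_left, Pi.one_apply]
          have : (⟨(s x)⁻¹ * 1 * s (((1 : G) : G ⧸ N)⁻¹ * x), hmem 1 x⟩ : N) = 1 := by
            apply Subtype.ext
            simp
          rw [this, map_one]
        · rfl
      map_mul' := by
        intro g h
        ext x
        · simp only [mul_left, Pi.mul_apply]
          rw [← map_mul]
          congr 1
          apply Subtype.ext
          simp only [Subgroup.coe_mul, QuotientGroup.mk_mul, mul_inv_rev, mul_assoc,
            mul_inv_cancel_left]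
        · rfl }
  refine ⟨f, ?_⟩
  intro g h hgh
  have h1 : (g : G ⧸ N) = (h : G ⧸ N) := congrArg RegularWreathProduct.right hgh
  have h2 := congrFun (congrArg RegularWreathProduct.left hgh) 1
  have h3 := hφ h2
  have h4 := congrArg Subtype.val h3
  simp only at h4
  rw [h1] at h4
  exact mul_left_cancel (mul_right_cancel h4)

theorem isM_of_subsingleton {M : Type u} [Group M] [Fintype M] [Subsingleton M] : IsM M := by
  intro χ hχ
  refine ⟨⊤, 1, ?_⟩
  have h1 : χ 1 = 1 := isIrr_deg_one_of_comm (fun a b => Subsingleton.elim _ _) hχ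
  funext g
  have hg : g = 1 := Subsingleton.elim _ _
  rw [hg, h1, indFun_one]
  simp

/-- **Dade**: every finite solvable group embeds in a finite M-group. -/
theorem exists_isM_embed (n : ℕ) : ∀ (G : Type u) [Group G] [Finite G] [Group.IsSolvable G],
    Nat.card G = n → ∃ (M : Type u) (_ : Group M) (_ : Fintype M), IsM M ∧
      ∃ f : G →* M, Function.Injective f := by
  induction n using Nat.strong_induction_on with
  | _ n ih =>
    intro G _ _ _ hn
    by_cases hG : Nontrivial G
    · obtain ⟨K, hKn, hKp⟩ := Cfsg.Agent.Lib.FG7.FrobeniusCoset.exists_normal_prime_index (G := G)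
      haveI := hKn
      have hlt : Nat.card K < n := by
        rw [← hn, ← Subgroup.card_mul_index K]
        have := hKp.one_lt
        have h0 : 0 < Nat.card K := Nat.card_pos
        nlinarith
      obtain ⟨A, _, _, hA, φ, hφ⟩ := ih _ hlt K rfl
      obtain ⟨f, hf⟩ := exists_embed K φ hφ
      letI : Fintype (G ⧸ K) := Fintype.ofFinite _
      letI : Fintype (A ≀ᵣ (G ⧸ K)) := Fintype.ofFinite _
      exact ⟨A ≀ᵣ (G ⧸ K), inferInstance, inferInstance, isM_wreath hA hKp, f, hf⟩
    · rw [not_nontrivial_iff_subsingleton] at hG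
      letI : Fintype G := Fintype.ofFinite _
      exact ⟨G, inferInstance, inferInstance, isM_of_subsingleton, MonoidHom.id G,
        Function.injective_id⟩

end Embed

end Cfsg.Agent.Lib.Char.MWreath
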