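import Cfsg.Agent.Lib.Char.FrobSchur
import Cfsg.Agent.Lib.Char.Clifford
import Cfsg.Agent.Lib.CharZeros.Average
import Cfsg.Agent.Lib.Char.Central
import Cfsg.Agent.Lib.Char.Eigen
import Mathlib.Tactic

/-!
# Real characters over a normal subgroup of odd index

If `N` is normal of odd index in `G` and `φ` is a real irreducible character of `N`, then at most
one real irreducible character of `G` lies over `φ` (a parity argument), and if `φ` has
Frobenius-Schur indicator `+1` there is exactly one irreducible character of `G` over `φ` of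
indicator `+1`.
-/

set_option autoImplicit false
set_option linter.unusedSectionVars false

namespace Cfsg.Agent.Lib.Char.OddIndexReal

open Cfsg Module
open Cfsg.Agent.Lib.Char.Basic Cfsg.Agent.Lib.Char.Ortho Cfsg.Agent.Lib.Char.Complete
open Cfsg.Agent.Lib.Char.Conj Cfsg.Agent.Lib.Char.Clifford
open Cfsg.Agent.Lib.CharZeros.Average
open scoped ComplexConjugate

universe u

/-- A sum constant along a fixed point free involution is twice an algebraic integer. -/
theorem isIntegral_half_sum_of_involution {ι : Type*} [DecidableEq ι] (s : Finset ι) (τ : ι → ι)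
    (hτs : ∀ i ∈ s, τ i ∈ s) (hττ : ∀ i ∈ s, τ (τ i) = i) (hfix : ∀ i ∈ s, τ i ≠ i)
    (f : ι → ℂ) (hf : ∀ i ∈ s, IsIntegral ℤ (f i)) (hfτ : ∀ i ∈ s, f (τ i) = f i) :
    IsIntegral ℤ ((∑ i ∈ s, f i) / 2) := by
  induction' h : s.card using Nat.strong_induction_on with m ih generalizing s
  by_cases hs : s.Nonempty
  · obtain ⟨i, hi⟩ := hs
    have hτi := hτs i hi
    have hne := hfix i hi
    set s' := (s.erase i).erase (τ i) with hs'
    have hmem : ∀ j, j ∈ s' ↔ j ≠ τ i ∧ j ≠ i ∧ j ∈ s := by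
      intro j
      simp [hs', Finset.mem_erase]
    have hτs' : ∀ j ∈ s', τ j ∈ s' := by
      intro j hj
      obtain ⟨h1, h2, h3⟩ := (hmem j).mp hj
      refine (hmem _).mpr ⟨?_, ?_, hτs j h3⟩
      · intro h4
        apply h2
        have := congrArg τ h4
        rwa [hττ j h3, hττ i hi] at this
      · intro h4
        apply h1
        rw [← h4, hττ j h3]
    have hsub : ∀ j ∈ s', j ∈ s := fun j hj => ((hmem j).mp hj).2.2
    have hcard : s'.card < m := by
      have h1 : s'.card = s.card - 2 := by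
        rw [hs', Finset.card_erase_of_mem (Finset.mem_erase.mpr ⟨hne, hτi⟩), Finset.card_erase_of_mem hi]
        omega
      have h2 : 0 < s.card := Finset.card_pos.mpr ⟨i, hi⟩
      omega
    have h1 := ih s'.card hcard s' hτs' (fun j hj => hττ j (hsub j hj))
      (fun j hj => hfix j (hsub j hj)) (fun j hj => hf j (hsub j hj))
      (fun j hj => hfτ j (hsub j hj)) rfl
    have h2 : ∑ j ∈ s, f j = f i + f i + ∑ j ∈ s', f j := by
      rw [← Finset.add_sum_erase s f hi,
        ← Finset.add_sum_erase (s.erase i) f (Finset.mem_erase.mpr ⟨hne, hτi⟩), hfτ i hi]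
      ring
    have h3 : (∑ j ∈ s, f j) / 2 = f i + (∑ j ∈ s', f j) / 2 := by
      rw [h2]; ring
    rw [h3]
    exact (hf i hi).add h1
  · rw [Finset.not_nonempty_iff_eq_empty] at hs
    subst hs
    simpa using isIntegral_zero

theorem eq_one_of_mul_self_of_odd_card {Q : Type*} [Group Q] [Finite Q] (hQ : Odd (Nat.card Q)) {q : Q}
    (h : q * q = 1) : q = 1 := by
  have h1 : orderOf q ∣ 2 := orderOf_dvd_of_pow_eq_one (by rw [pow_two, h])
  have h2 : orderOf q ∣ Nat.card Q := orderOf_dvd_natCard q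
  have h3 : Nat.Coprime (orderOf q) 2 := by
    have : Nat.Coprime (Nat.card Q) 2 := Nat.coprime_two_right.mpr hQ
    exact Nat.Coprime.coprime_dvd_left h2 this
  have h4 : orderOf q = 1 := Nat.eq_one_of_dvd_coprimes h3 (dvd_refl _) h1
  exact orderOf_eq_one_iff.mp h4

section Parity

variable {G : Type u} [Group G] [Fintype G] (N : Subgroup G) [hN : N.Normal] [Fintype N]

theorem mem_of_mul_self_mem (hodd : Odd N.index) {s : G} (h : s * s ∈ N) : s ∈ N := by
  have hq : ((s : G ⧸ N) * (s : G ⧸ N)) = 1 := by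
    rw [← QuotientGroup.mk_mul]
    exact (QuotientGroup.eq_one_iff _).mpr h
  have hcard : Odd (Nat.card (G ⧸ N)) := hodd
  have := eq_one_of_mul_self_of_odd_card hcard hq
  exact (QuotientGroup.eq_one_iff _).mp this

/-- The parity of `[ξ, 1]` for a real character and of its restriction to a normal subgroup of odd
index agree. -/
theorem parity (hodd : Odd N.index) {ξ : G → ℂ} (hξ : IsCharacter G ξ)
    (hreal : ∀ g, conj (ξ g) = ξ g) {a b : ℕ}
    (ha : classInner ξ (fun _ => (1 : ℂ)) = a)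
    (hb : classInner (fun n : N => ξ n) (fun _ => (1 : ℂ)) = b) : a % 2 = b % 2 := by
  classical
  letI : Fintype (G ⧸ N) := Fintype.ofFinite _
  set P : G → ℂ := avg N ξ with hP
  have hPchar : IsCharacter G P := isCharacter_avg N hξ
  have hcf : IsClassFunction G ξ := isClassFunction_of_isCharacter hξ
  have hPleft : ∀ (x : G), ∀ n ∈ N, P (n * x) = P x := by
    intro x n hn
    rw [hP, avg_apply, avg_apply]
    congr 1
    have : ∀ m : N, ξ ((m : G) * (n * x)) = ξ (((m * ⟨n, hn⟩ : N) : G) * x) := by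
      intro m
      simp [mul_assoc]
    simp_rw [this]
    exact Equiv.sum_comp (Equiv.mulRight (⟨n, hn⟩ : N)) (fun m : N => ξ ((m : G) * x))
  have hPright : ∀ (x : G), ∀ n ∈ N, P (x * n) = P x := by
    intro x n hn
    have : x * n = (x * n * x⁻¹) * x := by group
    rw [this]
    exact hPleft x _ (hN.conj_mem n hn x)
  have hPreal : ∀ x, conj (P x) = P x := by
    intro x
    rw [hP, avg_apply, map_mul, map_sum, map_inv₀, Complex.conj_natCast]
    simp_rw [hreal]
  have hPinv : ∀ x, P x⁻¹ = P x := by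
    intro x
    rw [char_inv_eq_conj hPchar, hPreal]
  have hP1 : P 1 = b := by
    rw [← hb, hP, avg_apply, classInner_def]
    simp
  have hsumP : ∑ x : G, P x = ∑ x : G, ξ x := by
    rw [hP]
    simp_rw [avg_apply]
    rw [← Finset.mul_sum, Finset.sum_comm]
    have h1 : ∀ n : N, ∑ x : G, ξ ((n : G) * x) = ∑ x : G, ξ x := fun n =>
      Equiv.sum_comp (Equiv.mulLeft (n : G)) ξ
    simp_rw [h1]
    rw [Finset.sum_const, Finset.card_univ, nsmul_eq_mul, ← Nat.card_eq_fintype_card,
      ← mul_assoc, inv_mul_cancel₀ (card_N_ne_zero N), one_mul]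
  have hsumG : ∑ x : G, ξ x = (Nat.card G : ℂ) * a := by
    rw [← ha, classInner_def, ← mul_assoc, mul_inv_cancel₀ card_ne_zero_complex, one_mul]
    simp
  have hquot := Cfsg.Agent.Lib.Char.Central.sum_eq_card_smul_sum_quotient N P hPright
  have hcardG : (Nat.card G : ℂ) = (Nat.card N : ℂ) * (N.index : ℂ) := by
    rw [← Subgroup.card_mul_index N]
    push_cast
    rfl
  have hmain : (N.index : ℂ) * a = ∑ q : G ⧸ N, P q.out := by
    have h1 : (Nat.card N : ℂ) * ((N.index : ℂ) * a) = (Nat.card N : ℂ) * ∑ q : G ⧸ N, P q.out := by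
      rw [← mul_assoc, ← hcardG, ← hsumG, ← hsumP, hquot, nsmul_eq_mul]
    exact mul_left_cancel₀ (card_N_ne_zero N) h1
  have hf1 : P ((1 : G ⧸ N).out) = b := by
    have h1 : ((1 : G ⧸ N).out) ∈ N := by
      rw [← QuotientGroup.eq_one_iff]
      simp
    have := hPleft 1 _ h1
    rw [mul_one] at this
    rw [this, hP1]
  set s : Finset (G ⧸ N) := Finset.univ.erase 1 with hs
  have hsplit : ∑ q : G ⧸ N, P q.out = b + ∑ q ∈ s, P q.out := by
    rw [hs, ← Finset.add_sum_erase _ _ (Finset.mem_univ (1 : G ⧸ N)), hf1]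
  have hodd' : Odd (Nat.card (G ⧸ N)) := hodd
  have hint : IsIntegral ℤ ((∑ q ∈ s, P q.out) / 2) := by
    refine isIntegral_half_sum_of_involution s (fun q => q⁻¹) ?_ ?_ ?_ (fun q => P q.out) ?_ ?_
    · intro q hq
      rw [hs, Finset.mem_erase] at hq ⊢
      exact ⟨fun h => hq.1 (inv_eq_one.mp h), Finset.mem_univ _⟩
    · intro q _
      exact inv_inv q
    · intro q hq h
      rw [hs, Finset.mem_erase] at hq
      apply hq.1
      apply eq_one_of_mul_self_of_odd_card hodd'
      have h' : q⁻¹ * q = 1 := inv_mul_cancel q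
      rw [h] at h'
      exact h'
    · intro q _
      obtain ⟨m, ρ, hm⟩ := hPchar
      rw [← hm]
      exact Cfsg.Agent.Lib.Char.Eigen.character_isIntegral ρ _
    · intro q _
      show P (q⁻¹).out = P q.out
      have h1 : ((q.out)⁻¹)⁻¹ * (q⁻¹).out ∈ N := by
        rw [← QuotientGroup.eq]
        simp
      have h2 := hPright (q.out)⁻¹ _ h1
      rw [mul_inv_cancel_left] at h2
      rw [h2, hPinv]
  set S := ∑ q ∈ s, P q.out with hS
  have hA : ((N.index * a : ℕ) : ℂ) = b + S := by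
    push_cast
    rw [hmain, hsplit]
  have hdvd : (N.index * a) % 2 = b % 2 := by
    rcases le_total b (N.index * a) with h | h
    · have h1 : (2 : ℕ) ∣ (N.index * a - b) := by
        apply Cfsg.Agent.Lib.Char.Central.nat_dvd_of_isIntegral_div (by norm_num)
        have : (((N.index * a - b : ℕ) : ℂ)) / ((2 : ℕ) : ℂ) = S / 2 := by
          rw [Nat.cast_sub h, hA]
          push_cast
          ring
        rw [this]
        exact hint
      omega
    · have h1 : (2 : ℕ) ∣ (b - N.index * a) := by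
        apply Cfsg.Agent.Lib.Char.Central.nat_dvd_of_isIntegral_div (by norm_num)
        have : (((b - N.index * a : ℕ) : ℂ)) / ((2 : ℕ) : ℂ) = -(S / 2) := by
          rw [Nat.cast_sub h, hA]
          push_cast
          ring
        rw [this]
        exact hint.neg
      omega
  rw [← hdvd, Nat.mul_mod, Nat.odd_iff.mp hodd]
  simp

end Parity

section Nu

variable {H : Type u} [Group H] [Fintype H]

/-- The Frobenius-Schur indicator. -/
noncomputable def nu (χ : H → ℂ) : ℂ := (Nat.card H : ℂ)⁻¹ * ∑ s : H, χ (s * s)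

lemma nu_cases {χ : H → ℂ} (hχ : IsIrrCharacter H χ) : nu χ = 0 ∨ nu χ = 1 ∨ nu χ = -1 := by
  obtain ⟨n, ρ, hρ, rfl⟩ := hχ
  exact (Cfsg.Agent.Lib.Char.FrobSchur.frobeniusSchur ρ hρ).1

lemma real_of_nu_ne_zero {χ : H → ℂ} (hχ : IsIrrCharacter H χ) (h : nu χ ≠ 0) (g : H) :
    conj (χ g) = χ g := by
  obtain ⟨n, ρ, hρ, rfl⟩ := hχ
  rw [Complex.conj_eq_iff_im]
  by_contra hg
  exact h ((Cfsg.Agent.Lib.Char.FrobSchur.frobeniusSchur ρ hρ).2.2 ⟨g, hg⟩)

lemma classInner_mul_one_of_real (α β : H → ℂ) (hβ : ∀ g, conj (β g) = β g) :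
    classInner (fun g => α g * β g) (fun _ => (1 : ℂ)) = classInner α β := by
  simp [classInner_def, hβ]

end Nu

section Main

variable {G : Type u} [Group G] [Fintype G] (N : Subgroup G) [hN : N.Normal] [Fintype N]

/-- At most one real irreducible character lies over a given irreducible character of a normal
subgroup of odd index. -/
theorem eq_of_real_of_lies_over (hodd : Odd N.index) {φ : N → ℂ} (hφ : IsIrrCharacter N φ)
    {χ₁ χ₂ : G → ℂ} (h₁ : IsIrrCharacter G χ₁) (h₂ : IsIrrCharacter G χ₂)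
    (r₁ : ∀ g, conj (χ₁ g) = χ₁ g) (r₂ : ∀ g, conj (χ₂ g) = χ₂ g)
    (c₁ : classInner (fun n : N => χ₁ n) φ ≠ 0) (c₂ : classInner (fun n : N => χ₂ n) φ ≠ 0) :
    χ₁ = χ₂ := by
  classical
  have hc₁ := clifford_restrict hN h₁ hφ c₁
  have hc₂ := clifford_restrict hN h₂ hφ c₂
  set ϑ : N → ℂ := ∑ ψ ∈ orbitFinset hN φ, ψ with hϑ
  have hϑchar : IsCharacter N ϑ := by
    apply isCharacter_sum
    intro ψ hψ
    obtain ⟨g, rfl⟩ := (mem_orbitFinset hN φ ψ).mp hψ
    exact isCharacter_of_isIrrCharacter (isIrrCharacter_conjOn hN g hφ)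
  have hφchar := isCharacter_of_isIrrCharacter hφ
  obtain ⟨e₁, he₁⟩ := exists_nat_classInner (isCharacter_restrict N (isCharacter_of_isIrrCharacter h₁)) hφchar
  obtain ⟨e₂, he₂⟩ := exists_nat_classInner (isCharacter_restrict N (isCharacter_of_isIrrCharacter h₂)) hφchar
  obtain ⟨τ, hτ⟩ := exists_nat_classInner hϑchar hϑchar
  have hres : ∀ (e f : ℕ) (α β : N → ℂ), α = (e : ℂ) • ϑ → β = (f : ℂ) • ϑ →
      classInner α β = ((e * f * τ : ℕ) : ℂ) := by
    intro e f α β hα hβ
    rw [hα, hβ, classInner_smul_left, classInner_smul_right, hτ, Complex.conj_natCast]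
    push_cast
    ring
  have hr₁ : (fun n : N => χ₁ n) = (e₁ : ℂ) • ϑ := by
    rw [← he₁]
    exact hc₁
  have hr₂ : (fun n : N => χ₂ n) = (e₂ : ℂ) • ϑ := by
    rw [← he₂]
    exact hc₂
  have hpar : ∀ (α β : G → ℂ) (e f : ℕ) (a : ℕ), IsCharacter G α → IsCharacter G β →
      (∀ g, conj (α g) = α g) → (∀ g, conj (β g) = β g) →
      (fun n : N => α n) = (e : ℂ) • ϑ → (fun n : N => β n) = (f : ℂ) • ϑ → classInner α β = a →
      a % 2 = (e * f * τ) % 2 := by
    intro α β e f a hα hβ rα rβ hαN hβN hab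
    refine parity N hodd (ξ := fun g => α g * β g) (isCharacter_mul hα hβ) ?_ ?_ ?_
    · intro g
      rw [map_mul, rα, rβ]
    · rw [classInner_mul_one_of_real α β rβ, hab]
    · rw [classInner_mul_one_of_real (fun n : N => α n) (fun n : N => β n) (fun n => rβ n)]
      exact hres e f _ _ hαN hβN
  have hχ₁ := isCharacter_of_isIrrCharacter h₁
  have hχ₂ := isCharacter_of_isIrrCharacter h₂
  have p11 := hpar χ₁ χ₁ e₁ e₁ 1 hχ₁ hχ₁ r₁ r₁ hr₁ hr₁ (by rw [classInner_self_of_isIrr h₁]; simp)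
  have p22 := hpar χ₂ χ₂ e₂ e₂ 1 hχ₂ hχ₂ r₂ r₂ hr₂ hr₂ (by rw [classInner_self_of_isIrr h₂]; simp)
  by_contra hne
  have p12 := hpar χ₁ χ₂ e₁ e₂ 0 hχ₁ hχ₂ r₁ r₂ hr₁ hr₂
    (by rw [classInner_eq_zero_of_isIrr_of_ne h₁ h₂ hne]; simp)
  have o1 : Odd (e₁ * e₁ * τ) := Nat.odd_iff.mpr (by omega)
  have o2 : Odd (e₂ * e₂ * τ) := Nat.odd_iff.mpr (by omega)
  have o3 : Odd e₁ := (Nat.odd_mul.mp (Nat.odd_mul.mp o1).1).1
  have o4 : Odd e₂ := (Nat.odd_mul.mp (Nat.odd_mul.mp o2).1).1
  have o5 : Odd τ := (Nat.odd_mul.mp o1).2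
  have o6 : Odd (e₁ * e₂ * τ) := (o3.mul o4).mul o5
  have := Nat.odd_iff.mp o6
  omega

/-- The Frobenius-Schur count over a normal subgroup of odd index. -/
theorem sum_nu_mul [Fintype (IrrCharacter G)] (hodd : Odd N.index) (φ : N → ℂ) :
    ∑ χ : IrrCharacter G, conj (nu (χ : G → ℂ)) * classInner (fun n : N => (χ : G → ℂ) n) φ =
      conj (nu φ) := by
  classical
  have h1 : ∀ n : N, (((Finset.univ.filter (fun s : N => s * s = n)).card : ℕ) : ℂ) =
      ∑ χ : IrrCharacter G, conj (nu (χ : G → ℂ)) * (χ : G → ℂ) n := by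
    intro n
    have h2 := Cfsg.Agent.Lib.Char.FrobSchur.card_sqrt_eq (G := G) (n : G)
    have h3 : Nat.card {s : G // s * s = n} = (Finset.univ.filter (fun s : N => s * s = n)).card := by
      rw [← Fintype.card_subtype, ← Nat.card_eq_fintype_card]
      refine Nat.card_congr ⟨fun s => ⟨⟨s.1, mem_of_mul_self_mem N hodd (by rw [s.2]; exact n.2)⟩,
          Subtype.ext s.2⟩, fun s => ⟨s.1.1, ?_⟩, ?_, ?_⟩
      · have := congrArg (fun x : N => (x : G)) s.2
        simpa using this
      · intro s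
        rfl
      · intro s
        rfl
    rw [← h3, h2]
    rfl
  have key : ∀ χ : IrrCharacter G, conj (nu (χ : G → ℂ)) * classInner (fun n : N => (χ : G → ℂ) n) φ =
      (Nat.card N : ℂ)⁻¹ * ∑ n : N, (conj (nu (χ : G → ℂ)) * (χ : G → ℂ) n) * conj (φ n) := by
    intro χ
    rw [classInner_def, mul_left_comm, Finset.mul_sum]
    congr 1
    refine Finset.sum_congr rfl fun n _ => ?_
    ring
  simp_rw [key]
  rw [← Finset.mul_sum, Finset.sum_comm]
  rw [nu, map_mul, map_inv₀, Complex.conj_natCast]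
  congr 1
  have h4 : ∀ n : N, ∑ χ : IrrCharacter G, (conj (nu (χ : G → ℂ)) * (χ : G → ℂ) n) * conj (φ n) =
      ((Finset.univ.filter (fun s : N => s * s = n)).card : ℂ) * conj (φ n) := by
    intro n
    rw [h1, Finset.sum_mul]
  simp_rw [h4, map_sum]
  rw [← Finset.sum_fiberwise (s := Finset.univ) (g := fun s : N => s * s)
    (f := fun s : N => conj (φ (s * s)))]
  refine Finset.sum_congr rfl fun n _ => ?_
  rw [Finset.sum_congr rfl (g := fun _ => conj (φ n))]
  · simp
  · intro s hs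
    rw [(Finset.mem_filter.mp hs).2]

/-- The main theorem. -/
theorem existsUnique_of_odd_index (hodd : Odd N.index) {φ : N → ℂ} (hφ : IsIrrCharacter N φ)
    (hν : nu φ = 1) :
    ∃! χ : IrrCharacter G, nu (χ : G → ℂ) = 1 ∧ classInner (fun n : N => (χ : G → ℂ) n) φ ≠ 0 := by
  classical
  have := finite_irrCharacter (G := G)
  letI := Fintype.ofFinite (IrrCharacter G)
  have hsum := sum_nu_mul N hodd φ
  rw [hν, map_one] at hsum
  obtain ⟨χ₀, -, h₀⟩ : ∃ χ₀ ∈ (Finset.univ : Finset (IrrCharacter G)),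
      conj (nu (χ₀ : G → ℂ)) * classInner (fun n : N => (χ₀ : G → ℂ) n) φ ≠ 0 := by
    by_contra hall
    push Not at hall
    rw [Finset.sum_eq_zero hall] at hsum
    exact zero_ne_one hsum
  have hν₀ : nu (χ₀ : G → ℂ) ≠ 0 := by
    intro h
    apply h₀
    rw [h, map_zero, zero_mul]
  have hc₀ : classInner (fun n : N => (χ₀ : G → ℂ) n) φ ≠ 0 := right_ne_zero_of_mul h₀
  have hreal₀ := real_of_nu_ne_zero χ₀.2 hν₀
  have huniq : ∀ χ : IrrCharacter G, nu (χ : G → ℂ) ≠ 0 →
      classInner (fun n : N => (χ : G → ℂ) n) φ ≠ 0 → χ = χ₀ := by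
    intro χ hν' hc
    apply Subtype.ext
    exact eq_of_real_of_lies_over N hodd hφ χ.2 χ₀.2 (real_of_nu_ne_zero χ.2 hν') hreal₀ hc hc₀
  have hsum' : conj (nu (χ₀ : G → ℂ)) * classInner (fun n : N => (χ₀ : G → ℂ) n) φ = 1 := by
    rw [← hsum]
    symm
    refine Finset.sum_eq_single χ₀ ?_ (fun h => absurd (Finset.mem_univ _) h)
    intro χ _ hne
    by_contra hterm
    apply hne
    apply huniq χ
    · intro h
      apply hterm
      rw [h, map_zero, zero_mul]
    · exact right_ne_zero_of_mul hterm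
  obtain ⟨e, he⟩ := exists_nat_classInner
    (isCharacter_restrict N (isCharacter_of_isIrrCharacter χ₀.2)) (isCharacter_of_isIrrCharacter hφ)
  have hν₁ : nu (χ₀ : G → ℂ) = 1 := by
    rcases nu_cases χ₀.2 with h | h | h
    · exact absurd h hν₀
    · exact h
    · exfalso
      change conj (nu (χ₀ : G → ℂ)) * classInner (fun n : N => (χ₀ : G → ℂ) n) φ = 1 at hsum'
      rw [h, he] at hsum'
      have h1 : ((e + 1 : ℕ) : ℂ) = 0 := by
        rw [map_neg, map_one] at hsum'
        push_cast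
        linear_combination -hsum'
      have h2 : e + 1 = 0 := by exact_mod_cast h1
      omega
  refine ⟨χ₀, ⟨hν₁, hc₀⟩, ?_⟩
  rintro χ ⟨h1, h2⟩
  exact huniq χ (by rw [h1]; exact one_ne_zero) h2

end Main

end Cfsg.Agent.Lib.Char.OddIndexReal
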