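import Cfsg.Agent.Lib.Char.RelM

/-!
# Chief series inside a solvable normal subgroup

Chains of normal subgroups from `1` to `N` with chief factors; the factors inside a solvable
subgroup are elementary abelian (`Layer`).
-/

set_option autoImplicit false

namespace Cfsg.Agent.Lib.Char.RelLayer

open scoped commutatorElement

universe u

variable {G : Type u} [Group G] [Finite G]

/-- An elementary abelian chief factor `K / L`. -/
structure Layer (L K : Subgroup G) (s : ℕ) : Prop where
  hL : L.Normal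
  hK : K.Normal
  lt : L < K
  chief : ∀ M : Subgroup G, M.Normal → L ≤ M → M ≤ K → M = L ∨ M = K
  comm : ∀ x ∈ K, ∀ y ∈ K, ⁅x, y⁆ ∈ L
  prime : s.Prime
  pow : ∀ x ∈ K, x ^ s ∈ L

omit [Finite G] in
/-- A chief factor inside a solvable subgroup is abelian. -/
theorem comm_le_of_chief {L K : Subgroup G} (hL : L.Normal) (hK : K.Normal) (hlt : L < K)
    (hchief : ∀ M : Subgroup G, M.Normal → L ≤ M → M ≤ K → M = L ∨ M = K)
    (hs : Group.IsSolvable K) : ⁅K, K⁆ ≤ L := by
  have hcn : (⁅K, K⁆ ⊔ L).Normal := by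
    have : (⁅K, K⁆ : Subgroup G).Normal := Subgroup.commutator_normal K K
    exact Subgroup.sup_normal _ _
  have hle : ⁅K, K⁆ ⊔ L ≤ K := sup_le (Subgroup.commutator_le_left K K) hlt.le
  rcases hchief _ hcn le_sup_right hle with h | h
  · rw [← h]
    exact le_sup_left
  · exfalso
    let A : Subgroup K := L.subgroupOf K
    haveI hA : A.Normal := Subgroup.Normal.subgroupOf hL K
    let φ : K →* (K ⧸ A) := QuotientGroup.mk' A
    have hφ : Function.Surjective φ := QuotientGroup.mk'_surjective A
    haveI : Group.IsSolvable (K ⧸ A) := Group.isSolvable_of_surjective hφ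
    have hne : (⊤ : Subgroup (K ⧸ A)) ≠ ⊥ := by
      intro h0
      apply (not_le_of_gt hlt)
      intro k hk
      have h1 : φ ⟨k, hk⟩ = 1 := by
        have h2 : φ ⟨k, hk⟩ ∈ (⊤ : Subgroup (K ⧸ A)) := Subgroup.mem_top _
        rw [h0] at h2
        exact h2
      have h2 : (⟨k, hk⟩ : K) ∈ A := by
        have := (QuotientGroup.eq_one_iff _).mp h1
        exact this
      exact Subgroup.mem_subgroupOf.mp h2
    have hltc := Group.IsSolvable.commutator_lt_of_ne_bot hne
    let C : Subgroup K := (⁅(⊤ : Subgroup (K ⧸ A)), (⊤ : Subgroup (K ⧸ A))⁆).comap φ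
    have hC : ∀ k : K, k ∈ C := by
      have h1 : ⁅K, K⁆ ≤ C.map K.subtype := by
        rw [Subgroup.commutator_le]
        intro x hx y hy
        refine ⟨⁅(⟨x, hx⟩ : K), (⟨y, hy⟩ : K)⁆, ?_, rfl⟩
        apply Subgroup.mem_comap.mpr
        rw [map_commutatorElement]
        exact Subgroup.commutator_mem_commutator (Subgroup.mem_top _) (Subgroup.mem_top _)
      have h2 : L ≤ C.map K.subtype := by
        intro l hl
        refine ⟨⟨l, hlt.le hl⟩, ?_, rfl⟩
        apply Subgroup.mem_comap.mpr
        have h3 : φ ⟨l, hlt.le hl⟩ = 1 :=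
          (QuotientGroup.eq_one_iff _).mpr (Subgroup.mem_subgroupOf.mpr hl)
        rw [h3]
        exact Subgroup.one_mem _
      have h3 : K ≤ C.map K.subtype :=
        calc K = ⁅K, K⁆ ⊔ L := h.symm
          _ ≤ _ := sup_le h1 h2
      intro k
      obtain ⟨k', hk', h4⟩ := h3 k.2
      have : k' = k := Subtype.ext h4
      rwa [← this]
    apply ne_of_lt hltc
    apply le_antisymm (Subgroup.commutator_le_left _ _)
    intro q _
    obtain ⟨k, rfl⟩ := hφ q
    exact hC k

/-- A chief factor which is abelian has prime exponent. -/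
theorem exists_prime_pow_mem {L K : Subgroup G} (hL : L.Normal) (hK : K.Normal) (hlt : L < K)
    (hchief : ∀ M : Subgroup G, M.Normal → L ≤ M → M ≤ K → M = L ∨ M = K)
    (hcm : ∀ x ∈ K, ∀ y ∈ K, ⁅x, y⁆ ∈ L) : ∃ s : ℕ, s.Prime ∧ ∀ x ∈ K, x ^ s ∈ L := by
  classical
  have hI : L.relIndex K ≠ 1 := by
    intro h
    rw [Subgroup.relIndex_eq_one] at h
    exact absurd h (not_le_of_gt hlt)
  obtain ⟨r, hr, hpd⟩ := Nat.exists_prime_and_dvd hI
  refine ⟨r, hr, ?_⟩
  haveI : Fact r.Prime := ⟨hr⟩
  haveI := hL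
  have hQc : ∀ x ∈ K, ∀ y ∈ K, Commute ((x : G) : G ⧸ L) ((y : G) : G ⧸ L) := by
    intro x hx y hy
    have h1 := hcm x hx y hy
    have h2 : ((⁅x, y⁆ : G) : G ⧸ L) = 1 := (QuotientGroup.eq_one_iff _).mpr h1
    rw [commutatorElement_def] at h2
    simp only [QuotientGroup.mk_mul, QuotientGroup.mk_inv] at h2
    have h3 : ((x : G) : G ⧸ L) * ((y : G) : G ⧸ L) * ((x : G) : G ⧸ L)⁻¹ = ((y : G) : G ⧸ L) :=
      mul_inv_eq_one.mp h2
    exact mul_inv_eq_iff_eq_mul.mp h3
  let D₁ : Subgroup G :=
    { carrier := {x | x ∈ K ∧ ((x : G) : G ⧸ L) ^ r = 1}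
      one_mem' := ⟨K.one_mem, by simp⟩
      mul_mem' := by
        rintro x y ⟨hx, hx'⟩ ⟨hy, hy'⟩
        refine ⟨K.mul_mem hx hy, ?_⟩
        rw [QuotientGroup.mk_mul, (hQc x hx y hy).mul_pow, hx', hy', one_mul]
      inv_mem' := by
        rintro x ⟨hx, hx'⟩
        refine ⟨K.inv_mem hx, ?_⟩
        rw [QuotientGroup.mk_inv, inv_pow, hx', inv_one] }
  have hD₁n : D₁.Normal := by
    refine ⟨fun x hx g => ⟨hK.conj_mem x hx.1 g, ?_⟩⟩
    simp only [QuotientGroup.mk_mul, QuotientGroup.mk_inv]
    rw [conj_pow, hx.2]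
    simp
  have hAD₁ : L ≤ D₁ := by
    intro x hx
    refine ⟨hlt.le hx, ?_⟩
    rw [(QuotientGroup.eq_one_iff x).mpr hx, one_pow]
  have hD₁D : D₁ ≤ K := fun x hx => hx.1
  have hD₁ : D₁ = K := by
    rcases hchief D₁ hD₁n hAD₁ hD₁D with h | h
    · exfalso
      have hdvd : r ∣ Nat.card (K ⧸ L.subgroupOf K) := hpd
      obtain ⟨x, hx⟩ := exists_prime_orderOf_dvd_card' r hdvd
      obtain ⟨y, rfl⟩ := QuotientGroup.mk_surjective x
      have h1 : ((y : K) : K ⧸ L.subgroupOf K) ^ r = 1 := by
        rw [← hx, pow_orderOf_eq_one]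
      have h2 : ((y : K) : K ⧸ L.subgroupOf K) ≠ 1 := by
        intro h3
        rw [h3, orderOf_one] at hx
        exact hr.one_lt.ne hx
      have h3 : y ^ r ∈ L.subgroupOf K := by
        rw [← QuotientGroup.eq_one_iff, QuotientGroup.mk_pow]
        exact h1
      have h4 : y ∉ L.subgroupOf K := by
        rw [← QuotientGroup.eq_one_iff]
        exact h2
      have h5 : (y : G) ^ r ∈ L := by
        have := Subgroup.mem_subgroupOf.mp h3
        simpa using this
      have h6 : (y : G) ∉ L := fun h' => h4 (Subgroup.mem_subgroupOf.mpr h')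
      have h7 : (y : G) ∈ D₁ := ⟨y.2, by
        rw [← QuotientGroup.mk_pow]
        exact (QuotientGroup.eq_one_iff _).mpr h5⟩
      rw [h] at h7
      exact h6 h7
    · exact h
  intro x hx
  rw [← hD₁] at hx
  have := hx.2
  rw [← QuotientGroup.mk_pow] at this
  exact (QuotientGroup.eq_one_iff _).mp this

/-- A chief factor inside a solvable subgroup is elementary abelian. -/
theorem exists_layer {L K : Subgroup G} (hL : L.Normal) (hK : K.Normal) (hlt : L < K)
    (hchief : ∀ M : Subgroup G, M.Normal → L ≤ M → M ≤ K → M = L ∨ M = K)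
    (hs : Group.IsSolvable K) : ∃ s : ℕ, Layer L K s := by
  have hc := comm_le_of_chief hL hK hlt hchief hs
  have hcm : ∀ x ∈ K, ∀ y ∈ K, ⁅x, y⁆ ∈ L := fun x hx y hy =>
    hc (Subgroup.commutator_mem_commutator hx hy)
  obtain ⟨s, hs', hp⟩ := exists_prime_pow_mem hL hK hlt hchief hcm
  exact ⟨s, hL, hK, hlt, hchief, hcm, hs', hp⟩

/-- A series of normal subgroups from `1` to `N` whose factors are chief. -/
structure Chain (N : Subgroup G) (f : ℕ → Subgroup G) (t : ℕ) : Prop where
  bot : f 0 = ⊥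
  top : f t = N
  normal : ∀ i, (f i).Normal
  mono : Monotone f
  le : ∀ i, f i ≤ N
  chief : ∀ i, ∀ M : Subgroup G, M.Normal → f i ≤ M → M ≤ f (i + 1) → M = f i ∨ M = f (i + 1)

theorem exists_chain (N : Subgroup G) (hN : N.Normal) : ∃ f t, Chain N f t := by
  classical
  induction N using WellFoundedLT.induction with
  | ind N ih =>
    by_cases h : N = ⊥
    · subst h
      refine ⟨fun _ => ⊥, 0, rfl, rfl, fun _ => inferInstance, fun _ _ _ => le_rfl, fun _ => le_rfl, ?_⟩
      intro i M _ _ hM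
      exact Or.inl (le_bot_iff.mp hM)
    · obtain ⟨L, hLn, -, hLN, hch⟩ := Cfsg.Agent.Lib.Char.RelM.exists_chief_below
        (inferInstance : (⊥ : Subgroup G).Normal) hN (bot_lt_iff_ne_bot.mpr h)
      obtain ⟨f', t', hc⟩ := ih L hLN hLn
      refine ⟨fun i => if i ≤ t' then f' i else N, t' + 1, ?_, ?_, ?_, ?_, ?_, ?_⟩
      · simp [hc.bot]
      · simp
      · intro i
        by_cases hi : i ≤ t'
        · simpa [hi] using hc.normal i
        · simpa [hi] using hN
      · apply monotone_nat_of_le_succ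
        intro i
        by_cases hi : i + 1 ≤ t'
        · have hi' : i ≤ t' := by omega
          simpa [hi, hi'] using hc.mono (Nat.le_succ i)
        · by_cases hi' : i ≤ t'
          · simp only [hi', hi, if_true, if_false]
            exact (hc.le i).trans hLN.le
          · simp [hi, hi']
      · intro i
        by_cases hi : i ≤ t'
        · simp only [hi, if_true]
          exact (hc.le i).trans hLN.le
        · simp [hi]
      · intro i M hM h1 h2
        by_cases hi : i + 1 ≤ t'
        · have hi' : i ≤ t' := by omega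
          simp only [hi, hi', if_true] at h1 h2 ⊢
          exact hc.chief i M hM h1 h2
        · by_cases hi' : i ≤ t'
          · have hit : i = t' := by omega
            subst hit
            simp only [hi, hi', if_true, if_false] at h1 h2 ⊢
            rw [hc.top] at h1 ⊢
            exact hch M hM h1 h2
          · simp only [hi, hi', if_false] at h1 h2 ⊢
            exact Or.inl (le_antisymm h2 h1)

end Cfsg.Agent.Lib.Char.RelLayer
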