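import Cfsg.Agent.Lib.Char.RelGraph
import Cfsg.Agent.Lib.Char.RelLayer
import Cfsg.Agent.Lib.Blk89.Linear

/-!
# The relative degree graph: the link lemma

Tools for the common-divisor graph on `cd(G|N)`, for `N ⊴ G` solvable with `N ≤ G'`.

* `exists_prime_over`: all characters over a nontrivial `λ ∈ Irr(K)`, `K ≤ G'`, share a prime.
* `link`: for linear `β` of prime exponent `s` and `ν ∈ Irr(K)`, either `s` divides all degrees over
  `ν` or a prime is shared by the degrees over `β` and those over `ν` or `βν`.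
* `same_layer_close`, `link_close`: distance statements for the levels of a chief series.
-/

set_option autoImplicit false
set_option linter.style.haveILetI false
set_option linter.unusedVariables false
set_option linter.unusedSectionVars false
set_option linter.style.multiGoal false
set_option linter.style.longLine false

namespace Cfsg.Agent.Lib.Char.RelDiam

open Cfsg Module
open Cfsg.Agent.Lib.Char.Basic Cfsg.Agent.Lib.Char.Ortho Cfsg.Agent.Lib.Char.Complete
open Cfsg.Agent.Lib.Char.Conj Cfsg.Agent.Lib.Char.Induced Cfsg.Agent.Lib.Char.Clifford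
open Cfsg.Agent.Lib.Char.CliffordCorr Cfsg.Agent.Lib.Char.DetChar Cfsg.Agent.Lib.Char.Degree
open Cfsg.Agent.Lib.Char.Linear Cfsg.Agent.Lib.Char.RelGraph Cfsg.Agent.Lib.Char.RelLayer
open Cfsg.Agent.Lib.Blk89.Linear
open scoped ComplexConjugate commutatorElement

universe u

section Trans

variable {G : Type u} [Group G] [Fintype G] {W K : Subgroup G} (hWK : W ≤ K) [Fintype W] [Fintype K]

/-- Restriction of a function on `K` to `W ≤ K`. -/
abbrev res (μ : K → ℂ) : W → ℂ := fun w => μ (Subgroup.inclusion hWK w)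

/-- Lying over is transitive. -/
theorem over_trans {χ : G → ℂ} (hχ : IsIrrCharacter G χ) {μ : K → ℂ} (hμ : IsIrrCharacter K μ)
    {lam : W → ℂ} (hlam : IsIrrCharacter W lam) (h : Over χ μ)
    (h2 : classInner (res hWK μ) lam ≠ 0) : Over χ lam :=
  classInner_ne_zero_mono (Subgroup.inclusion hWK)
    (isCharacter_restrict K (isCharacter_of_isIrrCharacter hχ)) hμ h
    (isCharacter_of_isIrrCharacter hlam) h2

/-- A constituent on `W` of `χ` lies under a constituent on `K`. -/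
theorem exists_mid {χ : G → ℂ} (hχ : IsIrrCharacter G χ) {lam : W → ℂ} (h : Over χ lam) :
    ∃ ν : K → ℂ, IsIrrCharacter K ν ∧ Over χ ν ∧ classInner (res hWK ν) lam ≠ 0 := by
  classical
  by_contra hcon
  push Not at hcon
  have hres : IsCharacter K (fun k : K => χ k) :=
    isCharacter_restrict K (isCharacter_of_isIrrCharacter hχ)
  have := finite_irrCharacter (G := K)
  letI := Fintype.ofFinite (IrrCharacter K)
  obtain ⟨m, hm⟩ := exists_nat_combination hres
  apply h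
  have h1 : (fun w : W => χ w) = ∑ j, m j • res hWK (j : K → ℂ) := by
    funext w
    have := congrFun hm (Subgroup.inclusion hWK w)
    simpa [Finset.sum_apply] using this
  rw [h1, classInner_sum_left]
  apply Finset.sum_eq_zero
  intro j _
  rw [classInner_nsmul_left]
  by_cases hj : m j = 0
  · simp [hj]
  · have hov : Over χ (j : K → ℂ) := by
      have h2 : classInner (fun k : K => χ k) (j : K → ℂ) = m j := by
        conv_lhs => rw [hm]
        exact classInner_of_nat_combination m j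
      change classInner (fun k : K => χ k) (j : K → ℂ) ≠ 0
      rw [h2]
      exact_mod_cast hj
    rw [hcon j j.2 hov, mul_zero]

end Trans

section Constituent

variable {G : Type u} [Group G] [Fintype G] {K : Subgroup G} (hK : K.Normal) [Fintype K]
  [DecidableEq (K → ℂ)]

include hK in
/-- **Clique lemma**: the degrees over a nontrivial irreducible character of `K ≤ G'` share a
prime. -/
theorem exists_prime_over (hKG : K ≤ commutator G) {lam : K → ℂ} (hlam : IsIrrCharacter K lam)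
    (h1 : lam ≠ triv K) :
    ∃ q : ℕ, q.Prime ∧ ∀ χ : G → ℂ, IsIrrCharacter G χ → Over χ lam → q ∣ charDegree χ := by
  by_cases h2 : (orbitFinset hK lam).card = 1
  · by_cases h3 : charDegree lam = 1
    · have hlamc := isCharacter_of_isIrrCharacter hlam
      have h4 : lam 1 = 1 := by
        rw [← charDegree_natCast hlamc, h3]
        simp
      obtain ⟨α, rfl⟩ := exists_hom_of_deg_one hlamc h4
      have hα1 : α ≠ 1 := by
        rintro rfl
        apply h1
        funext n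
        simp
      have hord : orderOf α ≠ 1 := fun h => hα1 (orderOf_eq_one_iff.mp h)
      refine ⟨_, Nat.minFac_prime hord, fun χ hχ hov => (Nat.minFac_dvd _).trans ?_⟩
      exact orderOf_dvd_of_pow_eq_one
        (pow_deg_of_invariant hK hKG α (inv_of_card_orbit_one hK h2) hχ hov)
    · exact ⟨_, Nat.minFac_prime h3, fun χ hχ hov =>
        (Nat.minFac_dvd _).trans (deg_dvd hK hχ hlam hov)⟩
  · exact ⟨_, Nat.minFac_prime h2, fun χ hχ hov =>
      (Nat.minFac_dvd _).trans (card_orbit_dvd hK hχ hlam hov)⟩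

theorem eq_of_norm_le_of_re_eq {z : ℂ} {d : ℝ} (h1 : ‖z‖ ≤ d) (h2 : z.re = d) : z = d := by
  have hd : 0 ≤ d := (norm_nonneg z).trans h1
  have h3 : z.im = 0 := by
    have h4 : ‖z‖ ^ 2 = z.re ^ 2 + z.im ^ 2 := by
      rw [Complex.sq_norm, Complex.normSq_apply]
      ring
    have h5 : ‖z‖ ^ 2 ≤ d ^ 2 := pow_le_pow_left₀ (norm_nonneg z) h1 2
    rw [h4, h2] at h5
    nlinarith [sq_nonneg z.im]
  apply Complex.ext
  · simpa using h2
  · simpa using h3

include hK in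
/-- A constituent of a character trivial on `L` is trivial on `L`. -/
theorem trivial_of_over {L : Subgroup G} {χ : G → ℂ} (hχ : IsIrrCharacter G χ) {θ : K → ℂ}
    (hθ : IsIrrCharacter K θ) (hov : Over χ θ) (htriv : ∀ x ∈ L, χ x = χ 1) (x : K)
    (hx : (x : G) ∈ L) : θ x = θ 1 := by
  have hcl := clifford_restrict hK hχ hθ hov
  obtain ⟨e, he⟩ := exists_mult hχ hθ
  have hene : (e : ℂ) ≠ 0 := by
    rw [← he]
    exact hov
  rw [he] at hcl
  have h1 := congrFun hcl x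
  have h2 := congrFun hcl 1
  simp only [Pi.smul_apply, Finset.sum_apply, smul_eq_mul] at h1 h2
  rw [htriv x hx] at h1
  have h3 : χ ((1 : K) : G) = χ 1 := rfl
  rw [h3] at h2
  have h4 : ∑ ψ ∈ orbitFinset hK θ, ψ x = ∑ ψ ∈ orbitFinset hK θ, ψ 1 :=
    mul_left_cancel₀ hene (h1.symm.trans h2)
  have hdeg : ∀ ψ ∈ orbitFinset hK θ, ψ 1 = (charDegree θ : ℂ) := by
    intro ψ hψ
    rw [← charDegree_of_mem_orbit hK hψ]
    exact (charDegree_natCast (isCharacter_of_isIrrCharacter (isIrr_of_mem_orbit hK hθ hψ))).symm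
  have hle : ∀ ψ ∈ orbitFinset hK θ, (ψ x).re ≤ (charDegree θ : ℝ) := by
    intro ψ hψ
    have h5 := norm_le_charDegree (isCharacter_of_isIrrCharacter (isIrr_of_mem_orbit hK hθ hψ)) x
    rw [charDegree_of_mem_orbit hK hψ] at h5
    exact (Complex.re_le_norm _).trans h5
  have hsum : ∑ ψ ∈ orbitFinset hK θ, (ψ x).re = ∑ ψ ∈ orbitFinset hK θ, (charDegree θ : ℝ) := by
    have h5 := congrArg Complex.re h4
    rw [Complex.re_sum, Complex.re_sum] at h5
    rw [h5]
    refine Finset.sum_congr rfl fun ψ hψ => ?_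
    rw [hdeg ψ hψ]
    simp
  have h6 := (Finset.sum_eq_sum_iff_of_le hle).mp hsum θ (mem_orbit_self hK θ)
  have h7 := norm_le_charDegree (isCharacter_of_isIrrCharacter hθ) x
  have h8 := eq_of_norm_le_of_re_eq h7 h6
  rw [h8, ← charDegree_natCast (isCharacter_of_isIrrCharacter hθ)]
  simp

end Constituent

section LayerChars

variable {G : Type u} [Group G] [Fintype G] {L K : Subgroup G} {s : ℕ} [Fintype K]
  [DecidableEq (K → ℂ)]

/-- A character trivial on `L`, moved on `K` lies over a nontrivial linear character of `K / L`. -/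
theorem exists_lin_over (hl : Layer L K s) {χ : G → ℂ} (hχ : IsIrrCharacter G χ)
    (htriv : ∀ x ∈ L, χ x = χ 1) (hmoved : ∃ x ∈ K, χ x ≠ χ 1) :
    ∃ β : K →* ℂˣ, β ≠ 1 ∧ β ^ s = 1 ∧ (∀ x : K, (x : G) ∈ L → β x = 1) ∧ Over χ (lc β) := by
  obtain ⟨θ, hθ, hθ1, hov⟩ := exists_over_of_moved hl.hK hχ hmoved
  have htθ := trivial_of_over hl.hK hχ hθ hov htriv
  have h1 : θ 1 = 1 := by
    apply deg_one_of_commutator_le hθ
    intro x hx
    apply htθ
    have h2 : commutator K ≤ L.subgroupOf K := by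
      rw [commutator_def, Subgroup.commutator_le]
      intro a _ b _
      rw [Subgroup.mem_subgroupOf]
      exact hl.comm a a.2 b b.2
    exact Subgroup.mem_subgroupOf.mp (h2 hx)
  obtain ⟨β, rfl⟩ := exists_hom_of_deg_one (isCharacter_of_isIrrCharacter hθ) h1
  have hβL : ∀ x : K, (x : G) ∈ L → β x = 1 := by
    intro x hx
    have h2 := htθ x hx
    rw [h1] at h2
    exact Units.ext h2
  refine ⟨β, ?_, ?_, hβL, hov⟩
  · rintro rfl
    apply hθ1
    funext n
    simp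
  · ext x
    have h3 : (x : K) ^ s = ⟨(x : G) ^ s, K.pow_mem x.2 s⟩ := rfl
    have h4 : β (x ^ s) = 1 := by
      apply hβL
      exact hl.pow x x.2
    rw [map_pow] at h4
    simp [h4]

end LayerChars

section Link

variable {G : Type u} [Group G] [Fintype G] {K : Subgroup G} (hK : K.Normal) [Fintype K]
  [DecidableEq (K → ℂ)]

theorem coprime_orbit_facts {θ : K → ℂ} {β : K →* ℂˣ}
    (hcop : Nat.Coprime (orbitFinset hK θ).card (orbitFinset hK (lc β)).card) :
    (∀ ψ ∈ orbitFinset hK θ, lc β * ψ ∈ orbitFinset hK (lc β * θ)) ∧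
    ((orbitFinset hK (lc β * θ)).card ∣
      (orbitFinset hK θ).card * (orbitFinset hK (lc β)).card) := by
  have hT : Nat.Coprime (inertia hK θ).index (inertia hK (lc β)).index := by
    rw [← card_orbit_eq_index, ← card_orbit_eq_index]
    exact hcop
  refine ⟨?_, ?_⟩
  · intro ψ hψ
    obtain ⟨h, rfl⟩ := (mem_orbitFinset hK θ ψ).mp hψ
    obtain ⟨t₁, ht₁, t₂, ht₂, rfl⟩ := exists_mul_of_coprime _ _ hT h
    refine (mem_orbitFinset hK _ _).mpr ⟨t₂, ?_⟩
    rw [conjOn_mul_fun, (mem_inertia hK _ _).mp ht₂, conjOn_mul, (mem_inertia hK _ _).mp ht₁]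
  · have hle : inertia hK θ ⊓ inertia hK (lc β) ≤ inertia hK (lc β * θ) := by
      rintro g ⟨h1, h2⟩
      have h1' : conjOn hK g θ = θ := h1
      have h2' : conjOn hK g (lc β) = lc β := h2
      rw [mem_inertia, conjOn_mul_fun, h1', h2']
    have h3 := Subgroup.index_dvd_of_le hle
    rw [index_inf_of_coprime _ _ hT, ← card_orbit_eq_index, ← card_orbit_eq_index,
      ← card_orbit_eq_index] at h3
    exact h3

include hK in
/-- **The link lemma.** -/
theorem link (hKG : K ≤ commutator G) {s : ℕ} (hs : s.Prime) (β : K →* ℂˣ) (hβ1 : β ≠ 1)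
    (hβs : β ^ s = 1) {ν : K → ℂ} (hν : IsIrrCharacter K ν) :
    (∀ χ : G → ℂ, IsIrrCharacter G χ → Over χ ν → s ∣ charDegree χ) ∨
    (∃ p : ℕ, p.Prime ∧ (∀ χ : G → ℂ, IsIrrCharacter G χ → Over χ (lc β) → p ∣ charDegree χ) ∧
      (∀ χ : G → ℂ, IsIrrCharacter G χ → Over χ ν → p ∣ charDegree χ)) ∨
    (∃ p : ℕ, p.Prime ∧ (∀ χ : G → ℂ, IsIrrCharacter G χ → Over χ (lc β) → p ∣ charDegree χ) ∧
      (∀ χ : G → ℂ, IsIrrCharacter G χ → Over χ (lc β * ν) → p ∣ charDegree χ)) := by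
  by_cases h : ∀ χ : G → ℂ, IsIrrCharacter G χ → Over χ ν → s ∣ charDegree χ
  · exact Or.inl h
  right
  push Not at h
  obtain ⟨χ₀, hχ₀, hov₀, hs₀⟩ := h
  have hβirr := isIrrCharacter_of_hom β
  have hord : orderOf β = s := order_eq_of_prime hs hβ1 hβs
  have hsa : ¬ s ∣ (orbitFinset hK ν).card := fun h => hs₀ (h.trans (card_orbit_dvd hK hχ₀ hν hov₀))
  have hsd : ¬ s ∣ charDegree ν := fun h => hs₀ (h.trans (deg_dvd hK hχ₀ hν hov₀))
  by_cases hinv : (orbitFinset hK (lc β)).card = 1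
  · right
    refine ⟨s, hs, ?_, ?_⟩
    · intro χ hχ hov
      have h0 : β ^ charDegree χ = 1 :=
        pow_deg_of_invariant hK hKG β (inv_of_card_orbit_one hK hinv) hχ hov
      have h1 : orderOf β ∣ charDegree χ := orderOf_dvd_of_pow_eq_one h0
      rwa [hord] at h1
    · intro χ hχ hov
      exact dvd_of_beta_invariant hK hKG hs β hβ1 hβs (inv_of_card_orbit_one hK hinv) hν hχ₀ hov₀
        hs₀ hχ hov
  have hb : 1 < (orbitFinset hK (lc β)).card := by
    have := orbit_card_pos hK (lc β)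
    omega
  by_cases hcop : Nat.Coprime (orbitFinset hK ν).card (orbitFinset hK (lc β)).card
  · right
    obtain ⟨M3, hu⟩ := coprime_orbit_facts hK hcop
    have hnc := not_coprime_of_translate hK hs β hβs hν hsd hsa hb M3 hu
    refine ⟨_, Nat.minFac_prime hnc, ?_, ?_⟩
    · intro χ hχ hov
      exact ((Nat.minFac_dvd _).trans (Nat.gcd_dvd_right _ _)).trans
        (card_orbit_dvd hK hχ hβirr hov)
    · intro χ hχ hov
      exact ((Nat.minFac_dvd _).trans (Nat.gcd_dvd_left _ _)).trans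
        (card_orbit_dvd hK hχ (isIrr_lc_mul β hν) hov)
  · left
    refine ⟨_, Nat.minFac_prime hcop, ?_, ?_⟩
    · intro χ hχ hov
      exact ((Nat.minFac_dvd _).trans (Nat.gcd_dvd_right _ _)).trans
        (card_orbit_dvd hK hχ hβirr hov)
    · intro χ hχ hov
      exact ((Nat.minFac_dvd _).trans (Nat.gcd_dvd_left _ _)).trans
        (card_orbit_dvd hK hχ hν hov)

end Link

/-- `a` and `b` are at distance at most two in the common divisor graph on `cd(G|N)`. -/
def Close {G : Type u} [Group G] (N : Subgroup G) (a b : ℕ) : Prop :=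
  1 < Nat.gcd a b ∨ ∃ w ∈ relCharDegrees N, 1 < Nat.gcd a w ∧ 1 < Nat.gcd w b

theorem Close.symm {G : Type u} [Group G] {N : Subgroup G} {a b : ℕ} (h : Close N a b) :
    Close N b a := by
  rcases h with h | ⟨w, hw, h1, h2⟩
  · left
    rwa [Nat.gcd_comm]
  · right
    refine ⟨w, hw, ?_, ?_⟩
    · rwa [Nat.gcd_comm]
    · rwa [Nat.gcd_comm]

section Close

variable {G : Type u} [Group G] [Finite G] {N L K : Subgroup G} {s : ℕ}

/-- The link lemma for a chief factor `K / L`, in terms of the graph. -/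
theorem link_close (hl : Layer L K s) (hKN : K ≤ N) (hNG : N ≤ commutator G) {χ₁ χ₂ : G → ℂ}
    (hχ₁ : IsIrrCharacter G χ₁) (hχ₂ : IsIrrCharacter G χ₂) (h₂t : ∀ x ∈ L, χ₂ x = χ₂ 1)
    (h₂m : ∃ x ∈ K, χ₂ x ≠ χ₂ 1) (h₁m : ∃ x ∈ L, χ₁ x ≠ χ₁ 1) :
    s ∣ charDegree χ₁ ∨ Close N (charDegree χ₁) (charDegree χ₂) := by
  classical
  letI : Fintype G := Fintype.ofFinite G
  letI : Fintype K := Fintype.ofFinite K
  letI : Fintype L := Fintype.ofFinite L
  have hLK := hl.lt.le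
  have hKG := hKN.trans hNG
  have hLG := hLK.trans hKG
  obtain ⟨β, hβ1, hβs, hβL, hov₂⟩ := exists_lin_over hl hχ₂ h₂t h₂m
  obtain ⟨lam, hlam, hlam1, hovlam⟩ := exists_over_of_moved hl.hL hχ₁ h₁m
  obtain ⟨ν, hν, hovν, hνlam⟩ := exists_mid hLK hχ₁ hovlam
  have pos₁ := charDegree_pos hχ₁
  rcases link hl.hK hKG hl.prime β hβ1 hβs hν with h | ⟨p, hp, h1, h2⟩ | ⟨p, hp, h1, h2⟩
  · exact Or.inl (h χ₁ hχ₁ hovν)
  · right
    left
    exact one_lt_gcd hp.one_lt (h2 χ₁ hχ₁ hovν) (h1 χ₂ hχ₂ hov₂) pos₁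
  · right
    right
    obtain ⟨χ', hχ', hov'⟩ := exists_over (G := G) (isIrr_lc_mul β hν)
    obtain ⟨q, hq, hqlam⟩ := exists_prime_over hl.hL hLG hlam hlam1
    have hres : res hLK (lc β * ν) = res hLK ν := by
      funext w
      have h3 : β (Subgroup.inclusion hLK w) = 1 := hβL _ w.2
      simp [res, Pi.mul_apply, lc, h3]
    have hov'lam : Over χ' lam :=
      over_trans hLK hχ' (isIrr_lc_mul β hν) hlam hov' (by rw [hres]; exact hνlam)
    have hm' : ∃ x ∈ N, χ' x ≠ χ' 1 := by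
      obtain ⟨x, hx, hne⟩ := moved_of_over hχ' hlam hlam1 hov'lam
      exact ⟨x, hKN (hLK hx), hne⟩
    refine ⟨charDegree χ', mem_rel hχ' hm', ?_, ?_⟩
    · exact one_lt_gcd hq.one_lt (hqlam χ₁ hχ₁ hovlam) (hqlam χ' hχ' hov'lam) pos₁
    · exact one_lt_gcd hp.one_lt (h2 χ' hχ' hov') (h1 χ₂ hχ₂ hov₂) (charDegree_pos hχ')

end Close

section Same

variable {G : Type u} [Group G] [Fintype G] {L K : Subgroup G} (hK : K.Normal) [Fintype K]
  [DecidableEq (K → ℂ)]

omit [Fintype G] [Fintype K] [DecidableEq (K → ℂ)] in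
theorem conjHom_apply' [Fintype G] [Fintype K] [DecidableEq (K → ℂ)] (g : G) (β : K →* ℂˣ) (x : K) :
    conjHom hK g β x = β ⟨g * x * g⁻¹, hK.conj_mem x x.2 g⟩ := rfl

/-- If one nontrivial character of a chief factor is invariant, then all are. -/
theorem inv_of_inv (hL : L.Normal) (hlt : L < K)
    (hchief : ∀ M : Subgroup G, M.Normal → L ≤ M → M ≤ K → M = L ∨ M = K) {β γ : K →* ℂˣ}
    (hβ1 : β ≠ 1) (hβL : ∀ x : K, (x : G) ∈ L → β x = 1) (hinv : ∀ g, conjHom hK g β = β)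
    (hγL : ∀ x : K, (x : G) ∈ L → γ x = 1) (g : G) : conjHom hK g γ = γ := by
  haveI := hK
  haveI := hL
  let D : Subgroup G := ⁅K, (⊤ : Subgroup G)⁆ ⊔ L
  have hDn : D.Normal := by
    have : (⁅K, (⊤ : Subgroup G)⁆ : Subgroup G).Normal := Subgroup.commutator_normal K ⊤
    exact Subgroup.sup_normal _ _
  have hDK : D ≤ K := sup_le (Subgroup.commutator_le_left K ⊤) hlt.le
  rcases hchief D hDn le_sup_right hDK with h | h
  · ext x
    have h1 : (⁅(x : G), g⁆ : G) ∈ L := by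
      rw [← h]
      exact (le_sup_left : ⁅K, (⊤ : Subgroup G)⁆ ≤ D)
        (Subgroup.commutator_mem_commutator x.2 (Subgroup.mem_top g))
    have h2 : γ ⟨g * x * g⁻¹, hK.conj_mem x x.2 g⟩ = γ x := by
      have h3 : γ (x * (⟨g * x * g⁻¹, hK.conj_mem x x.2 g⟩ : K)⁻¹) = 1 := by
        apply hγL
        simpa [commutatorElement_def, mul_assoc] using h1
      rw [map_mul, map_inv, mul_inv_eq_one] at h3
      exact h3.symm
    rw [conjHom_apply', h2]
  · exfalso
    apply hβ1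
    let B : Subgroup G := (β.ker).map K.subtype
    have hDB : D ≤ B := by
      apply sup_le
      · rw [Subgroup.commutator_le]
        intro x hx g' _
        refine ⟨⟨x, hx⟩ * (⟨g' * x * g'⁻¹, hK.conj_mem x hx g'⟩ : K)⁻¹, ?_, ?_⟩
        · change β _ = 1
          rw [map_mul, map_inv, mul_inv_eq_one]
          have := DFunLike.congr_fun (hinv g') ⟨x, hx⟩
          rw [conjHom_apply'] at this
          exact this.symm
        · simp [commutatorElement_def, mul_assoc]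
      · intro x hx
        exact ⟨⟨x, hlt.le hx⟩, hβL _ hx, rfl⟩
    ext x
    have hx : (x : G) ∈ D := by
      rw [h]
      exact x.2
    obtain ⟨y, hy, hyx⟩ := hDB hx
    have hyx' : y = x := Subtype.ext hyx
    rw [← hyx']
    simpa using hy

/-- The orbit of `β₂` cannot absorb translations by the conjugates of `β₁`, so the orbit of `β₁ β₂`
has a prime in common with the orbit of `β₁`. -/
theorem not_coprime_mul_of_chief (hL : L.Normal) (hlt : L < K)
    (hchief : ∀ M : Subgroup G, M.Normal → L ≤ M → M ≤ K → M = L ∨ M = K) {β₁ β₂ : K →* ℂˣ}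
    (hβ₁L : ∀ x : K, (x : G) ∈ L → β₁ x = 1) (hβ₂L : ∀ x : K, (x : G) ∈ L → β₂ x = 1)
    (hβ₂1 : β₂ ≠ 1) (h₁ : 1 < (orbitFinset hK (lc β₁)).card)
    (hcop : Nat.Coprime (orbitFinset hK (lc β₂)).card (orbitFinset hK (lc β₁)).card) :
    ¬ Nat.Coprime (orbitFinset hK (lc β₁ * lc β₂)).card (orbitFinset hK (lc β₁)).card := by
  classical
  intro hc
  obtain ⟨M3, hu⟩ := coprime_orbit_facts hK hcop
  have h1 := hc.dvd_of_dvd_mul_right hu
  have h2 := Nat.le_of_dvd (orbit_card_pos hK (lc β₂)) h1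
  have tp := translate_preserves hK β₁ M3 h2
  set O := orbitFinset hK (lc β₂) with hO
  -- the sum of the orbit
  let f : K → ℂ := ∑ ψ ∈ O, ψ
  have hf : ∀ g : G, lc (conjHom hK g β₁ * β₁⁻¹) * f = f := by
    intro g
    set δ := conjHom hK g β₁ * β₁⁻¹ with hδ
    have himg : O.image (fun ψ => lc δ * ψ) = O := by
      apply Finset.eq_of_subset_of_card_le
      · intro φ hφ
        obtain ⟨ψ, hψ, rfl⟩ := Finset.mem_image.mp hφ
        exact tp g ψ hψ
      · rw [Finset.card_image_of_injective _ (fun a b hab => mul_left_inj_of_lc δ hab)]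
    change lc δ * ∑ ψ ∈ O, ψ = ∑ ψ ∈ O, ψ
    rw [Finset.mul_sum]
    conv_rhs => rw [← himg]
    rw [Finset.sum_image (fun a _ b _ hab => mul_left_inj_of_lc δ hab)]
  -- the subgroup of invariant values
  let C : Subgroup G :=
    { carrier := {x | ∃ hx : x ∈ K, ∀ g : G, conjHom hK g β₁ ⟨x, hx⟩ = β₁ ⟨x, hx⟩}
      one_mem' := ⟨K.one_mem, fun g => by
        have : (⟨1, K.one_mem⟩ : K) = 1 := rfl
        rw [this, map_one, map_one]⟩
      mul_mem' := by
        rintro a b ⟨ha, ha'⟩ ⟨hb, hb'⟩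
        refine ⟨K.mul_mem ha hb, fun g => ?_⟩
        have : (⟨a * b, K.mul_mem ha hb⟩ : K) = ⟨a, ha⟩ * ⟨b, hb⟩ := rfl
        rw [this, map_mul, map_mul, ha', hb']
      inv_mem' := by
        rintro a ⟨ha, ha'⟩
        refine ⟨K.inv_mem ha, fun g => ?_⟩
        have : (⟨a⁻¹, K.inv_mem ha⟩ : K) = (⟨a, ha⟩ : K)⁻¹ := rfl
        rw [this, map_inv, map_inv, ha'] }
  have hCn : C.Normal := by
    refine ⟨fun x hx h => ?_⟩
    obtain ⟨hxK, hx'⟩ := hx
    have hm := hK.conj_mem x hxK h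
    refine ⟨hm, fun g => ?_⟩
    have e1 : β₁ ⟨h * x * h⁻¹, hm⟩ = β₁ ⟨x, hxK⟩ := hx' h
    have e2 : conjHom hK g β₁ ⟨h * x * h⁻¹, hm⟩ = β₁ ⟨x, hxK⟩ := by
      rw [← hx' (g * h), conjHom_apply', conjHom_apply']
      congr 2
      simp [mul_assoc]
    rw [e1, e2]
  have hLC : L ≤ C := by
    intro x hx
    refine ⟨hlt.le hx, fun g => ?_⟩
    have a := hβ₁L ⟨x, hlt.le hx⟩ hx
    have b := hβ₁L ⟨g * x * g⁻¹, hK.conj_mem x (hlt.le hx) g⟩ (hL.conj_mem x hx g)
    rw [conjHom_apply']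
    exact b.trans a.symm
  have hCK : C ≤ K := fun x hx => hx.1
  have hCL : C = L := by
    rcases hchief C hCn hLC hCK with h | h
    · exact h
    · exfalso
      obtain ⟨g, hg⟩ := exists_conjHom_ne hK h₁
      apply hg
      ext x
      have hx : (x : G) ∈ C := by
        rw [h]
        exact x.2
      obtain ⟨_, hx'⟩ := hx
      exact congrArg _ (hx' g)
  have hf0 : ∀ x : K, (x : G) ∉ L → f x = 0 := by
    intro x hx
    have hxC : (x : G) ∉ C := by rwa [hCL]
    have hex : ∃ g : G, conjHom hK g β₁ x ≠ β₁ x := by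
      by_contra hcon
      push Not at hcon
      exact hxC ⟨x.2, hcon⟩
    obtain ⟨g, hg⟩ := hex
    have h3 := congrFun (hf g) x
    simp only [Pi.mul_apply] at h3
    have h4 : lc (conjHom hK g β₁ * β₁⁻¹) x ≠ 1 := by
      intro h5
      apply hg
      have h6 : (conjHom hK g β₁ * β₁⁻¹) x = 1 := Units.ext h5
      rw [MonoidHom.mul_apply, MonoidHom.inv_apply, mul_inv_eq_one] at h6
      exact h6
    have h5 : (lc (conjHom hK g β₁ * β₁⁻¹) x - 1) * f x = 0 := by
      rw [sub_mul, h3, one_mul, sub_self]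
    rcases mul_eq_zero.mp h5 with h6 | h6
    · exact absurd (sub_eq_zero.mp h6) h4
    · exact h6
  have hf1 : ∀ x : K, (x : G) ∈ L → f x = (O.card : ℂ) := by
    intro x hx
    change (∑ ψ ∈ O, ψ) x = _
    rw [Finset.sum_apply, Finset.sum_congr rfl (g := fun _ => (1 : ℂ))]
    · simp
    · intro ψ hψ
      obtain ⟨g, rfl⟩ := (mem_orbitFinset hK _ ψ).mp hψ
      rw [conjOn_lc]
      change ((conjHom hK g β₂ x : ℂˣ) : ℂ) = 1
      rw [conjHom_apply']
      have := hβ₂L ⟨g * x * g⁻¹, hK.conj_mem x x.2 g⟩ (hL.conj_mem x hx g)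
      simp [this]
  -- inner product with the trivial character
  have hin : classInner f (triv K) = 0 := by
    change classInner (∑ ψ ∈ O, ψ) (triv K) = 0
    rw [classInner_sum_left]
    apply Finset.sum_eq_zero
    intro ψ hψ
    apply classInner_eq_zero_of_isIrr_of_ne (isIrr_of_mem_orbit hK (isIrrCharacter_of_hom β₂) hψ)
      (isIrr_triv K)
    rintro rfl
    obtain ⟨g, hg⟩ := (mem_orbitFinset hK _ _).mp hψ
    apply hβ₂1
    apply lc_inj
    have h3 : lc β₂ = conjOn hK g⁻¹ (triv K) := by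
      rw [← hg, conjOn_inv_conjOn]
    rw [h3]
    funext n
    simp
  rw [classInner_def] at hin
  have hcard : (Nat.card K : ℂ)⁻¹ ≠ 0 := inv_ne_zero (by
    exact_mod_cast (Nat.card_pos (α := K)).ne')
  have hsum : ∑ x : K, f x * conj (triv K x) = 0 := (mul_eq_zero.mp hin).resolve_left hcard
  have hsum2 : ∑ x : K, f x * conj (triv K x) =
      ((∑ x : K, if (x : G) ∈ L then O.card else 0 : ℕ) : ℂ) := by
    rw [Nat.cast_sum]
    refine Finset.sum_congr rfl fun x _ => ?_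
    simp only [map_one, mul_one]
    by_cases hx : (x : G) ∈ L
    · rw [if_pos hx, hf1 x hx]
    · rw [if_neg hx, hf0 x hx]
      simp
  rw [hsum2] at hsum
  have h5 : 0 < ∑ x : K, (if (x : G) ∈ L then O.card else 0 : ℕ) := by
    have h6 := Finset.single_le_sum (f := fun x : K => (if (x : G) ∈ L then O.card else 0 : ℕ))
      (fun _ _ => Nat.zero_le _) (Finset.mem_univ (1 : K))
    have h7 : ((1 : K) : G) ∈ L := L.one_mem
    simp only [h7, if_true] at h6
    exact lt_of_lt_of_le (orbit_card_pos hK (lc β₂)) h6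
  have h6 : (∑ x : K, (if (x : G) ∈ L then O.card else 0 : ℕ)) = 0 := by exact_mod_cast hsum
  omega

variable {N : Subgroup G} {s : ℕ}

include hK in
theorem dvd_of_inv (hKG : K ≤ commutator G) (hs : s.Prime) {β : K →* ℂˣ} (hβ1 : β ≠ 1)
    (hβs : β ^ s = 1) (hinv : ∀ g, conjHom hK g β = β) {χ : G → ℂ} (hχ : IsIrrCharacter G χ)
    (hov : Over χ (lc β)) : s ∣ charDegree χ := by
  have h0 : β ^ charDegree χ = 1 :=
    pow_deg_of_invariant hK hKG β (fun g => by rw [conjOn_lc, hinv]) hχ hov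
  have h1 : orderOf β ∣ charDegree χ := orderOf_dvd_of_pow_eq_one h0
  rwa [order_eq_of_prime hs hβ1 hβs] at h1

theorem one_lt_orbit {β : K →* ℂˣ} (h : ¬ ∀ g, conjHom hK g β = β) :
    1 < (orbitFinset hK (lc β)).card := by
  by_contra hcon
  have h1 : (orbitFinset hK (lc β)).card = 1 := by
    have := orbit_card_pos hK (lc β)
    omega
  apply h
  intro g
  apply lc_inj
  rw [← conjOn_lc]
  exact inv_of_card_orbit_one hK h1 g

include hK in
/-- Two characters over the same chief factor are close. -/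
theorem same_layer_core (hL : L.Normal) (hlt : L < K)
    (hchief : ∀ M : Subgroup G, M.Normal → L ≤ M → M ≤ K → M = L ∨ M = K) (hKN : K ≤ N)
    (hNG : N ≤ commutator G) (hs : s.Prime) {β₁ β₂ : K →* ℂˣ} (hβ₁1 : β₁ ≠ 1) (hβ₂1 : β₂ ≠ 1)
    (hβ₁s : β₁ ^ s = 1) (hβ₂s : β₂ ^ s = 1) (hβ₁L : ∀ x : K, (x : G) ∈ L → β₁ x = 1)
    (hβ₂L : ∀ x : K, (x : G) ∈ L → β₂ x = 1) {χ₁ χ₂ : G → ℂ} (hχ₁ : IsIrrCharacter G χ₁)
    (hχ₂ : IsIrrCharacter G χ₂) (hov₁ : Over χ₁ (lc β₁)) (hov₂ : Over χ₂ (lc β₂)) :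
    Close N (charDegree χ₁) (charDegree χ₂) := by
  have hKG := hKN.trans hNG
  have pos₁ := charDegree_pos hχ₁
  by_cases hinv₁ : ∀ g, conjHom hK g β₁ = β₁
  · left
    have hinv₂ := inv_of_inv hK hL hlt hchief hβ₁1 hβ₁L hinv₁ hβ₂L
    exact one_lt_gcd hs.one_lt (dvd_of_inv hK hKG hs hβ₁1 hβ₁s hinv₁ hχ₁ hov₁)
      (dvd_of_inv hK hKG hs hβ₂1 hβ₂s hinv₂ hχ₂ hov₂) pos₁
  have hinv₂ : ¬ ∀ g, conjHom hK g β₂ = β₂ := fun h =>
    hinv₁ (inv_of_inv hK hL hlt hchief hβ₂1 hβ₂L h hβ₁L)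
  have hx₁ := one_lt_orbit hK hinv₁
  have hx₂ := one_lt_orbit hK hinv₂
  have hd₁ := card_orbit_dvd hK hχ₁ (isIrrCharacter_of_hom β₁) hov₁
  have hd₂ := card_orbit_dvd hK hχ₂ (isIrrCharacter_of_hom β₂) hov₂
  by_cases hcop : Nat.Coprime (orbitFinset hK (lc β₂)).card (orbitFinset hK (lc β₁)).card
  swap
  · left
    have hp := Nat.minFac_prime hcop
    exact one_lt_gcd hp.one_lt (((Nat.minFac_dvd _).trans (Nat.gcd_dvd_right _ _)).trans hd₁)
      (((Nat.minFac_dvd _).trans (Nat.gcd_dvd_left _ _)).trans hd₂) pos₁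
  right
  have c1 := not_coprime_mul_of_chief hK hL hlt hchief hβ₁L hβ₂L hβ₂1 hx₁ hcop
  have c2 := not_coprime_mul_of_chief hK hL hlt hchief hβ₂L hβ₁L hβ₁1 hx₂ hcop.symm
  have hcomm : lc β₂ * lc β₁ = lc β₁ * lc β₂ := mul_comm _ _
  rw [hcomm] at c2
  rw [← lc_mul] at c1 c2
  have hzirr := isIrrCharacter_of_hom (β₁ * β₂)
  obtain ⟨χ', hχ', hov'⟩ := exists_over (G := G) hzirr
  have hne : lc (β₁ * β₂) ≠ triv K := by
    intro h
    apply c1
    have h3 : (orbitFinset hK (lc (β₁ * β₂))).card = 1 := by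
      apply card_orbit_one_of_inv
      intro g
      rw [h]
      rfl
    rw [h3]
    exact Nat.coprime_one_left _
  obtain ⟨x, hx, hxne⟩ := moved_of_over hχ' hzirr hne hov'
  have hd' := card_orbit_dvd hK hχ' hzirr hov'
  refine ⟨charDegree χ', mem_rel hχ' ⟨x, hKN hx, hxne⟩, ?_, ?_⟩
  · have hp := Nat.minFac_prime c1
    exact one_lt_gcd hp.one_lt (((Nat.minFac_dvd _).trans (Nat.gcd_dvd_right _ _)).trans hd₁)
      (((Nat.minFac_dvd _).trans (Nat.gcd_dvd_left _ _)).trans hd') pos₁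
  · have hp := Nat.minFac_prime c2
    exact one_lt_gcd hp.one_lt (((Nat.minFac_dvd _).trans (Nat.gcd_dvd_left _ _)).trans hd')
      (((Nat.minFac_dvd _).trans (Nat.gcd_dvd_right _ _)).trans hd₂) (charDegree_pos hχ')

end Same

/-- Two characters trivial on `L` and moved on `K`, for a chief factor `K / L`, are close. -/
theorem same_layer_close {G : Type u} [Group G] [Finite G] {N L K : Subgroup G} {s : ℕ}
    (hl : Layer L K s) (hKN : K ≤ N) (hNG : N ≤ commutator G) {χ₁ χ₂ : G → ℂ}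
    (hχ₁ : IsIrrCharacter G χ₁) (hχ₂ : IsIrrCharacter G χ₂) (h₁t : ∀ x ∈ L, χ₁ x = χ₁ 1)
    (h₁m : ∃ x ∈ K, χ₁ x ≠ χ₁ 1) (h₂t : ∀ x ∈ L, χ₂ x = χ₂ 1)
    (h₂m : ∃ x ∈ K, χ₂ x ≠ χ₂ 1) : Close N (charDegree χ₁) (charDegree χ₂) := by
  classical
  letI : Fintype G := Fintype.ofFinite G
  letI : Fintype K := Fintype.ofFinite K
  obtain ⟨β₁, h1, h2, h3, h4⟩ := exists_lin_over hl hχ₁ h₁t h₁m
  obtain ⟨β₂, h1', h2', h3', h4'⟩ := exists_lin_over hl hχ₂ h₂t h₂m
  exact same_layer_core hl.hK hl.hL hl.lt hl.chief hKN hNG hl.prime h1 h1' h2 h2' h3 h3' hχ₁ hχ₂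
    h4 h4'

section Levels

variable {G : Type u} [Group G] [Finite G] {N : Subgroup G} {f : ℕ → Subgroup G} {t : ℕ}

/-- The level of a character moved on `N`. -/
theorem exists_level (hc : Chain N f t) {χ : G → ℂ} (hm : ∃ x ∈ N, χ x ≠ χ 1) :
    ∃ i, (∀ x ∈ f i, χ x = χ 1) ∧ ∃ x ∈ f (i + 1), χ x ≠ χ 1 := by
  classical
  have hex : ∃ j, ∃ x ∈ f j, χ x ≠ χ 1 := ⟨t, by rwa [hc.top]⟩
  have hj := Nat.find_spec hex
  have h0 : Nat.find hex ≠ 0 := by
    intro h
    rw [h, hc.bot] at hj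
    obtain ⟨x, hx, hne⟩ := hj
    rw [Subgroup.mem_bot] at hx
    exact hne (by rw [hx])
  obtain ⟨i, hi⟩ := Nat.exists_eq_succ_of_ne_zero h0
  refine ⟨i, ?_, ?_⟩
  · have := Nat.find_min hex (m := i) (by omega)
    push Not at this
    exact this
  · rw [hi] at hj
    exact hj

/-- The factor at the level of a character is a chief factor. -/
theorem layer_of_level (hc : Chain N f t) (hsolv : Group.IsSolvable N) {χ : G → ℂ} {i : ℕ}
    (h1 : ∀ x ∈ f i, χ x = χ 1) (h2 : ∃ x ∈ f (i + 1), χ x ≠ χ 1) :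
    ∃ s, Layer (f i) (f (i + 1)) s := by
  have hlt : f i < f (i + 1) := by
    refine lt_of_le_of_ne (hc.mono (Nat.le_succ i)) ?_
    intro h
    obtain ⟨x, hx, hne⟩ := h2
    rw [← h] at hx
    exact hne (h1 x hx)
  have hs : Group.IsSolvable (f (i + 1)) :=
    Group.isSolvable_of_isSolvable_injective (f := Subgroup.inclusion (hc.le (i + 1)))
      (Subgroup.inclusion_injective _)
  exact exists_layer (hc.normal i) (hc.normal (i + 1)) hlt (hc.chief i) hs

omit [Finite G] in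
theorem reach_of_close {a b : ℕ} (ha : a ∈ relCharDegrees N) (hb : b ∈ relCharDegrees N)
    (h : Close N a b) :
    (commonDivisorGraph.induce (relCharDegrees N)).Reachable ⟨a, ha⟩ ⟨b, hb⟩ := by
  rcases h with h | ⟨w, hw, h1, h2⟩
  · exact reach_of_gcd ha hb h
  · exact (reach_of_gcd ha hw h1).trans (reach_of_gcd hw hb h2)

/-- **Vertices outside a part closed under the graph**: if `P` is a union of components of the
graph on `cd(G|N)`, and holds somewhere, then any two vertices outside `P` are close. -/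
theorem close_of_not_part (hN : N.Normal) (hsolv : Group.IsSolvable N) (hNG : N ≤ commutator G)
    (P : ℕ → Prop)
    (hP : ∀ a ∈ relCharDegrees N, ∀ b ∈ relCharDegrees N, Close N a b → P a → P b)
    {a₀ : ℕ} (ha₀ : a₀ ∈ relCharDegrees N) (hPa₀ : P a₀) {b c : ℕ} (hb : b ∈ relCharDegrees N)
    (hc' : c ∈ relCharDegrees N) (hPb : ¬ P b) (hPc : ¬ P c) : Close N b c := by
  classical
  obtain ⟨f, t, hc⟩ := exists_chain N hN
  have key : ∀ (χ₁ χ₂ : G → ℂ) (i₁ i₂ : ℕ), IsIrrCharacter G χ₁ → IsIrrCharacter G χ₂ →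
      (∀ x ∈ f i₁, χ₁ x = χ₁ 1) → (∃ x ∈ f (i₁ + 1), χ₁ x ≠ χ₁ 1) →
      (∀ x ∈ f i₂, χ₂ x = χ₂ 1) → (∃ x ∈ f (i₂ + 1), χ₂ x ≠ χ₂ 1) → i₁ ≤ i₂ →
      ¬ P (charDegree χ₁) → ¬ P (charDegree χ₂) → Close N (charDegree χ₁) (charDegree χ₂) := by
    intro χ₁ χ₂ i₁ i₂ hχ₁ hχ₂ h₁t h₁m h₂t h₂m hle hPb hPc
    have hmem : ∀ (χ : G → ℂ) (i : ℕ), IsIrrCharacter G χ → (∃ x ∈ f i, χ x ≠ χ 1) →
        charDegree χ ∈ relCharDegrees N := by
      rintro χ i hχ ⟨x, hx, hne⟩
      exact mem_rel hχ ⟨x, hc.le i hx, hne⟩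
    have hb₁ := hmem χ₁ _ hχ₁ h₁m
    have hb₂ := hmem χ₂ _ hχ₂ h₂m
    have hmon : ∀ (χ : G → ℂ) {i j : ℕ}, i ≤ j → (∃ x ∈ f i, χ x ≠ χ 1) →
        ∃ x ∈ f j, χ x ≠ χ 1 := by
      rintro χ i j hij ⟨x, hx, hne⟩
      exact ⟨x, hc.mono hij hx, hne⟩
    rcases eq_or_lt_of_le hle with rfl | hlt
    · obtain ⟨s, hl⟩ := layer_of_level hc hsolv h₁t h₁m
      exact same_layer_close hl (hc.le _) hNG hχ₁ hχ₂ h₁t h₁m h₂t h₂m
    obtain ⟨s, hl⟩ := layer_of_level hc hsolv h₂t h₂m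
    have h₁m' : ∃ x ∈ f i₂, χ₁ x ≠ χ₁ 1 := hmon χ₁ hlt h₁m
    rcases link_close hl (hc.le _) hNG hχ₁ hχ₂ h₂t h₂m h₁m' with hs | hcl
    swap
    · exact hcl
    have claim : ∀ χ : G → ℂ, IsIrrCharacter G χ → (∃ x ∈ f (i₂ + 1), χ x ≠ χ 1) →
        ¬ P (charDegree χ) := by
      intro χ hχ hm hPχ
      have hχV := hmem χ _ hχ hm
      by_cases htriv : ∀ x ∈ f i₂, χ x = χ 1
      · exact hPc (hP _ hχV _ hb₂ (same_layer_close hl (hc.le _) hNG hχ hχ₂ htriv hm h₂t h₂m) hPχ)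
      · push Not at htriv
        rcases link_close hl (hc.le _) hNG hχ hχ₂ h₂t h₂m htriv with hs' | hcl
        · exact hPb (hP _ hχV _ hb₁
            (Or.inl (one_lt_gcd hl.prime.one_lt hs' hs (charDegree_pos hχ))) hPχ)
        · exact hPc (hP _ hχV _ hb₂ hcl hPχ)
    have hex : ∃ j, ∃ χ : G → ℂ, IsIrrCharacter G χ ∧ (∃ x ∈ f j, χ x ≠ χ 1) ∧
        P (charDegree χ) := by
      obtain ⟨χ₀, hχ₀, hm₀, rfl⟩ := exists_of_mem ha₀
      exact ⟨t, χ₀, hχ₀, by rwa [hc.top], hPa₀⟩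
    obtain ⟨χ', hχ', hm', hP'⟩ := Nat.find_spec hex
    have hj : i₂ + 1 < Nat.find hex := by
      by_contra hcon
      push Not at hcon
      exact claim χ' hχ' (hmon χ' hcon hm') hP'
    obtain ⟨i, hi⟩ := Nat.exists_eq_succ_of_ne_zero (show Nat.find hex ≠ 0 by omega)
    rw [hi] at hm'
    have hmin : ∀ χ : G → ℂ, IsIrrCharacter G χ → (∃ x ∈ f i, χ x ≠ χ 1) → ¬ P (charDegree χ) := by
      intro χ hχ hm hPχ
      exact Nat.find_min hex (m := i) (by omega) ⟨χ, hχ, hm, hPχ⟩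
    have ht' : ∀ x ∈ f i, χ' x = χ' 1 := by
      by_contra hcon
      push Not at hcon
      exact hmin χ' hχ' hcon hP'
    obtain ⟨s', hl'⟩ := layer_of_level hc hsolv ht' hm'
    have hχ'V := hmem χ' _ hχ' hm'
    have hdiv : ∀ χ : G → ℂ, IsIrrCharacter G χ → (∃ x ∈ f i, χ x ≠ χ 1) →
        s' ∣ charDegree χ := by
      intro χ hχ hm
      rcases link_close hl' (hc.le _) hNG hχ hχ' ht' hm' hm with h | hcl
      · exact h
      · exact (hmin χ hχ hm (hP _ hχ'V _ (hmem χ _ hχ hm) hcl.symm hP')).elim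
    left
    exact one_lt_gcd hl'.prime.one_lt (hdiv χ₁ hχ₁ (hmon χ₁ (by omega) h₁m))
      (hdiv χ₂ hχ₂ (hmon χ₂ (by omega) h₂m)) (charDegree_pos hχ₁)
  obtain ⟨χ₁, hχ₁, hm₁, rfl⟩ := exists_of_mem hb
  obtain ⟨χ₂, hχ₂, hm₂, rfl⟩ := exists_of_mem hc'
  obtain ⟨i₁, h₁t, h₁m⟩ := exists_level hc hm₁
  obtain ⟨i₂, h₂t, h₂m⟩ := exists_level hc hm₂
  rcases le_total i₁ i₂ with h | h
  · exact key χ₁ χ₂ i₁ i₂ hχ₁ hχ₂ h₁t h₁m h₂t h₂m h hPb hPc
  · exact (key χ₂ χ₁ i₂ i₁ hχ₂ hχ₁ h₂t h₂m h₁t h₁m h hPc hPb).symm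

omit [Finite G] in
theorem commutator_lt_of_solvable (hsolv : Group.IsSolvable N) (hne : N ≠ ⊥) : ⁅N, N⁆ < N := by
  haveI : Nontrivial N := by
    rw [Subgroup.nontrivial_iff_ne_bot]
    exact hne
  have h1 := Group.IsSolvable.commutator_lt_top_of_nontrivial (G := N)
  refine lt_of_le_of_ne (Subgroup.commutator_le.mpr fun a ha b hb =>
    N.mul_mem (N.mul_mem (N.mul_mem ha hb) (N.inv_mem ha)) (N.inv_mem hb)) ?_
  intro h
  apply ne_of_lt h1
  have h2 : (commutator N).map N.subtype = N := by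
    rw [Subgroup.map_subtype_commutator]
    exact h
  rw [eq_top_iff]
  intro x _
  have h3 : (x : G) ∈ (commutator N).map N.subtype := by
    rw [h2]
    exact x.2
  obtain ⟨y, hy, hyx⟩ := h3
  have : y = x := Subtype.ext hyx
  rwa [← this]

/-- **Disconnected relative degree graphs** (Isaacs-Knutson). -/
theorem main_disconnected (N : Subgroup G) [hN : N.Normal] [hsolv : Group.IsSolvable N]
    (hNG : N ≤ commutator G)
    (hdisc : ¬ (commonDivisorGraph.induce (relCharDegrees N)).Preconnected) :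
    ∃ a₀ : ↥(relCharDegrees N),
      (∀ b c : ↥(relCharDegrees N), (commonDivisorGraph.induce (relCharDegrees N)).Reachable a₀ b →
        (commonDivisorGraph.induce (relCharDegrees N)).Reachable a₀ c → b ≠ c →
        (commonDivisorGraph.induce (relCharDegrees N)).Adj b c) ∧
      (∀ b c : ↥(relCharDegrees N), ¬ (commonDivisorGraph.induce (relCharDegrees N)).Reachable a₀ b →
        ¬ (commonDivisorGraph.induce (relCharDegrees N)).Reachable a₀ c → b ≠ c →
        (commonDivisorGraph.induce (relCharDegrees N)).Adj b c ∨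
        ∃ d : ↥(relCharDegrees N), (commonDivisorGraph.induce (relCharDegrees N)).Adj b d ∧
          (commonDivisorGraph.induce (relCharDegrees N)).Adj d c) := by
  classical
  letI : Fintype G := Fintype.ofFinite G
  letI : Fintype N := Fintype.ofFinite N
  have hpre : ¬ ∀ u v : ↥(relCharDegrees N),
      (commonDivisorGraph.induce (relCharDegrees N)).Reachable u v := fun h => hdisc h
  push Not at hpre
  obtain ⟨⟨x, hx⟩, ⟨y, hy⟩, hxy⟩ := hpre
  have hne : N ≠ ⊥ := by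
    rintro rfl
    obtain ⟨χ, hχ, ⟨z, hz, hzne⟩, -⟩ := exists_of_mem hx
    rw [Subgroup.mem_bot] at hz
    exact hzne (by rw [hz])
  have hlt := commutator_lt_of_solvable hsolv hne
  have hm1 : ⁅N, N⁆.relIndex N ≠ 1 := by
    intro h
    exact (not_le_of_gt hlt) (Subgroup.relIndex_eq_one.mp h)
  have hr := Nat.minFac_prime hm1
  have hrm := Nat.minFac_dvd (⁅N, N⁆.relIndex N)
  set r := (⁅N, N⁆.relIndex N).minFac with hrdef
  have hA : ∀ {a b : ℕ} (ha : a ∈ relCharDegrees N) (hb : b ∈ relCharDegrees N),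
      (r ∣ a ∧ r ∣ b) ∨ (¬ r ∣ a ∧ ¬ r ∣ b) →
      (commonDivisorGraph.induce (relCharDegrees N)).Reachable ⟨a, ha⟩ ⟨b, hb⟩ :=
    fun ha hb h => lemma_A hN hNG hr hrm ha hb h
  have key : ∀ (a₀ b₀ : ℕ) (ha₀ : a₀ ∈ relCharDegrees N) (hb₀ : b₀ ∈ relCharDegrees N),
      r ∣ a₀ → ¬ r ∣ b₀ →
      ¬ (commonDivisorGraph.induce (relCharDegrees N)).Reachable ⟨a₀, ha₀⟩ ⟨b₀, hb₀⟩ →
      ∃ a₀ : ↥(relCharDegrees N),
      (∀ b c : ↥(relCharDegrees N), (commonDivisorGraph.induce (relCharDegrees N)).Reachable a₀ b →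
        (commonDivisorGraph.induce (relCharDegrees N)).Reachable a₀ c → b ≠ c →
        (commonDivisorGraph.induce (relCharDegrees N)).Adj b c) ∧
      (∀ b c : ↥(relCharDegrees N), ¬ (commonDivisorGraph.induce (relCharDegrees N)).Reachable a₀ b →
        ¬ (commonDivisorGraph.induce (relCharDegrees N)).Reachable a₀ c → b ≠ c →
        (commonDivisorGraph.induce (relCharDegrees N)).Adj b c ∨
        ∃ d : ↥(relCharDegrees N), (commonDivisorGraph.induce (relCharDegrees N)).Adj b d ∧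
          (commonDivisorGraph.induce (relCharDegrees N)).Adj d c) := by
    intro a₀ b₀ ha₀ hb₀ hra hrb hnr
    have hdvd : ∀ (z : ℕ) (hz : z ∈ relCharDegrees N),
        (commonDivisorGraph.induce (relCharDegrees N)).Reachable ⟨a₀, ha₀⟩ ⟨z, hz⟩ → r ∣ z := by
      intro z hz hre
      by_contra hrz
      exact hnr (hre.trans (hA hz hb₀ (Or.inr ⟨hrz, hrb⟩)))
    refine ⟨⟨a₀, ha₀⟩, ?_, ?_⟩
    · rintro ⟨b, hb⟩ ⟨c, hc⟩ h1 h2 hbc
      exact ⟨fun h => hbc (Subtype.ext h),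
        one_lt_gcd hr.one_lt (hdvd b hb h1) (hdvd c hc h2) (pos_of_mem hb)⟩
    · rintro ⟨b, hb⟩ ⟨c, hc⟩ h1 h2 hbc
      have hbc' : b ≠ c := fun h => hbc (Subtype.ext h)
      have hcl := close_of_not_part hN hsolv hNG
        (fun z => ∃ hz : z ∈ relCharDegrees N,
          (commonDivisorGraph.induce (relCharDegrees N)).Reachable ⟨a₀, ha₀⟩ ⟨z, hz⟩)
        (fun u hu v hv huv ⟨_, hre⟩ => ⟨hv, hre.trans (reach_of_close hu hv huv)⟩)
        ha₀ ⟨ha₀, SimpleGraph.Reachable.refl _⟩ hb hc (fun ⟨_, h⟩ => h1 h) (fun ⟨_, h⟩ => h2 h)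
      rcases hcl with h | ⟨w, hw, h3, h4⟩
      · exact Or.inl ⟨hbc', h⟩
      · by_cases hwb : w = b
        · subst hwb
          exact Or.inl ⟨hbc', h4⟩
        by_cases hwc : w = c
        · subst hwc
          exact Or.inl ⟨hbc', h3⟩
        exact Or.inr ⟨⟨w, hw⟩, ⟨Ne.symm hwb, h3⟩, ⟨hwc, h4⟩⟩
  by_cases h1 : r ∣ x
  · have h2 : ¬ r ∣ y := fun h2 => hxy (hA hx hy (Or.inl ⟨h1, h2⟩))
    exact key x y hx hy h1 h2 hxy
  · have h2 : r ∣ y := by
      by_contra h2
      exact hxy (hA hx hy (Or.inr ⟨h1, h2⟩))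
    exact key y x hy hx h2 h1 (fun h => hxy h.symm)

end Levels

end Cfsg.Agent.Lib.Char.RelDiam
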