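import Cfsg.Prelude.Def_DegreeGraph
import Cfsg.Agent.Lib.Char.DetChar
import Cfsg.Agent.Lib.Char.CliffordCorr
import Cfsg.Agent.Lib.Char.Degree
import Mathlib.GroupTheory.Perm.Cycle.Type

/-!
# The common-divisor graph on the relative degree set

For `N ⊴ G` with `N' < N ≤ G'` (Isaacs-Knutson): at most two components, and when disconnected one
component is coprime to `[N:N']` and the other divisible by all its primes.
-/

set_option autoImplicit false
set_option linter.style.haveILetI false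
set_option linter.unusedVariables false
set_option linter.unusedSectionVars false
set_option linter.style.multiGoal false
set_option linter.style.longLine false

namespace Cfsg.Agent.Lib.Char.RelGraph

open Cfsg Module
open Cfsg.Agent.Lib.Char.Basic Cfsg.Agent.Lib.Char.Ortho Cfsg.Agent.Lib.Char.Complete
open Cfsg.Agent.Lib.Char.Conj Cfsg.Agent.Lib.Char.Induced Cfsg.Agent.Lib.Char.Clifford
open Cfsg.Agent.Lib.Char.CliffordCorr Cfsg.Agent.Lib.Char.DetChar Cfsg.Agent.Lib.Char.Degree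
open Cfsg.Agent.Lib.Char.Linear
open scoped ComplexConjugate

universe u

/-! ### Products of subgroups of coprime index -/

section Product

variable {G : Type u} [Group G] [Finite G]

/-- The index of the intersection of two subgroups of coprime index. -/
theorem index_inf_of_coprime (A B : Subgroup G) (h : Nat.Coprime A.index B.index) :
    (A ⊓ B).index = A.index * B.index := by
  haveI := Subgroup.finiteIndex_of_finite_quotient (H := A)
  haveI := Subgroup.finiteIndex_of_finite_quotient (H := B)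
  have h1 : A.index ∣ (A ⊓ B).index := Subgroup.index_dvd_of_le inf_le_left
  have h2 : B.index ∣ (A ⊓ B).index := Subgroup.index_dvd_of_le inf_le_right
  have h3 := h.mul_dvd_of_dvd_of_dvd h1 h2
  exact Nat.le_antisymm Subgroup.index_inf_le
    (Nat.le_of_dvd (Nat.pos_of_ne_zero Subgroup.FiniteIndex.index_ne_zero) h3)

/-- Two subgroups of coprime index have product `G`. -/
theorem exists_mul_of_coprime (A B : Subgroup G) (h : Nat.Coprime A.index B.index) (g : G) :
    ∃ a ∈ A, ∃ b ∈ B, g = a * b := by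
  classical
  have hcard := index_inf_of_coprime A B h
  have hrel : A.relIndex B = A.index := by
    have h1 : (A ⊓ B).relIndex B * B.index = (A ⊓ B).index :=
      Subgroup.relIndex_mul_index inf_le_right
    rw [Subgroup.inf_relIndex_right, hcard] at h1
    exact Nat.eq_of_mul_eq_mul_right (Nat.pos_of_ne_zero (Subgroup.index_ne_zero_of_finite)) h1
  -- the map from cosets
  let F : B ⧸ (A.subgroupOf B) → G ⧸ A := fun q =>
    Quotient.liftOn' q (fun b : B => ((b : G) : G ⧸ A)) (by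
      intro x y hxy
      rw [QuotientGroup.leftRel_apply, Subgroup.mem_subgroupOf] at hxy
      apply QuotientGroup.eq.mpr
      simpa using hxy)
  have hinj : Function.Injective F := by
    intro p q
    induction p using QuotientGroup.induction_on with
    | H x =>
      induction q using QuotientGroup.induction_on with
      | H y =>
        intro hxy
        apply QuotientGroup.eq.mpr
        rw [Subgroup.mem_subgroupOf]
        have : ((x : G) : G ⧸ A) = ((y : G) : G ⧸ A) := hxy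
        simpa using QuotientGroup.eq.mp this
  have hcard' : Nat.card (B ⧸ (A.subgroupOf B)) = Nat.card (G ⧸ A) := by
    change (A.subgroupOf B).index = A.index
    exact hrel
  have hsurj : Function.Surjective F := by
    haveI : Finite (G ⧸ A) := inferInstance
    exact (Nat.bijective_iff_injective_and_card F).mpr ⟨hinj, hcard'⟩ |>.2
  obtain ⟨q, hq⟩ := hsurj ((g⁻¹ : G) : G ⧸ A)
  induction q using QuotientGroup.induction_on with
  | H b =>
    have h1 : ((b : G) : G ⧸ A) = ((g⁻¹ : G) : G ⧸ A) := hq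
    have h2 := QuotientGroup.eq.mp h1
    refine ⟨g * b, ?_, (b : G)⁻¹, B.inv_mem b.2, by simp⟩
    have h3 := A.inv_mem h2
    simpa using h3

end Product

/-! ### Linear characters -/

section LinearChars

variable {K : Type u} [Group K] [Finite K]

/-- A homomorphism to `ℂˣ` as a function. -/
abbrev lc (β : K →* ℂˣ) : K → ℂ := fun n => ((β n : ℂˣ) : ℂ)

@[simp] theorem lc_one_apply (n : K) : lc (1 : K →* ℂˣ) n = 1 := by simp [lc]

theorem lc_mul (β γ : K →* ℂˣ) : lc (β * γ) = lc β * lc γ := by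
  funext n
  simp [lc]

theorem lc_pow (β : K →* ℂˣ) (k : ℕ) (n : K) : lc (β ^ k) n = (lc β n) ^ k := by
  simp [lc]

theorem lc_inj {β γ : K →* ℂˣ} (h : lc β = lc γ) : β = γ := by
  ext n
  exact congrFun h n

theorem lc_ne_zero (β : K →* ℂˣ) (n : K) : lc β n ≠ 0 := (β n).ne_zero

theorem mul_left_inj_of_lc (β : K →* ℂˣ) {a b : K → ℂ} (h : lc β * a = lc β * b) : a = b := by
  funext n
  have h1 := congrFun h n
  simp only [Pi.mul_apply] at h1
  exact mul_left_cancel₀ (lc_ne_zero β n) h1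

theorem isCharacter_lc (β : K →* ℂˣ) : IsCharacter K (lc β) :=
  isCharacter_of_isIrrCharacter (isIrrCharacter_of_hom β)

theorem lc_apply_one (β : K →* ℂˣ) : lc β 1 = 1 := by simp [lc]

theorem lc_mul_conj (β : K →* ℂˣ) (n : K) : lc β n * conj (lc β n) = 1 := by
  have h1 : (lc β n) ^ orderOf n = 1 := by
    rw [← lc_pow]
    have : (β ^ orderOf n) n = 1 := by
      rw [MonoidHom.pow_apply, ← map_pow, pow_orderOf_eq_one, map_one]
    simp [lc, this]
  have h2 : ‖lc β n‖ = 1 :=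
    Complex.norm_eq_one_of_pow_eq_one h1 (orderOf_pos n).ne'
  rw [Complex.mul_conj, Complex.normSq_eq_norm_sq, h2]
  simp

/-- Multiplication by a linear character preserves irreducibility. -/
theorem isIrr_lc_mul [Fintype K] (β : K →* ℂˣ) {θ : K → ℂ} (hθ : IsIrrCharacter K θ) :
    IsIrrCharacter K (lc β * θ) := by
  rw [isIrrCharacter_iff]
  refine ⟨isCharacter_mul (isCharacter_lc β) (isCharacter_of_isIrrCharacter hθ), ?_⟩
  rw [← classInner_self_of_isIrr hθ]
  simp only [classInner_def, Pi.mul_apply, map_mul]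
  congr 1
  refine Finset.sum_congr rfl fun n _ => ?_
  have := lc_mul_conj β n
  calc lc β n * θ n * (conj (lc β n) * conj (θ n))
      = (lc β n * conj (lc β n)) * (θ n * conj (θ n)) := by ring
    _ = θ n * conj (θ n) := by rw [this, one_mul]

/-- `detChar` of the sum of two characters. -/
theorem detChar_add {a b : K → ℂ} (ha : IsCharacter K a) (hb : IsCharacter K b) :
    detChar (a + b) = detChar a * detChar b := by
  obtain ⟨n, ρ, rfl⟩ := ha
  obtain ⟨m, σ, rfl⟩ := hb
  rw [← character_prod, detChar_character, detChar_character, detChar_character]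
  funext g
  exact LinearMap.det_prodMap _ _

theorem detChar_zero : detChar (0 : K → ℂ) = 1 := by
  have h1 : (0 : K → ℂ) = (Representation.trivial ℂ K (Fin 0 → ℂ)).character := by
    funext g
    simp [Representation.character]
  rw [h1, detChar_character]
  funext g
  simp

theorem detChar_nsmul {a : K → ℂ} (ha : IsCharacter K a) (e : ℕ) :
    detChar (e • a) = detChar a ^ e := by
  induction e with
  | zero => simp [detChar_zero]
  | succ e ih =>
    rw [succ_nsmul, detChar_add (isCharacter_nsmul ha e) ha, ih, pow_succ]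

theorem detChar_sum {ι : Type*} (s : Finset ι) (f : ι → K → ℂ) (hf : ∀ i ∈ s, IsCharacter K (f i)) :
    detChar (∑ i ∈ s, f i) = ∏ i ∈ s, detChar (f i) := by
  classical
  induction s using Finset.induction_on with
  | empty => simp [detChar_zero]
  | insert i s his ih =>
    rw [Finset.sum_insert his, Finset.prod_insert his,
      detChar_add (hf i (Finset.mem_insert_self i s))
        (isCharacter_sum s f (fun j hj => hf j (Finset.mem_insert_of_mem hj))),
      ih (fun j hj => hf j (Finset.mem_insert_of_mem hj))]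

/-- `detChar` of a linear character. -/
theorem detChar_lc (β : K →* ℂˣ) : detChar (lc β) = lc β := by
  have h1 : lc β = (homRep β).character := (homRep_character β).symm
  rw [h1, detChar_character]
  funext g
  rw [Representation.character]
  change LinearMap.det (((β g : ℂˣ) : ℂ) • (LinearMap.id : ℂ →ₗ[ℂ] ℂ)) = LinearMap.trace ℂ ℂ (((β g : ℂˣ) : ℂ) • (LinearMap.id : ℂ →ₗ[ℂ] ℂ))
  simp

theorem detChar_ne_zero {a : K → ℂ} (ha : IsCharacter K a) (n : K) : detChar a n ≠ 0 := by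
  obtain ⟨m, ρ, rfl⟩ := ha
  rw [detChar_character]
  have h1 : LinearMap.det (ρ n) * LinearMap.det (ρ n⁻¹) = 1 := by
    rw [← map_mul, ← map_mul]
    simp
  exact left_ne_zero_of_mul_eq_one h1

/-- If a linear character of order `r` fixes `θ` under multiplication then `r` divides the degree. -/
theorem dvd_deg_of_lc_mul_eq {r : ℕ} (hr : r.Prime) (δ : K →* ℂˣ) (h1 : δ ≠ 1) (h2 : δ ^ r = 1)
    {θ : K → ℂ} (hθ : IsCharacter K θ) (h : lc δ * θ = θ) : r ∣ charDegree θ := by
  have hd : θ 1 = (charDegree θ : ℕ) := (charDegree_natCast hθ).symm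
  have hord : orderOf δ = r := by
    haveI : Fact r.Prime := ⟨hr⟩
    exact orderOf_eq_prime h2 h1
  rw [← hord]
  apply orderOf_dvd_of_pow_eq_one
  ext n
  have h3 := detChar_mul_hom δ hθ hd n
  have h4 : (fun x => ((δ x : ℂˣ) : ℂ) * θ x) = θ := h
  rw [h4] at h3
  have h5 := detChar_ne_zero hθ n
  have h6 : ((δ n : ℂˣ) : ℂ) ^ charDegree θ = 1 := by
    have : ((δ n : ℂˣ) : ℂ) ^ charDegree θ * detChar θ n = 1 * detChar θ n := by
      rw [← h3, one_mul]
    exact mul_right_cancel₀ h5 this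
  simpa using h6

end LinearChars


/-! ### Characters lying over -/

section Over

variable {G : Type u} [Group G] [Fintype G] {N : Subgroup G} (hN : N.Normal) [Fintype N]

/-- `χ` lies over `θ`. -/
abbrev Over (χ : G → ℂ) (θ : N → ℂ) : Prop := classInner (fun n : N => χ n) θ ≠ 0

/-- The trivial function. -/
abbrev triv (K : Type*) : K → ℂ := fun _ => 1

theorem exists_mult {χ : G → ℂ} {θ : N → ℂ} (hχ : IsIrrCharacter G χ) (hθ : IsIrrCharacter N θ) :
    ∃ e : ℕ, classInner (fun n : N => χ n) θ = e :=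
  exists_nat_classInner (isCharacter_restrict N (isCharacter_of_isIrrCharacter hχ))
    (isCharacter_of_isIrrCharacter hθ)

theorem exists_over {θ : N → ℂ} (hθ : IsIrrCharacter N θ) :
    ∃ χ : G → ℂ, IsIrrCharacter G χ ∧ Over χ θ := by
  have hne : indFun N θ ≠ 0 := by
    intro h
    have h1 := congrFun h 1
    rw [indFun_one] at h1
    have h2 : θ 1 ≠ 0 := irr_one_ne_zero hθ
    have h3 : (N.index : ℂ) ≠ 0 := by
      exact_mod_cast Subgroup.index_ne_zero_of_finite
    exact (mul_ne_zero h3 h2) h1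
  obtain ⟨χ, hχ, hc⟩ := exists_irr_constituent (isClassFunction_indFun N θ) hne
  refine ⟨χ, hχ, ?_⟩
  rw [classInner_indFun_left N θ χ (isClassFunction_of_isIrrCharacter hχ)] at hc
  exact classInner_ne_zero_comm hc

theorem isIrr_triv (K : Type*) [Group K] : IsIrrCharacter K (triv K) := by
  have := isIrrCharacter_of_hom (1 : K →* ℂˣ)
  simpa using this

theorem moved_of_over {χ : G → ℂ} {θ : N → ℂ} (hχ : IsIrrCharacter G χ) (hθ : IsIrrCharacter N θ)
    (hθ1 : θ ≠ triv N) (h : Over χ θ) : ∃ x ∈ N, χ x ≠ χ 1 := by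
  by_contra hcon
  push Not at hcon
  apply h
  have h1 : (fun n : N => χ n) = χ 1 • triv N := by
    funext n
    simp [hcon n n.2]
  rw [h1, classInner_smul_left, classInner_eq_zero_of_isIrr_of_ne (isIrr_triv N) hθ hθ1.symm,
    mul_zero]

variable [DecidableEq (N → ℂ)]

include hN in
theorem exists_over_of_moved {χ : G → ℂ} (hχ : IsIrrCharacter G χ) (hx : ∃ x ∈ N, χ x ≠ χ 1) :
    ∃ θ : N → ℂ, IsIrrCharacter N θ ∧ θ ≠ triv N ∧ Over χ θ := by
  have hres : IsCharacter N (fun n : N => χ n) :=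
    isCharacter_restrict N (isCharacter_of_isIrrCharacter hχ)
  have hne : (fun n : N => χ n) ≠ 0 := by
    intro h
    have h1 := congrFun h 1
    exact irr_one_ne_zero hχ (by simpa using h1)
  obtain ⟨θ, hθ, hc⟩ := exists_irr_constituent (isClassFunction_of_isCharacter hres) hne
  refine ⟨θ, hθ, ?_, hc⟩
  rintro rfl
  obtain ⟨x, hxN, hxne⟩ := hx
  apply hxne
  have h1 := clifford_restrict hN hχ hθ hc
  have h2 : orbitFinset hN (triv N) = {triv N} := by
    ext φ
    simp only [mem_orbitFinset, Finset.mem_singleton]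
    constructor
    · rintro ⟨g, rfl⟩
      rfl
    · rintro rfl
      exact ⟨1, rfl⟩
  rw [h2, Finset.sum_singleton] at h1
  have h3 := congrFun h1 ⟨x, hxN⟩
  have h4 := congrFun h1 1
  simp only [Pi.smul_apply, smul_eq_mul, mul_one] at h3 h4
  rw [show ((1 : N) : G) = 1 from rfl] at h4
  exact h3.trans h4.symm

/-- The degree formula. -/
theorem deg_eq {χ : G → ℂ} {θ : N → ℂ} (hχ : IsIrrCharacter G χ) (hθ : IsIrrCharacter N θ)
    (h : Over χ θ) {e : ℕ} (he : classInner (fun n : N => χ n) θ = e) :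
    charDegree χ = e * (orbitFinset hN θ).card * charDegree θ := by
  have h1 := deg_eq_of_constituent hN hχ hθ h
  rw [he, ← charDegree_natCast (isCharacter_of_isIrrCharacter hχ),
    ← charDegree_natCast (isCharacter_of_isIrrCharacter hθ), ← card_orbit_eq_index] at h1
  exact_mod_cast h1

theorem card_orbit_dvd {χ : G → ℂ} {θ : N → ℂ} (hχ : IsIrrCharacter G χ) (hθ : IsIrrCharacter N θ)
    (h : Over χ θ) : (orbitFinset hN θ).card ∣ charDegree χ := by
  obtain ⟨e, he⟩ := exists_mult hχ hθ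
  rw [deg_eq hN hχ hθ h he]
  exact ⟨e * charDegree θ, by ring⟩

include hN in
theorem deg_dvd {χ : G → ℂ} {θ : N → ℂ} (hχ : IsIrrCharacter G χ) (hθ : IsIrrCharacter N θ)
    (h : Over χ θ) : charDegree θ ∣ charDegree χ := by
  obtain ⟨e, he⟩ := exists_mult hχ hθ
  rw [deg_eq hN hχ hθ h he]
  exact Dvd.intro_left _ rfl

include hN in
theorem mult_dvd {χ : G → ℂ} {θ : N → ℂ} (hχ : IsIrrCharacter G χ) (hθ : IsIrrCharacter N θ)
    (h : Over χ θ) {e : ℕ} (he : classInner (fun n : N => χ n) θ = e) : e ∣ charDegree χ := by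
  rw [deg_eq hN hχ hθ h he]
  exact ⟨(orbitFinset hN θ).card * charDegree θ, by ring⟩

/-- The determinant relation: `N ≤ G'` forces `(∏_{ψ ∈ orbit θ} det ψ)^e = 1`. -/
theorem det_prod_pow_eq_one (hNG : N ≤ commutator G) {χ : G → ℂ} {θ : N → ℂ}
    (hχ : IsIrrCharacter G χ) (hθ : IsIrrCharacter N θ) (h : Over χ θ) {e : ℕ}
    (he : classInner (fun n : N => χ n) θ = e) (n : N) :
    (∏ ψ ∈ orbitFinset hN θ, detChar ψ n) ^ e = 1 := by
  have h1 := clifford_restrict hN hχ hθ h
  rw [he, Nat.cast_smul_eq_nsmul] at h1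
  have horb : ∀ ψ ∈ orbitFinset hN θ, IsCharacter N ψ := by
    intro ψ hψ
    obtain ⟨g, rfl⟩ := (mem_orbitFinset hN θ ψ).mp hψ
    exact isCharacter_of_isIrrCharacter (isIrrCharacter_conjOn hN g hθ)
  have hchar := isCharacter_of_isIrrCharacter hχ
  have h2 : detChar χ (N.subtype n) = detChar (fun n : N => χ n) n :=
    detChar_restrict hchar N.subtype (fun _ => rfl) n
  have h3 : detChar χ (N.subtype n) = 1 := by
    obtain ⟨m, ρ, rfl⟩ := hchar
    rw [detChar_character]
    have h4 := Abelianization.commutator_subset_ker (detRep ρ) (hNG n.2)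
    rw [MonoidHom.mem_ker] at h4
    have h5 := coe_detRep ρ (n : G)
    rw [h4] at h5
    simpa using h5.symm
  rw [h3, h1, detChar_nsmul (isCharacter_sum _ _ (fun ψ hψ => horb ψ hψ)),
    detChar_sum _ _ (fun ψ hψ => horb ψ hψ)] at h2
  simpa [Pi.pow_apply, Finset.prod_apply] using h2.symm

end Over


/-! ### Orbits and products -/

section Orbits

variable {G : Type u} [Group G] [Fintype G] {N : Subgroup G} (hN : N.Normal) [Fintype N]
  [DecidableEq (N → ℂ)]

/-- The conjugate of a homomorphism. -/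
def conjHom (g : G) (β : N →* ℂˣ) : N →* ℂˣ := β.comp (conjEquiv hN g).toMonoidHom

theorem conjOn_lc (g : G) (β : N →* ℂˣ) : conjOn hN g (lc β) = lc (conjHom hN g β) := by
  funext n
  rfl

theorem conjOn_mul_fun (g : G) (a b : N → ℂ) :
    conjOn hN g (a * b) = conjOn hN g a * conjOn hN g b := by
  funext n
  rfl

theorem conjHom_pow_eq_one {β : N →* ℂˣ} {r : ℕ} (h : β ^ r = 1) (g : G) :
    conjHom hN g β ^ r = 1 := by
  ext n
  have h1 := DFunLike.congr_fun h (conjEquiv hN g n)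
  have h2 : (β (conjEquiv hN g n)) ^ r = 1 := by simpa using h1
  have h3 := congrArg Units.val h2
  simpa [conjHom] using h3

theorem mem_orbit_self (θ : N → ℂ) : θ ∈ orbitFinset hN θ :=
  (mem_orbitFinset hN θ θ).mpr ⟨1, conjOn_one hN θ⟩

theorem conj_mem_orbit {θ ψ : N → ℂ} (hψ : ψ ∈ orbitFinset hN θ) (g : G) :
    conjOn hN g ψ ∈ orbitFinset hN θ := by
  obtain ⟨h, rfl⟩ := (mem_orbitFinset hN θ ψ).mp hψ
  exact (mem_orbitFinset hN θ _).mpr ⟨h * g, (conjOn_mul hN h g θ)⟩

theorem isIrr_of_mem_orbit {θ ψ : N → ℂ} (hθ : IsIrrCharacter N θ) (hψ : ψ ∈ orbitFinset hN θ) :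
    IsIrrCharacter N ψ := by
  obtain ⟨g, rfl⟩ := (mem_orbitFinset hN θ ψ).mp hψ
  exact isIrrCharacter_conjOn hN g hθ

theorem charDegree_of_mem_orbit {θ ψ : N → ℂ} (hψ : ψ ∈ orbitFinset hN θ) :
    charDegree ψ = charDegree θ := by
  obtain ⟨g, rfl⟩ := (mem_orbitFinset hN θ ψ).mp hψ
  simp only [charDegree]
  rw [conjOn_apply_one]

omit [Fintype G] [DecidableEq (N → ℂ)] in
theorem dvd_card_of_free {r : ℕ} (hr : r.Prime) (δ : N →* ℂˣ) (hδ : δ ^ r = 1)
    (S : Finset (N → ℂ)) (h1 : ∀ x ∈ S, lc δ * x ∈ S) (h2 : ∀ x ∈ S, lc δ * x ≠ x) :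
    r ∣ S.card := by
  classical
  haveI : Fact r.Prime := ⟨hr⟩
  let f : Function.End S := fun x => ⟨lc δ * x.1, h1 x.1 x.2⟩
  have hit : ∀ (k : ℕ) (x : S), ((f ^ k) x).1 = lc (δ ^ k) * x.1 := by
    intro k
    induction k with
    | zero =>
      intro x
      have h0 : ((f ^ 0) x) = x := rfl
      rw [h0]
      funext n
      simp only [Pi.mul_apply]
      rw [lc_pow, pow_zero, one_mul]
    | succ k ih =>
      intro x
      rw [pow_succ', Function.End.mul_def]
      change lc δ * ((f ^ k) x).1 = _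
      rw [ih]
      funext n
      simp only [Pi.mul_apply]
      rw [lc_pow, lc_pow, pow_succ']
      ring
  have hf : f ^ r ^ 1 = 1 := by
    rw [pow_one]
    funext x
    apply Subtype.ext
    rw [hit, hδ]
    change lc 1 * x.1 = x.1
    funext n
    simp
  have h3 := Equiv.Perm.card_fixedPoints_modEq hf
  have h4 : Fintype.card (Function.fixedPoints f) = 0 := by
    rw [Fintype.card_eq_zero_iff]
    refine ⟨fun x => ?_⟩
    have h5 : f x.1 = x.1 := x.2
    exact h2 x.1.1 x.1.2 (congrArg Subtype.val h5)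
  rw [h4, Fintype.card_coe] at h3
  exact (Nat.modEq_zero_iff_dvd).mp h3

/-- The key translation lemma: if `y·(orbit x)` is inside the orbit of `y x` and fills it, then
translation by `y^g y⁻¹` preserves the orbit of `x`. -/
theorem translate_preserves {x : N → ℂ} (y : N →* ℂˣ)
    (h1 : ∀ ψ ∈ orbitFinset hN x, lc y * ψ ∈ orbitFinset hN (lc y * x))
    (h2 : (orbitFinset hN (lc y * x)).card ≤ (orbitFinset hN x).card) (g : G) :
    ∀ ψ ∈ orbitFinset hN x, lc (conjHom hN g y * y⁻¹) * ψ ∈ orbitFinset hN x := by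
  intro ψ hψ
  have himg : (orbitFinset hN x).image (fun ψ => lc y * ψ) = orbitFinset hN (lc y * x) := by
    apply Finset.eq_of_subset_of_card_le
    · intro φ hφ
      obtain ⟨ψ', hψ', rfl⟩ := Finset.mem_image.mp hφ
      exact h1 ψ' hψ'
    · rw [Finset.card_image_of_injective _ (fun a b hab => mul_left_inj_of_lc y hab)]
      exact h2
  have h3 : lc y * conjOn hN g⁻¹ ψ ∈ orbitFinset hN (lc y * x) := h1 _ (conj_mem_orbit hN hψ g⁻¹)
  have h4 := conj_mem_orbit hN h3 g
  rw [conjOn_mul_fun, conjOn_conjOn_inv, conjOn_lc, ← himg] at h4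
  obtain ⟨ψ', hψ', h5⟩ := Finset.mem_image.mp h4
  have h6 : ψ' = lc (conjHom hN g y * y⁻¹) * ψ := by
    apply mul_left_inj_of_lc y
    rw [h5, ← mul_assoc, ← lc_mul]
    congr 2
    ext n
    simp only [MonoidHom.mul_apply, MonoidHom.inv_apply]
    rw [mul_comm (conjHom hN g y n), mul_inv_cancel_left]
  rw [← h6]
  exact hψ'

end Orbits


/-! ### The determinant of products with invariant linear characters -/

section Det

variable {G : Type u} [Group G] [Fintype G] {N : Subgroup G} (hN : N.Normal) [Fintype N]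
  [DecidableEq (N → ℂ)]

theorem inv_of_card_orbit_one {θ : N → ℂ} (h : (orbitFinset hN θ).card = 1) (g : G) :
    conjOn hN g θ = θ := by
  obtain ⟨x, hx⟩ := Finset.card_eq_one.mp h
  have h1 := mem_orbit_self hN θ
  have h2 := conj_mem_orbit hN h1 g
  rw [hx, Finset.mem_singleton] at h1 h2
  rw [h2, h1]

theorem card_orbit_one_of_inv {θ : N → ℂ} (h : ∀ g, conjOn hN g θ = θ) :
    (orbitFinset hN θ).card = 1 := by
  rw [Finset.card_eq_one]
  refine ⟨θ, ?_⟩
  ext φ
  rw [mem_orbitFinset, Finset.mem_singleton]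
  constructor
  · rintro ⟨g, rfl⟩
    exact h g
  · rintro rfl
    exact ⟨1, conjOn_one hN _⟩

theorem exists_conjHom_ne {β : N →* ℂˣ} (h : 1 < (orbitFinset hN (lc β)).card) :
    ∃ g : G, conjHom hN g β ≠ β := by
  by_contra hcon
  push Not at hcon
  have h1 : (orbitFinset hN (lc β)).card = 1 := by
    apply card_orbit_one_of_inv
    intro g
    rw [conjOn_lc, hcon]
  omega

omit [Fintype G] [Fintype N] [DecidableEq (N → ℂ)] in
theorem charDegree_lc_mul [Fintype N] (α : N →* ℂˣ) (θ : N → ℂ) :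
    charDegree (lc α * θ) = charDegree θ := by
  have h1 : (lc α * θ) 1 = θ 1 := by
    rw [Pi.mul_apply, lc_apply_one, one_mul]
  simp only [charDegree, h1]

theorem orbit_mul_invariant (α : N →* ℂˣ) (hα : ∀ g, conjOn hN g (lc α) = lc α) (θ : N → ℂ) :
    orbitFinset hN (lc α * θ) = (orbitFinset hN θ).image (fun ψ => lc α * ψ) := by
  ext φ
  simp only [mem_orbitFinset, Finset.mem_image]
  constructor
  · rintro ⟨g, rfl⟩
    refine ⟨conjOn hN g θ, ⟨g, rfl⟩, ?_⟩
    rw [conjOn_mul_fun, hα]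
  · rintro ⟨_, ⟨g, rfl⟩, rfl⟩
    refine ⟨g, ?_⟩
    rw [conjOn_mul_fun, hα]

theorem card_orbit_mul_invariant (α : N →* ℂˣ) (hα : ∀ g, conjOn hN g (lc α) = lc α) (θ : N → ℂ) :
    (orbitFinset hN (lc α * θ)).card = (orbitFinset hN θ).card := by
  rw [orbit_mul_invariant hN α hα,
    Finset.card_image_of_injective _ (fun a b hab => mul_left_inj_of_lc α hab)]

/-- Lemma D: multiplication by an invariant linear character in the determinant relation. -/
theorem det_invariant (hNG : N ≤ commutator G) (α : N →* ℂˣ) (hα : ∀ g, conjOn hN g (lc α) = lc α)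
    {θ : N → ℂ} (hθ : IsIrrCharacter N θ) {χ : G → ℂ} (hχ : IsIrrCharacter G χ)
    (h : Over χ (lc α * θ)) {e : ℕ} (he : classInner (fun n : N => χ n) (lc α * θ) = e) (n : N) :
    (lc α n) ^ charDegree χ * (∏ ψ ∈ orbitFinset hN θ, detChar ψ n) ^ e = 1 := by
  have h1 := det_prod_pow_eq_one hN hNG hχ (isIrr_lc_mul α hθ) h he n
  rw [orbit_mul_invariant hN α hα,
    Finset.prod_image (fun a _ b _ hab => mul_left_inj_of_lc α hab)] at h1
  have h2 : ∀ ψ ∈ orbitFinset hN θ, detChar (lc α * ψ) n =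
      (lc α n) ^ charDegree θ * detChar ψ n := by
    intro ψ hψ
    have hψc := isCharacter_of_isIrrCharacter (isIrr_of_mem_orbit hN hθ hψ)
    have h3 : ψ 1 = (charDegree θ : ℕ) := by
      rw [← charDegree_of_mem_orbit hN hψ]
      exact (charDegree_natCast hψc).symm
    exact detChar_mul_hom α hψc h3 n
  rw [Finset.prod_congr rfl h2, Finset.prod_mul_distrib, Finset.prod_const] at h1
  have h4 := deg_eq hN hχ (isIrr_lc_mul α hθ) h he
  rw [card_orbit_mul_invariant hN α hα, charDegree_lc_mul] at h4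
  rw [h4]
  rw [← h1, mul_pow]
  congr 1
  rw [← pow_mul, ← pow_mul]
  congr 1
  ring

/-- An invariant linear character: its order divides the degree above it. -/
theorem pow_deg_of_invariant (hNG : N ≤ commutator G) (α : N →* ℂˣ)
    (hα : ∀ g, conjOn hN g (lc α) = lc α) {χ : G → ℂ} (hχ : IsIrrCharacter G χ)
    (h : Over χ (lc α)) : α ^ charDegree χ = 1 := by
  have hirr := isIrrCharacter_of_hom α
  obtain ⟨e, he⟩ := exists_mult hχ hirr
  have h1 := deg_eq hN hχ hirr h he
  have h2 : (orbitFinset hN (lc α)) = {lc α} := by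
    ext φ
    simp only [mem_orbitFinset, Finset.mem_singleton]
    constructor
    · rintro ⟨g, rfl⟩
      exact hα g
    · rintro rfl
      exact ⟨1, conjOn_one hN _⟩
  have h3 : charDegree (lc α) = 1 := by simp [charDegree, lc]
  rw [h2, Finset.card_singleton, h3] at h1
  ext n
  have h4 := det_prod_pow_eq_one hN hNG hχ hirr h he n
  rw [h2, Finset.prod_singleton, detChar_lc] at h4
  rw [h1]
  simpa using h4

/-- The power of the orbit product for linear characters with `β ^ r = 1`. -/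
theorem prod_orbit_pow_eq_one (β : N →* ℂˣ) {r : ℕ} (hβ : β ^ r = 1) (n : N) :
    (∏ ψ ∈ orbitFinset hN (lc β), detChar ψ n) ^ r = 1 := by
  rw [← Finset.prod_pow]
  apply Finset.prod_eq_one
  intro ψ hψ
  obtain ⟨g, rfl⟩ := (mem_orbitFinset hN _ ψ).mp hψ
  rw [conjOn_lc, detChar_lc, ← lc_pow, conjHom_pow_eq_one hN hβ]
  simp

end Det

theorem one_lt_gcd {A B x : ℕ} (hx : 1 < x) (hA : x ∣ A) (hB : x ∣ B) (hApos : 0 < A) :
    1 < Nat.gcd A B :=
  lt_of_lt_of_le hx (Nat.le_of_dvd (Nat.gcd_pos_of_pos_left _ hApos) (Nat.dvd_gcd hA hB))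


/-! ### The main lemma -/

section Main

variable {G : Type u} [Group G] [Fintype G] {N : Subgroup G} (hN : N.Normal) [Fintype N]
  [DecidableEq (N → ℂ)]

theorem orbit_card_pos (θ : N → ℂ) : 0 < (orbitFinset hN θ).card :=
  Finset.card_pos.mpr ⟨θ, mem_orbit_self hN θ⟩

omit [Fintype G] [Fintype N] [DecidableEq (N → ℂ)] in
theorem pow_mul_inv_eq_one {γ β : N →* ℂˣ} {r : ℕ} (h₁ : γ ^ r = 1) (h₂ : β ^ r = 1) :
    (γ * β⁻¹) ^ r = 1 := by
  ext n
  have h3 := DFunLike.congr_fun h₁ n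
  have h4 := DFunLike.congr_fun h₂ n
  simp only [MonoidHom.pow_apply, MonoidHom.one_apply] at h3 h4
  simp only [MonoidHom.pow_apply, MonoidHom.mul_apply, MonoidHom.inv_apply, MonoidHom.one_apply]
  rw [mul_pow, inv_pow, h3, h4]
  simp

theorem not_coprime_of_translate {r : ℕ} (hr : r.Prime) (β : N →* ℂˣ) (hβr : β ^ r = 1)
    {θ : N → ℂ} (hθ : IsIrrCharacter N θ) (hrθ : ¬ r ∣ charDegree θ)
    (hra : ¬ r ∣ (orbitFinset hN θ).card) (hb : 1 < (orbitFinset hN (lc β)).card)
    (M3 : ∀ ψ ∈ orbitFinset hN θ, lc β * ψ ∈ orbitFinset hN (lc β * θ))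
    (hu : (orbitFinset hN (lc β * θ)).card ∣
      (orbitFinset hN θ).card * (orbitFinset hN (lc β)).card) :
    ¬ Nat.Coprime (orbitFinset hN (lc β * θ)).card (orbitFinset hN (lc β)).card := by
  intro hc
  have h1 := hc.dvd_of_dvd_mul_right hu
  have h2 := Nat.le_of_dvd (orbit_card_pos hN θ) h1
  obtain ⟨g, hg⟩ := exists_conjHom_ne hN hb
  have hδ1 : conjHom hN g β * β⁻¹ ≠ 1 := fun h => hg (mul_inv_eq_one.mp h)
  have hδr : (conjHom hN g β * β⁻¹) ^ r = 1 :=
    pow_mul_inv_eq_one (conjHom_pow_eq_one hN hβr g) hβr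
  refine hra (dvd_card_of_free hr _ hδr _ (translate_preserves hN β M3 h2 g) ?_)
  intro ψ hψ heq
  have h3 := dvd_deg_of_lc_mul_eq hr _ hδ1 hδr
    (isCharacter_of_isIrrCharacter (isIrr_of_mem_orbit hN hθ hψ)) heq
  rw [charDegree_of_mem_orbit hN hψ] at h3
  exact hrθ h3

theorem not_coprime_linear {r : ℕ} (hr : r.Prime) (β : N →* ℂˣ) (hβr : β ^ r = 1)
    (hβI : ¬ r ∣ (orbitFinset hN (lc β)).card) (α : N →* ℂˣ)
    (ha : 1 < (orbitFinset hN (lc α)).card)
    (M3 : ∀ φ ∈ orbitFinset hN (lc β), lc α * φ ∈ orbitFinset hN (lc α * lc β))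
    (hu : (orbitFinset hN (lc α * lc β)).card ∣
      (orbitFinset hN (lc β)).card * (orbitFinset hN (lc α)).card) :
    ¬ Nat.Coprime (orbitFinset hN (lc α * lc β)).card (orbitFinset hN (lc α)).card := by
  intro hc
  have h1 := hc.dvd_of_dvd_mul_right hu
  have h2 := Nat.le_of_dvd (orbit_card_pos hN (lc β)) h1
  obtain ⟨g, hg⟩ := exists_conjHom_ne hN ha
  have hδ1 : conjHom hN g α * α⁻¹ ≠ 1 := fun h => hg (mul_inv_eq_one.mp h)
  have hpres := translate_preserves hN α M3 h2 g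
  have hδr : (conjHom hN g α * α⁻¹) ^ r = 1 := by
    have h3 := hpres (lc β) (mem_orbit_self hN _)
    obtain ⟨h, h4⟩ := (mem_orbitFinset hN _ _).mp h3
    rw [conjOn_lc, ← lc_mul] at h4
    have h5 := lc_inj h4
    have h6 : conjHom hN g α * α⁻¹ = conjHom hN h β * β⁻¹ := by
      rw [h5]
      ext n
      simp
    rw [h6]
    exact pow_mul_inv_eq_one (conjHom_pow_eq_one hN hβr h) hβr
  refine hβI (dvd_card_of_free hr _ hδr _ hpres ?_)
  intro ψ hψ heq
  obtain ⟨h, rfl⟩ := (mem_orbitFinset hN _ _).mp hψ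
  rw [conjOn_lc, ← lc_mul] at heq
  have h7 := lc_inj heq
  apply hδ1
  ext n
  have h8 := DFunLike.congr_fun h7 n
  rw [MonoidHom.mul_apply] at h8
  have h9 := mul_eq_right.mp h8
  rw [h9]
  rfl

theorem order_dvd_of_invariant (hNG : N ≤ commutator G) {r : ℕ} (hr : r.Prime) (β : N →* ℂˣ)
    (hβr : β ^ r = 1) (α : N →* ℂˣ) (hα : ∀ g, conjOn hN g (lc α) = lc α) {χ : G → ℂ}
    (hχ : IsIrrCharacter G χ) (hov : Over χ (lc α)) (hrχ : ¬ r ∣ charDegree χ) {χ' : G → ℂ}
    (hχ' : IsIrrCharacter G χ') (hov' : Over χ' (lc α * lc β)) :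
    orderOf α ∣ charDegree χ' ∧ orderOf α ∣ charDegree χ := by
  have h0 : α ^ charDegree χ = 1 := pow_deg_of_invariant hN hNG α hα hχ hov
  have h1 : orderOf α ∣ charDegree χ := orderOf_dvd_of_pow_eq_one h0
  refine ⟨?_, h1⟩
  obtain ⟨e, he⟩ := exists_mult hχ' (isIrr_lc_mul α (isIrrCharacter_of_hom β))
  have h2 : α ^ (charDegree χ' * r) = 1 := by
    ext n
    have h3 := det_invariant hN hNG α hα (isIrrCharacter_of_hom β) hχ' hov' he n
    have h4 := prod_orbit_pow_eq_one hN β hβr n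
    have h5 := congrArg (fun z : ℂ => z ^ r) h3
    simp only [mul_pow, one_pow] at h5
    rw [← pow_mul, ← pow_mul, mul_comm e r, pow_mul _ r e, h4, one_pow, mul_one] at h5
    simpa using h5
  have h6 : orderOf α ∣ charDegree χ' * r := orderOf_dvd_of_pow_eq_one h2
  have h7 : Nat.Coprime (orderOf α) r := by
    rw [Nat.coprime_comm, hr.coprime_iff_not_dvd]
    exact fun h => hrχ (h.trans h1)
  exact h7.dvd_of_dvd_mul_right h6

theorem dvd_of_beta_invariant (hNG : N ≤ commutator G) {r : ℕ} (hr : r.Prime) (β : N →* ℂˣ)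
    (hβ1 : β ≠ 1) (hβr : β ^ r = 1) (hβinv : ∀ g, conjOn hN g (lc β) = lc β)
    {θ : N → ℂ} (hθ : IsIrrCharacter N θ) {χ : G → ℂ} (hχ : IsIrrCharacter G χ) (hov : Over χ θ)
    (hrχ : ¬ r ∣ charDegree χ) {χ' : G → ℂ} (hχ' : IsIrrCharacter G χ')
    (hov' : Over χ' (lc β * θ)) : r ∣ charDegree χ' := by
  obtain ⟨e, he⟩ := exists_mult hχ hθ
  obtain ⟨e', he'⟩ := exists_mult hχ' (isIrr_lc_mul β hθ)
  have hord : orderOf β = r := by
    haveI : Fact r.Prime := ⟨hr⟩
    exact orderOf_eq_prime hβr hβ1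
  have h2 : β ^ (charDegree χ' * e) = 1 := by
    ext n
    have h3 := det_invariant hN hNG β hβinv hθ hχ' hov' he' n
    have h4 := det_prod_pow_eq_one hN hNG hχ hθ hov he n
    have h5 := congrArg (fun z : ℂ => z ^ e) h3
    simp only [mul_pow, one_pow] at h5
    rw [← pow_mul, ← pow_mul, mul_comm e' e, pow_mul _ e e', h4, one_pow, mul_one] at h5
    simpa using h5
  have h6 : orderOf β ∣ charDegree χ' * e := orderOf_dvd_of_pow_eq_one h2
  rw [hord] at h6
  rcases (Nat.Prime.dvd_mul hr).mp h6 with h7 | h7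
  · exact h7
  · exact absurd (h7.trans (mult_dvd hN hχ hθ hov he)) hrχ

/-- **The main lemma.** -/
theorem main_lemma (hNG : N ≤ commutator G) {r : ℕ} (hr : r.Prime) (β : N →* ℂˣ) (hβ1 : β ≠ 1)
    (hβr : β ^ r = 1) (hβI : ¬ r ∣ (orbitFinset hN (lc β)).card)
    {θ : N → ℂ} (hθ : IsIrrCharacter N θ) (hθ1 : θ ≠ triv N) {χ : G → ℂ} (hχ : IsIrrCharacter G χ)
    (hov : Over χ θ) (hrχ : ¬ r ∣ charDegree χ) :
    ∃ χ' : G → ℂ, IsIrrCharacter G χ' ∧ (∃ x ∈ N, χ' x ≠ χ' 1) ∧
      1 < Nat.gcd (charDegree χ') (charDegree χ) ∧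
      ∀ χ'' : G → ℂ, IsIrrCharacter G χ'' → Over χ'' (lc β) →
        1 < Nat.gcd (charDegree χ') (charDegree χ'') := by
  classical
  have hβirr := isIrrCharacter_of_hom β
  have hordβ : orderOf β = r := by
    haveI : Fact r.Prime := ⟨hr⟩
    exact orderOf_eq_prime hβr hβ1
  have ha'χ := card_orbit_dvd hN hχ hθ hov
  have hχpos := charDegree_pos hχ
  have hraχ : ¬ r ∣ (orbitFinset hN θ).card := fun h => hrχ (h.trans ha'χ)
  have hrθ : ¬ r ∣ charDegree θ := fun h => hrχ (h.trans (deg_dvd hN hχ hθ hov))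
  by_cases hcop : Nat.Coprime (orbitFinset hN θ).card (orbitFinset hN (lc β)).card
  swap
  · have hg : 1 < Nat.gcd (orbitFinset hN θ).card (orbitFinset hN (lc β)).card := by
      have := Nat.gcd_pos_of_pos_left (orbitFinset hN (lc β)).card (orbit_card_pos hN θ)
      unfold Nat.Coprime at hcop
      omega
    refine ⟨χ, hχ, moved_of_over hχ hθ hθ1 hov, ?_, ?_⟩
    · exact one_lt_gcd hg ((Nat.gcd_dvd_left _ _).trans ha'χ) ((Nat.gcd_dvd_left _ _).trans ha'χ) hχpos
    · intro χ'' hχ'' hov''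
      exact one_lt_gcd hg ((Nat.gcd_dvd_left _ _).trans ha'χ)
        ((Nat.gcd_dvd_right _ _).trans (card_orbit_dvd hN hχ'' hβirr hov'')) hχpos
  -- the coprime case
  have hT : Nat.Coprime (inertia hN θ).index (inertia hN (lc β)).index := by
    rw [← card_orbit_eq_index, ← card_orbit_eq_index]
    exact hcop
  have hνirr := isIrr_lc_mul β hθ
  have M3 : ∀ ψ ∈ orbitFinset hN θ, lc β * ψ ∈ orbitFinset hN (lc β * θ) := by
    intro ψ hψ
    obtain ⟨h, rfl⟩ := (mem_orbitFinset hN θ ψ).mp hψ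
    obtain ⟨t₁, ht₁, t₂, ht₂, rfl⟩ := exists_mul_of_coprime _ _ hT h
    refine (mem_orbitFinset hN _ _).mpr ⟨t₂, ?_⟩
    rw [conjOn_mul_fun, (mem_inertia hN _ _).mp ht₂, conjOn_mul, (mem_inertia hN _ _).mp ht₁]
  have M3' : ∀ φ ∈ orbitFinset hN (lc β), φ * θ ∈ orbitFinset hN (lc β * θ) := by
    intro φ hφ
    obtain ⟨h, rfl⟩ := (mem_orbitFinset hN _ φ).mp hφ
    obtain ⟨t₂, ht₂, t₁, ht₁, rfl⟩ := exists_mul_of_coprime _ _ hT.symm h
    refine (mem_orbitFinset hN _ _).mpr ⟨t₁, ?_⟩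
    rw [conjOn_mul_fun, (mem_inertia hN _ _).mp ht₁, conjOn_mul hN t₂ t₁ (lc β),
      (mem_inertia hN _ _).mp ht₂]
  have hu : (orbitFinset hN (lc β * θ)).card ∣
      (orbitFinset hN θ).card * (orbitFinset hN (lc β)).card := by
    have hle : inertia hN θ ⊓ inertia hN (lc β) ≤ inertia hN (lc β * θ) := by
      rintro g ⟨h1, h2⟩
      have h1' : conjOn hN g θ = θ := h1
      have h2' : conjOn hN g (lc β) = lc β := h2
      rw [mem_inertia, conjOn_mul_fun, h1', h2']
    have h3 := Subgroup.index_dvd_of_le hle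
    rw [index_inf_of_coprime _ _ hT, ← card_orbit_eq_index, ← card_orbit_eq_index,
      ← card_orbit_eq_index] at h3
    exact h3
  have hν1 : lc β * θ ≠ triv N := by
    intro hν
    have h1 : (orbitFinset hN (lc β * θ)).card = 1 := by
      apply card_orbit_one_of_inv
      intro g
      rw [hν]
      rfl
    have h2 : (orbitFinset hN θ).card = 1 := by
      have h3 : (orbitFinset hN θ).card ≤ (orbitFinset hN (lc β * θ)).card := by
        rw [← Finset.card_image_of_injective (orbitFinset hN θ)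
          (f := fun ψ => lc β * ψ) (fun a b hab => mul_left_inj_of_lc β hab)]
        exact Finset.card_le_card (fun φ hφ => by
          obtain ⟨ψ', hψ', rfl⟩ := Finset.mem_image.mp hφ
          exact M3 ψ' hψ')
      have h4 := orbit_card_pos hN θ
      omega
    have h5 : θ = lc β⁻¹ := by
      funext n
      have h6 := congrFun hν n
      simp only [Pi.mul_apply] at h6
      have h7 := lc_ne_zero β n
      simp only [lc, MonoidHom.inv_apply, Units.val_inv_eq_inv_val]
      field_simp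
      rw [mul_comm]
      exact h6
    have h8 := pow_deg_of_invariant hN hNG β⁻¹ (fun g => by
      rw [← h5]
      exact inv_of_card_orbit_one hN h2 g) hχ (h5 ▸ hov)
    have h10 : β ^ charDegree χ = 1 := by
      ext n
      have h11 := DFunLike.congr_fun h8 n
      simp only [MonoidHom.pow_apply, MonoidHom.inv_apply, MonoidHom.one_apply, inv_pow,
        inv_eq_one] at h11
      simp [h11]
    have h9 : orderOf β ∣ charDegree χ := orderOf_dvd_of_pow_eq_one h10
    rw [hordβ] at h9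
    exact hrχ h9
  obtain ⟨χ', hχ', hov'⟩ := exists_over (G := G) hνirr
  have hud := card_orbit_dvd hN hχ' hνirr hov'
  have hθd : charDegree θ ∣ charDegree χ' := by
    have := deg_dvd hN hχ' hνirr hov'
    rwa [charDegree_lc_mul] at this
  have hdpos := charDegree_pos hχ'
  have hinvOfCard : ∀ (γ : N →* ℂˣ), (orbitFinset hN (lc γ)).card = 1 → ∀ g, conjOn hN g (lc γ) = lc γ :=
    fun γ h g => inv_of_card_orbit_one hN h g
  refine ⟨χ', hχ', moved_of_over hχ' hνirr hν1 hov', ?_, ?_⟩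
  · by_cases hθ2 : 1 < charDegree θ
    · exact one_lt_gcd hθ2 hθd (deg_dvd hN hχ hθ hov) hdpos
    have hθdeg : charDegree θ = 1 := by
      have := charDegree_pos hθ
      omega
    have hθ1' : θ 1 = 1 := by
      rw [← charDegree_natCast (isCharacter_of_isIrrCharacter hθ), hθdeg]
      simp
    obtain ⟨α, hα⟩ := exists_hom_of_deg_one (isCharacter_of_isIrrCharacter hθ) hθ1'
    have hα' : θ = lc α := hα
    subst hα'
    have hcomm : lc β * lc α = lc α * lc β := mul_comm _ _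
    have hα1 : α ≠ 1 := by
      rintro rfl
      apply hθ1
      funext n
      simp
    have hov'' : Over χ' (lc α * lc β) := by
      rw [← hcomm]
      exact hov'
    have hfinal : ∀ α' : N →* ℂˣ, α' = α → (∀ g, conjOn hN g (lc α') = lc α') →
        1 < Nat.gcd (charDegree χ') (charDegree χ) := by
      rintro α' rfl hinv
      obtain ⟨h1, h2⟩ := order_dvd_of_invariant hN hNG hr β hβr α' hinv hχ hov hrχ hχ' hov''
      have h3 : orderOf α' ≠ 1 := fun h => hα1 (orderOf_eq_one_iff.mp h)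
      have h4 : 0 < orderOf α' := Nat.pos_of_dvd_of_pos h2 hχpos
      exact one_lt_gcd (by omega) h1 h2 hdpos
    by_cases hb1 : (orbitFinset hN (lc β)).card = 1
    · by_cases ha1 : (orbitFinset hN (lc α)).card = 1
      · exact hfinal α rfl (hinvOfCard α ha1)
      · have ha2 : 1 < (orbitFinset hN (lc α)).card := by
          have := orbit_card_pos hN (lc α)
          omega
        have h1 := card_orbit_mul_invariant hN β (hinvOfCard β hb1) (lc α)
        rw [h1] at hud
        exact one_lt_gcd ha2 hud ha'χ hdpos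
    · by_cases hcua : Nat.Coprime (orbitFinset hN (lc β * lc α)).card (orbitFinset hN (lc α)).card
      · by_cases ha1 : (orbitFinset hN (lc α)).card = 1
        · exact hfinal α rfl (hinvOfCard α ha1)
        · exfalso
          have ha2 : 1 < (orbitFinset hN (lc α)).card := by
            have := orbit_card_pos hN (lc α)
            omega
          refine not_coprime_linear hN hr β hβr hβI α ha2 ?_ ?_ (by rw [← hcomm]; exact hcua)
          · intro φ hφ
            have h5 := M3' φ hφ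
            rw [hcomm, mul_comm φ] at h5
            exact h5
          · have h5 := hu
            rw [hcomm, Nat.mul_comm] at h5
            exact h5
      · have hg : 1 < Nat.gcd (orbitFinset hN (lc β * lc α)).card (orbitFinset hN (lc α)).card := by
          have := Nat.gcd_pos_of_pos_left (orbitFinset hN (lc α)).card (orbit_card_pos hN (lc β * lc α))
          unfold Nat.Coprime at hcua
          omega
        exact one_lt_gcd hg ((Nat.gcd_dvd_left _ _).trans hud) ((Nat.gcd_dvd_right _ _).trans ha'χ) hdpos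
  · intro χ'' hχ'' hov''
    by_cases hb1 : (orbitFinset hN (lc β)).card = 1
    · have hinv := hinvOfCard β hb1
      have h1 := dvd_of_beta_invariant hN hNG hr β hβ1 hβr hinv hθ hχ hov hrχ hχ' hov'
      have h2 : β ^ charDegree χ'' = 1 := pow_deg_of_invariant hN hNG β hinv hχ'' hov''
      have h3 : orderOf β ∣ charDegree χ'' := orderOf_dvd_of_pow_eq_one h2
      rw [hordβ] at h3
      exact one_lt_gcd hr.one_lt h1 h3 hdpos
    · have hb2 : 1 < (orbitFinset hN (lc β)).card := by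
        have := orbit_card_pos hN (lc β)
        omega
      have hnc := not_coprime_of_translate hN hr β hβr hθ hrθ hraχ hb2 M3 hu
      have hg : 1 < Nat.gcd (orbitFinset hN (lc β * θ)).card (orbitFinset hN (lc β)).card := by
        have := Nat.gcd_pos_of_pos_left (orbitFinset hN (lc β)).card (orbit_card_pos hN (lc β * θ))
        unfold Nat.Coprime at hnc
        omega
      exact one_lt_gcd hg ((Nat.gcd_dvd_left _ _).trans hud)
        ((Nat.gcd_dvd_right _ _).trans (card_orbit_dvd hN hχ'' hβirr hov'')) hdpos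

end Main


/-! ### The existence of `β` -/

section Beta

theorem card_hom_eq_index (K : Type u) [Group K] [Finite K] :
    Nat.card (K →* ℂˣ) = (commutator K).index := by
  have h1 : Nat.card (K →* ℂˣ) = Nat.card (Abelianization K →* ℂˣ) :=
    Nat.card_congr Abelianization.lift
  rw [h1]
  haveI : Finite (Abelianization K) := by
    change Finite (K ⧸ commutator K)
    infer_instance
  haveI : NeZero ((Monoid.exponent (Abelianization K) : ℕ) : ℂ) :=
    ⟨by exact_mod_cast (Monoid.exponent_ne_zero_of_finite (G := Abelianization K))⟩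
  rw [CommGroup.card_monoidHom_of_hasEnoughRootsOfUnity (Abelianization K) ℂ]
  rfl

theorem relIndex_commutator {G : Type u} [Group G] (N : Subgroup G) :
    ⁅N, N⁆.relIndex N = (commutator N).index := by
  have h : ⁅N, N⁆.subgroupOf N = commutator N := by
    rw [← Subgroup.map_subtype_commutator]
    rw [Subgroup.subgroupOf, Subgroup.comap_map_eq_self_of_injective Subtype.val_injective]
  rw [Subgroup.relIndex, h]

variable {G : Type u} [Group G] [Fintype G] {N : Subgroup G} (hN : N.Normal) [Fintype N]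
  [DecidableEq (N → ℂ)]

theorem conjHom_mul (a b : G) (β : N →* ℂˣ) :
    conjHom hN (a * b) β = conjHom hN b (conjHom hN a β) :=
  lc_inj (by rw [← conjOn_lc, conjOn_mul, conjOn_lc, conjOn_lc])

theorem conjHom_one (β : N →* ℂˣ) : conjHom hN 1 β = β :=
  lc_inj (by rw [← conjOn_lc, conjOn_one])

theorem exists_beta {r : ℕ} (hr : r.Prime) (hrm : r ∣ ⁅N, N⁆.relIndex N) :
    ∃ β : N →* ℂˣ, β ≠ 1 ∧ β ^ r = 1 ∧ ¬ r ∣ (orbitFinset hN (lc β)).card := by
  classical
  haveI : Fact r.Prime := ⟨hr⟩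
  have hcard : Nat.card (N →* ℂˣ) = ⁅N, N⁆.relIndex N := by
    rw [relIndex_commutator, card_hom_eq_index]
  have hne : Nat.card (N →* ℂˣ) ≠ 0 := by
    rw [card_hom_eq_index]
    exact Subgroup.index_ne_zero_of_finite
  haveI hfin : Finite (N →* ℂˣ) := Nat.finite_of_card_ne_zero hne
  rw [← hcard] at hrm
  obtain ⟨β₀, hβ₀⟩ := exists_prime_orderOf_dvd_card' r hrm
  let X : Subgroup (N →* ℂˣ) := (powMonoidHom r).ker
  have hmemX : ∀ β : N →* ℂˣ, β ∈ X ↔ β ^ r = 1 := fun β => MonoidHom.mem_ker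
  have hrX : r ∣ Nat.card X := by
    rw [← hβ₀]
    refine Subgroup.orderOf_dvd_natCard X ((hmemX β₀).mpr ?_)
    rw [← hβ₀]
    exact pow_orderOf_eq_one β₀
  have hact : ∀ (g : G) (β : X), conjHom hN g β.1 ∈ X := fun g β =>
    (hmemX _).mpr (conjHom_pow_eq_one hN ((hmemX _).mp β.2) g)
  obtain ⟨Q⟩ : Nonempty (Sylow r G) := inferInstance
  letI : MulAction (Q : Subgroup G) X :=
    { smul := fun q β => ⟨conjHom hN (q : G)⁻¹ β.1, hact _ β⟩
      one_smul := fun β => by
        apply Subtype.ext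
        change conjHom hN ((1 : Q.toSubgroup) : G)⁻¹ β.1 = β.1
        simp only [OneMemClass.coe_one, inv_one]
        exact conjHom_one hN β.1
      mul_smul := fun p q β => by
        apply Subtype.ext
        change conjHom hN ((p * q : Q.toSubgroup) : G)⁻¹ β.1 =
          conjHom hN (p : G)⁻¹ (conjHom hN (q : G)⁻¹ β.1)
        simp only [Subgroup.coe_mul, mul_inv_rev]
        exact conjHom_mul hN _ _ β.1 }
  have hfix : (1 : X) ∈ MulAction.fixedPoints (Q : Subgroup G) X := by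
    intro q
    apply Subtype.ext
    change conjHom hN (q : G)⁻¹ (1 : N →* ℂˣ) = 1
    ext n
    simp [conjHom]
  obtain ⟨b, hb, hne'⟩ :=
    Q.isPGroup'.exists_fixed_point_of_prime_dvd_card_of_fixed_point X hrX hfix
  refine ⟨b.1, ?_, (hmemX _).mp b.2, ?_⟩
  · intro h
    apply hne'
    apply Subtype.ext
    exact h.symm
  · have hle : (Q : Subgroup G) ≤ inertia hN (lc b.1) := by
      intro q hq
      rw [mem_inertia]
      have h1 : ((⟨q, hq⟩ : (Q : Subgroup G))⁻¹ • b : X) = b := hb _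
      have h2 : conjHom hN ((⟨q, hq⟩ : (Q : Subgroup G))⁻¹ : (Q : Subgroup G))⁻¹.1 b.1 = b.1 :=
        congrArg Subtype.val h1
      have h3 : conjHom hN q b.1 = b.1 := by
        simpa using h2
      rw [conjOn_lc, h3]
    rw [card_orbit_eq_index]
    intro h
    exact Q.not_dvd_index (h.trans (Subgroup.index_dvd_of_le hle))

end Beta


/-! ### The graph -/

section Graph

variable {G : Type u} [Group G] [Fintype G] {N : Subgroup G} (hN : N.Normal) [Fintype N]
  [DecidableEq (N → ℂ)]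

omit [Fintype G] [Fintype N] [DecidableEq (N → ℂ)] in
theorem reach_of_gcd {a b : ℕ} (ha : a ∈ relCharDegrees N) (hb : b ∈ relCharDegrees N)
    (h : 1 < Nat.gcd a b) :
    (commonDivisorGraph.induce (relCharDegrees N)).Reachable ⟨a, ha⟩ ⟨b, hb⟩ := by
  by_cases hab : a = b
  · subst hab
    exact SimpleGraph.Reachable.refl _
  · apply SimpleGraph.Adj.reachable
    exact ⟨hab, h⟩

omit [Fintype G] [Fintype N] [DecidableEq (N → ℂ)] in
theorem mem_rel {χ : G → ℂ} (hχ : IsIrrCharacter G χ) (hx : ∃ x ∈ N, χ x ≠ χ 1) :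
    charDegree χ ∈ relCharDegrees N := ⟨⟨χ, hχ⟩, hx, rfl⟩

omit [Fintype G] [Fintype N] [DecidableEq (N → ℂ)] in
theorem exists_of_mem {a : ℕ} (ha : a ∈ relCharDegrees N) :
    ∃ χ : G → ℂ, IsIrrCharacter G χ ∧ (∃ x ∈ N, χ x ≠ χ 1) ∧ charDegree χ = a := by
  obtain ⟨χ, hx, rfl⟩ := ha
  exact ⟨χ.1, χ.2, hx, rfl⟩

omit [Fintype N] [DecidableEq (N → ℂ)] in
theorem pos_of_mem [Fintype N] {a : ℕ} (ha : a ∈ relCharDegrees N) : 0 < a := by
  obtain ⟨χ, hχ, -, rfl⟩ := exists_of_mem ha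
  exact charDegree_pos hχ

omit [Fintype G] [DecidableEq (N → ℂ)] in
theorem lc_ne_triv {β : N →* ℂˣ} (hβ1 : β ≠ 1) : lc β ≠ triv N := by
  intro h
  apply hβ1
  apply lc_inj
  rw [h]
  funext n
  simp

omit [Fintype N] [DecidableEq (N → ℂ)] in
theorem exists_vertex_over [Fintype N] {β : N →* ℂˣ} (hβ1 : β ≠ 1) :
    ∃ χ : G → ℂ, IsIrrCharacter G χ ∧ Over χ (lc β) ∧ charDegree χ ∈ relCharDegrees N := by
  obtain ⟨χ, hχ, hov⟩ := exists_over (G := G) (isIrrCharacter_of_hom β)
  exact ⟨χ, hχ, hov, mem_rel hχ (moved_of_over hχ (isIrrCharacter_of_hom β) (lc_ne_triv hβ1) hov)⟩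

theorem reach_over (hNG : N ≤ commutator G) {r : ℕ} (hr : r.Prime) (β : N →* ℂˣ) (hβ1 : β ≠ 1)
    (hβr : β ^ r = 1) (hβI : ¬ r ∣ (orbitFinset hN (lc β)).card) {a : ℕ}
    (ha : a ∈ relCharDegrees N) (hra : ¬ r ∣ a) {χ'' : G → ℂ} (hχ'' : IsIrrCharacter G χ'')
    (hov'' : Over χ'' (lc β)) (hm : charDegree χ'' ∈ relCharDegrees N) :
    (commonDivisorGraph.induce (relCharDegrees N)).Reachable ⟨a, ha⟩ ⟨charDegree χ'', hm⟩ := by
  obtain ⟨χ, hχ, hx, rfl⟩ := exists_of_mem ha
  obtain ⟨θ, hθ, hθ1, hov⟩ := exists_over_of_moved hN hχ hx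
  obtain ⟨χ', hχ', hx', h1, h2⟩ := main_lemma hN hNG hr β hβ1 hβr hβI hθ hθ1 hχ hov hra
  have hm' := mem_rel hχ' hx'
  have h3 := reach_of_gcd hm' ha h1
  have h4 := reach_of_gcd hm' hm (h2 χ'' hχ'' hov'')
  exact h3.symm.trans h4

include hN in
/-- Any two vertices of the same `r`-divisibility type are connected. -/
theorem lemma_A (hNG : N ≤ commutator G) {r : ℕ} (hr : r.Prime) (hrm : r ∣ ⁅N, N⁆.relIndex N)
    {a b : ℕ} (ha : a ∈ relCharDegrees N) (hb : b ∈ relCharDegrees N)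
    (h : (r ∣ a ∧ r ∣ b) ∨ (¬ r ∣ a ∧ ¬ r ∣ b)) :
    (commonDivisorGraph.induce (relCharDegrees N)).Reachable ⟨a, ha⟩ ⟨b, hb⟩ := by
  rcases h with ⟨h1, h2⟩ | ⟨h1, h2⟩
  · exact reach_of_gcd ha hb (one_lt_gcd hr.one_lt h1 h2 (pos_of_mem ha))
  · obtain ⟨β, hβ1, hβr, hβI⟩ := exists_beta hN hr hrm
    obtain ⟨χ, hχ, hov, hm⟩ := exists_vertex_over (G := G) hβ1
    exact (reach_over hN hNG hr β hβ1 hβr hβI ha h1 hχ hov hm).trans
      (reach_over hN hNG hr β hβ1 hβr hβI hb h2 hχ hov hm).symm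

omit [Fintype N] [DecidableEq (N → ℂ)] in
theorem order_eq_of_prime {K : Type*} [Group K] {r : ℕ} (hr : r.Prime) {β : K} (h1 : β ≠ 1)
    (h2 : β ^ r = 1) : orderOf β = r := by
  haveI : Fact r.Prime := ⟨hr⟩
  exact orderOf_eq_prime h2 h1

/-- The inertia group of a product of characters of coprime order. -/
theorem inertia_mul_le {r₁ r₂ : ℕ} (hco : Nat.Coprime r₁ r₂) {β₁ β₂ : N →* ℂˣ} (h₁ : β₁ ^ r₁ = 1)
    (h₂ : β₂ ^ r₂ = 1) : inertia hN (lc (β₁ * β₂)) ≤ inertia hN (lc β₁) := by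
  intro g hg
  rw [mem_inertia, conjOn_lc] at hg ⊢
  have h3 := lc_inj hg
  have hsplit : conjHom hN g (β₁ * β₂) = conjHom hN g β₁ * conjHom hN g β₂ := by
    ext n
    simp [conjHom]
  rw [hsplit] at h3
  set δ : N →* ℂˣ := conjHom hN g β₁ * β₁⁻¹ with hδ
  have hδ1 : δ ^ r₁ = 1 := pow_mul_inv_eq_one (conjHom_pow_eq_one hN h₁ g) h₁
  have hδ2' : δ = β₂ * (conjHom hN g β₂)⁻¹ := by
    ext n
    have h4 := DFunLike.congr_fun h3 n
    simp only [MonoidHom.mul_apply] at h4
    have h5 : (conjHom hN g β₁ n) * (β₁ n)⁻¹ = β₂ n * (conjHom hN g β₂ n)⁻¹ := by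
      calc (conjHom hN g β₁ n) * (β₁ n)⁻¹
          = (conjHom hN g β₁ n) * (conjHom hN g β₂ n) * ((conjHom hN g β₂ n)⁻¹ * (β₁ n)⁻¹) := by
            rw [mul_assoc, mul_inv_cancel_left]
        _ = β₁ n * β₂ n * ((conjHom hN g β₂ n)⁻¹ * (β₁ n)⁻¹) := by rw [h4]
        _ = β₂ n * (conjHom hN g β₂ n)⁻¹ := by
            rw [mul_comm (β₁ n), mul_comm (conjHom hN g β₂ n)⁻¹, mul_assoc, mul_inv_cancel_left]
    simp only [hδ, MonoidHom.mul_apply, MonoidHom.inv_apply]
    rw [h5]
  have hδ2 : δ ^ r₂ = 1 := by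
    rw [hδ2']
    have := pow_mul_inv_eq_one h₂ (conjHom_pow_eq_one hN h₂ g)
    exact this
  have hord : orderOf δ = 1 := by
    have h6 : orderOf δ ∣ r₁ := orderOf_dvd_of_pow_eq_one hδ1
    have h7 : orderOf δ ∣ r₂ := orderOf_dvd_of_pow_eq_one hδ2
    exact Nat.eq_one_of_dvd_coprimes hco h6 h7
  have h8 : δ = 1 := orderOf_eq_one_iff.mp hord
  have h9 : conjHom hN g β₁ = β₁ := mul_inv_eq_one.mp h8
  rw [h9]

include hN in
/-- The second lemma: there cannot be opposite divisibility for two primes. -/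
theorem lemma_B (hNG : N ≤ commutator G) {r₁ r₂ : ℕ} (hr₁ : r₁.Prime) (hr₂ : r₂.Prime)
    (hr₁m : r₁ ∣ ⁅N, N⁆.relIndex N) (hr₂m : r₂ ∣ ⁅N, N⁆.relIndex N) {a b : ℕ}
    (ha : a ∈ relCharDegrees N) (hb : b ∈ relCharDegrees N) (h1a : r₁ ∣ a) (h1b : ¬ r₁ ∣ b)
    (h2b : r₂ ∣ b) (h2a : ¬ r₂ ∣ a) :
    (commonDivisorGraph.induce (relCharDegrees N)).Reachable ⟨a, ha⟩ ⟨b, hb⟩ := by
  classical
  have hne : r₁ ≠ r₂ := by
    rintro rfl
    exact h2a h1a
  have hco : Nat.Coprime r₁ r₂ := (Nat.coprime_primes hr₁ hr₂).mpr hne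
  obtain ⟨β₁, hβ₁1, hβ₁r, hβ₁I⟩ := exists_beta hN hr₁ hr₁m
  obtain ⟨β₂, hβ₂1, hβ₂r, hβ₂I⟩ := exists_beta hN hr₂ hr₂m
  obtain ⟨χ₁, hχ₁, hov₁, hm₁⟩ := exists_vertex_over (G := G) hβ₁1
  obtain ⟨χ₂, hχ₂, hov₂, hm₂⟩ := exists_vertex_over (G := G) hβ₂1
  have hb1 := reach_over hN hNG hr₁ β₁ hβ₁1 hβ₁r hβ₁I hb h1b hχ₁ hov₁ hm₁
  have ha2 := reach_over hN hNG hr₂ β₂ hβ₂1 hβ₂r hβ₂I ha h2a hχ₂ hov₂ hm₂
  by_cases hI₁ : (orbitFinset hN (lc β₁)).card = 1
  · have h3 : β₁ ^ charDegree χ₁ = 1 :=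
      pow_deg_of_invariant hN hNG β₁ (inv_of_card_orbit_one hN hI₁) hχ₁ hov₁
    have h4 : orderOf β₁ ∣ charDegree χ₁ := orderOf_dvd_of_pow_eq_one h3
    rw [order_eq_of_prime hr₁ hβ₁1 hβ₁r] at h4
    exact (reach_of_gcd ha hm₁ (one_lt_gcd hr₁.one_lt h1a h4 (pos_of_mem ha))).trans hb1.symm
  by_cases hI₂ : (orbitFinset hN (lc β₂)).card = 1
  · have h3 : β₂ ^ charDegree χ₂ = 1 :=
      pow_deg_of_invariant hN hNG β₂ (inv_of_card_orbit_one hN hI₂) hχ₂ hov₂
    have h4 : orderOf β₂ ∣ charDegree χ₂ := orderOf_dvd_of_pow_eq_one h3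
    rw [order_eq_of_prime hr₂ hβ₂1 hβ₂r] at h4
    exact ha2.trans (reach_of_gcd hm₂ hb (one_lt_gcd hr₂.one_lt h4 h2b (pos_of_mem hm₂)))
  have hx₁ : 1 < (orbitFinset hN (lc β₁)).card := by
    have := orbit_card_pos hN (lc β₁)
    omega
  have hx₂ : 1 < (orbitFinset hN (lc β₂)).card := by
    have := orbit_card_pos hN (lc β₂)
    omega
  have hν1 : β₁ * β₂ ≠ 1 := by
    intro h
    have h5 : β₁ = β₂⁻¹ := by
      ext n
      have h7 := DFunLike.congr_fun h n
      simp only [MonoidHom.mul_apply, MonoidHom.one_apply] at h7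
      simp [eq_inv_of_mul_eq_one_left h7]
    have h6 : β₁ ^ r₂ = 1 := by
      rw [h5]
      ext n
      have h7 := DFunLike.congr_fun hβ₂r n
      simp only [MonoidHom.pow_apply, MonoidHom.one_apply] at h7
      simp [h7]
    have h8 : orderOf β₁ ∣ r₂ := orderOf_dvd_of_pow_eq_one h6
    rw [order_eq_of_prime hr₁ hβ₁1 hβ₁r] at h8
    exact hne ((Nat.prime_dvd_prime_iff_eq hr₁ hr₂).mp h8)
  obtain ⟨χ', hχ', hov', hm'⟩ := exists_vertex_over (G := G) hν1
  have hd := card_orbit_dvd hN hχ' (isIrrCharacter_of_hom (β₁ * β₂)) hov'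
  have hle1 := inertia_mul_le hN hco hβ₁r hβ₂r
  have hle2 : inertia hN (lc (β₁ * β₂)) ≤ inertia hN (lc β₂) := by
    rw [mul_comm β₁ β₂]
    exact inertia_mul_le hN hco.symm hβ₂r hβ₁r
  have hd1 : (orbitFinset hN (lc β₁)).card ∣ charDegree χ' := by
    rw [card_orbit_eq_index]
    refine dvd_trans (Subgroup.index_dvd_of_le hle1) ?_
    rw [← card_orbit_eq_index]
    exact hd
  have hd2 : (orbitFinset hN (lc β₂)).card ∣ charDegree χ' := by
    rw [card_orbit_eq_index]
    refine dvd_trans (Subgroup.index_dvd_of_le hle2) ?_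
    rw [← card_orbit_eq_index]
    exact hd
  have h11 := card_orbit_dvd hN hχ₁ (isIrrCharacter_of_hom β₁) hov₁
  have h22 := card_orbit_dvd hN hχ₂ (isIrrCharacter_of_hom β₂) hov₂
  have r1 := reach_of_gcd hm' hm₁ (one_lt_gcd hx₁ hd1 h11 (pos_of_mem hm'))
  have r2 := reach_of_gcd hm' hm₂ (one_lt_gcd hx₂ hd2 h22 (pos_of_mem hm'))
  exact ha2.trans (r2.symm.trans (r1.trans hb1.symm))

end Graph

/-- **The theorem of Isaacs and Knutson** on the relative degree graph. -/
theorem main {G : Type u} [Group G] [Finite G] (N : Subgroup G) [hNN : N.Normal] (hN : ⁅N, N⁆ < N)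
    (hNG : N ≤ commutator G) :
    Nat.card (Cfsg.commonDivisorGraph.induce (Cfsg.relCharDegrees N)).ConnectedComponent ≤ 2 ∧
      ∀ (a b : ℕ) (ha : a ∈ Cfsg.relCharDegrees N) (hb : b ∈ Cfsg.relCharDegrees N),
        ¬ (Cfsg.commonDivisorGraph.induce (Cfsg.relCharDegrees N)).Reachable ⟨a, ha⟩ ⟨b, hb⟩ →
        (Nat.Coprime a (⁅N, N⁆.relIndex N) ∧ ∀ r : ℕ, r.Prime → r ∣ ⁅N, N⁆.relIndex N → r ∣ b) ∨
        (Nat.Coprime b (⁅N, N⁆.relIndex N) ∧ ∀ r : ℕ, r.Prime → r ∣ ⁅N, N⁆.relIndex N → r ∣ a) := by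
  classical
  letI : Fintype G := Fintype.ofFinite G
  letI : Fintype N := Fintype.ofFinite N
  have hm1 : ⁅N, N⁆.relIndex N ≠ 1 := by
    intro h
    exact (not_le_of_gt hN) (Subgroup.relIndex_eq_one.mp h)
  have hr := Nat.minFac_prime hm1
  have hrm := Nat.minFac_dvd (⁅N, N⁆.relIndex N)
  set r := (⁅N, N⁆.relIndex N).minFac with hrdef
  refine ⟨?_, ?_⟩
  · by_contra hcon
    push Not at hcon
    have hfin : Finite (Cfsg.commonDivisorGraph.induce (Cfsg.relCharDegrees N)).ConnectedComponent :=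
      Nat.finite_of_card_ne_zero (by omega)
    letI := Fintype.ofFinite (Cfsg.commonDivisorGraph.induce (Cfsg.relCharDegrees N)).ConnectedComponent
    rw [Nat.card_eq_fintype_card, Fintype.two_lt_card_iff] at hcon
    obtain ⟨x, y, z, hxy, hxz, hyz⟩ := hcon
    obtain ⟨⟨a, ha⟩, rfl⟩ := x.exists_rep
    obtain ⟨⟨b, hb⟩, rfl⟩ := y.exists_rep
    obtain ⟨⟨c, hc⟩, rfl⟩ := z.exists_rep
    have hab : ¬ (Cfsg.commonDivisorGraph.induce (Cfsg.relCharDegrees N)).Reachable ⟨a, ha⟩ ⟨b, hb⟩ :=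
      fun h => hxy (SimpleGraph.ConnectedComponent.sound h)
    have hac : ¬ (Cfsg.commonDivisorGraph.induce (Cfsg.relCharDegrees N)).Reachable ⟨a, ha⟩ ⟨c, hc⟩ :=
      fun h => hxz (SimpleGraph.ConnectedComponent.sound h)
    have hbc : ¬ (Cfsg.commonDivisorGraph.induce (Cfsg.relCharDegrees N)).Reachable ⟨b, hb⟩ ⟨c, hc⟩ :=
      fun h => hyz (SimpleGraph.ConnectedComponent.sound h)
    have A1 : ¬ ((r ∣ a ∧ r ∣ b) ∨ (¬ r ∣ a ∧ ¬ r ∣ b)) :=
      fun h => hab (lemma_A hNN hNG hr hrm ha hb h)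
    have A2 : ¬ ((r ∣ a ∧ r ∣ c) ∨ (¬ r ∣ a ∧ ¬ r ∣ c)) :=
      fun h => hac (lemma_A hNN hNG hr hrm ha hc h)
    have A3 : ¬ ((r ∣ b ∧ r ∣ c) ∨ (¬ r ∣ b ∧ ¬ r ∣ c)) :=
      fun h => hbc (lemma_A hNN hNG hr hrm hb hc h)
    by_cases h1 : r ∣ a <;> by_cases h2 : r ∣ b <;> by_cases h3 : r ∣ c <;>
      simp_all
  · intro a b ha hb hab
    have A : ∀ s : ℕ, s.Prime → s ∣ ⁅N, N⁆.relIndex N → (s ∣ a ∧ ¬ s ∣ b) ∨ (¬ s ∣ a ∧ s ∣ b) := by
      intro s hs hsm
      by_contra hcon
      push Not at hcon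
      apply hab
      apply lemma_A hNN hNG hs hsm ha hb
      by_cases h1 : s ∣ a <;> by_cases h2 : s ∣ b <;> simp_all
    have B : ∀ s t : ℕ, s.Prime → t.Prime → s ∣ ⁅N, N⁆.relIndex N → t ∣ ⁅N, N⁆.relIndex N →
        s ∣ a → ¬ s ∣ b → t ∣ b → ¬ t ∣ a → False := by
      intro s t hs ht hsm htm h1 h2 h3 h4
      exact hab (lemma_B hNN hNG hs ht hsm htm ha hb h1 h2 h3 h4)
    have hcop : ∀ (c : ℕ), (∀ s : ℕ, s.Prime → s ∣ ⁅N, N⁆.relIndex N → ¬ s ∣ c) →
        Nat.Coprime c (⁅N, N⁆.relIndex N) := by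
      intro c hc
      apply Nat.coprime_of_dvd
      intro k hk h1 h2
      exact hc k hk h2 h1
    by_cases hall : ∀ s : ℕ, s.Prime → s ∣ ⁅N, N⁆.relIndex N → s ∣ b
    · left
      refine ⟨hcop a ?_, hall⟩
      intro s hs hsm h
      rcases A s hs hsm with h1 | h1
      · exact h1.2 (hall s hs hsm)
      · exact h1.1 h
    · right
      push Not at hall
      obtain ⟨s, hs, hsm, hsb⟩ := hall
      have hsa : s ∣ a := by
        rcases A s hs hsm with h1 | h1
        · exact h1.1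
        · exact absurd h1.2 hsb
      have hall' : ∀ t : ℕ, t.Prime → t ∣ ⁅N, N⁆.relIndex N → t ∣ a := by
        intro t ht htm
        rcases A t ht htm with h1 | h1
        · exact h1.1
        · exact (B s t hs ht hsm htm hsa hsb h1.2 h1.1).elim
      refine ⟨hcop b ?_, hall'⟩
      intro t ht htm h
      rcases A t ht htm with h1 | h1
      · exact h1.2 h
      · exact h1.1 (hall' t ht htm)

end Cfsg.Agent.Lib.Char.RelGraph
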