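import Cfsg.Agent.Lib.Char.GoingDown
import Cfsg.Agent.Lib.Char.Monomial
import Mathlib.GroupTheory.Solvable
import Mathlib.Tactic

/-!
# Relative M-groups (Isaacs 6.22)
-/

set_option autoImplicit false

namespace Cfsg.Agent.Lib.Char.RelM

open Cfsg Module
open Cfsg.Agent.Lib.Char.Basic Cfsg.Agent.Lib.Char.Ortho Cfsg.Agent.Lib.Char.Complete
open Cfsg.Agent.Lib.Char.Induced Cfsg.Agent.Lib.Char.Conj
open Cfsg.Agent.Lib.Char.Clifford Cfsg.Agent.Lib.Char.CliffordCorr
open Cfsg.Agent.Lib.Char.GoingDown Cfsg.Agent.Lib.Char.Monomial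
open scoped ComplexConjugate

universe u

section Chief

variable {G : Type u} [Group G] [Finite G]

theorem card_lt_of_lt {A B : Subgroup G} (h : A < B) : Nat.card A < Nat.card B := by
  have h1 : (A : Set G) ⊂ (B : Set G) := SetLike.coe_ssubset_coe.mpr h
  have h2 := Set.ncard_lt_ncard h1 (Set.toFinite _)
  have h3 : ∀ C : Subgroup G, Nat.card C = (C : Set G).ncard := fun C => Nat.card_coe_set_eq _
  rwa [← h3, ← h3] at h2

/-- There is a normal subgroup maximal below `K` and above `N`. -/
theorem exists_chief_below {N K : Subgroup G} (hN : N.Normal) (hK : K.Normal) (hNK : N < K) :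
    ∃ L : Subgroup G, L.Normal ∧ N ≤ L ∧ L < K ∧
      ∀ M : Subgroup G, M.Normal → L ≤ M → M ≤ K → M = L ∨ M = K := by
  classical
  let S : Set (Subgroup G) := {L | L.Normal ∧ N ≤ L ∧ L < K}
  have hS : S.Nonempty := ⟨N, hN, le_rfl, hNK⟩
  obtain ⟨L, hL, hmax⟩ := S.toFinite.exists_le_maximal hS.some_mem
  refine ⟨L, hmax.prop.1, hmax.prop.2.1, hmax.prop.2.2, ?_⟩
  intro M hM hLM hMK
  by_cases hMK' : M = K
  · exact Or.inr hMK'
  · left
    have hmem : M ∈ S := ⟨hM, hmax.prop.2.1.trans hLM, lt_of_le_of_ne hMK hMK'⟩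
    exact le_antisymm (hmax.le_of_ge hmem hLM) hLM

/-- Chief factors inside a solvable section are abelian. -/
theorem commutator_le_of_chief {N K L : Subgroup G} (hN : N.Normal) (hK : K.Normal) (hL : L.Normal)
    (hsolv : Group.IsSolvable (G ⧸ N)) (hNL : N ≤ L) (hLK : L < K)
    (hchief : ∀ M : Subgroup G, M.Normal → L ≤ M → M ≤ K → M = L ∨ M = K) : ⁅K, K⁆ ≤ L := by
  have hsolvL : Group.IsSolvable (G ⧸ L) :=
    Group.isSolvable_of_surjective (f := QuotientGroup.map N L (MonoidHom.id G) hNL) (by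
      intro q
      obtain ⟨g, rfl⟩ := QuotientGroup.mk_surjective q
      exact ⟨(g : G ⧸ N), rfl⟩)
  have hcn : (⁅K, K⁆ ⊔ L).Normal := by
    have : (⁅K, K⁆ : Subgroup G).Normal := Subgroup.commutator_normal K K
    exact Subgroup.sup_normal _ _
  have hle : ⁅K, K⁆ ⊔ L ≤ K := sup_le (Subgroup.commutator_le_left K K) hLK.le
  rcases hchief _ hcn le_sup_right hle with h | h
  · rw [← h]
    exact le_sup_left
  · exfalso
    set f := QuotientGroup.mk' L
    have hne : K.map f ≠ ⊥ := by
      intro h0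
      rw [Subgroup.map_eq_bot_iff, QuotientGroup.ker_mk'] at h0
      exact absurd h0 (not_le_of_gt hLK)
    have hlt := Group.IsSolvable.commutator_lt_of_ne_bot hne
    have heq : K.map f = ⁅K.map f, K.map f⁆ := by
      conv_lhs => rw [← h]
      rw [Subgroup.map_sup, Subgroup.map_commutator]
      have : L.map f = ⊥ := by
        rw [Subgroup.map_eq_bot_iff, QuotientGroup.ker_mk']
      rw [this, sup_bot_eq]
    exact absurd heq (ne_of_gt hlt)

end Chief

section Main

/-- The hypothesis on chief factors (Isaacs 6.22). -/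
def ChiefHyp {G : Type u} [Group G] (N : Subgroup G) : Prop :=
  ∀ (H K L : Subgroup G), N ≤ L → L < K → K ≤ H → (∀ h ∈ H, ∀ k ∈ K, h * k * h⁻¹ ∈ K) →
    (∀ h ∈ H, ∀ l ∈ L, h * l * h⁻¹ ∈ L) →
    (∀ M : Subgroup G, L ≤ M → M ≤ K → (∀ h ∈ H, ∀ m ∈ M, h * m * h⁻¹ ∈ M) → M = L ∨ M = K) →
    ¬ IsSquare (L.relIndex K)

theorem ChiefHyp.subgroup {G : Type u} [Group G] {N : Subgroup G} (h : ChiefHyp N)
    (T : Subgroup G) (hNT : N ≤ T) : ChiefHyp (N.subgroupOf T) := by
  intro H K L hNL hLK hKH hK hL hM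
  have hrel : (L.map T.subtype).relIndex (K.map T.subtype) = L.relIndex K :=
    Subgroup.relIndex_map_map_of_injective L K T.subtype_injective
  rw [← hrel]
  refine h (H.map T.subtype) (K.map T.subtype) (L.map T.subtype) ?_ ?_ ?_ ?_ ?_ ?_
  · intro n hn
    exact ⟨⟨n, hNT hn⟩, hNL (Subgroup.mem_subgroupOf.mpr hn), rfl⟩
  · exact (Subgroup.map_lt_map_iff_of_injective T.subtype_injective).mpr hLK
  · exact Subgroup.map_mono hKH
  · rintro _ ⟨h', hh', rfl⟩ _ ⟨k', hk', rfl⟩
    exact ⟨_, hK h' hh' k' hk', rfl⟩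
  · rintro _ ⟨h', hh', rfl⟩ _ ⟨l', hl', rfl⟩
    exact ⟨_, hL h' hh' l' hl', rfl⟩
  · intro M hLM hMK hMn
    have hMT : M ≤ T := hMK.trans (Subgroup.map_subtype_le K)
    have h1 : (M.subgroupOf T).map T.subtype = M := by
      rw [Subgroup.subgroupOf_map_subtype]
      exact inf_eq_left.mpr hMT
    have hres := hM (M.subgroupOf T) ?_ ?_ ?_
    · rcases hres with hr | hr
      · left
        rw [← h1, hr]
      · right
        rw [← h1, hr]
    · intro l hl
      rw [Subgroup.mem_subgroupOf]
      exact hLM ⟨l, hl, rfl⟩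
    · intro m hm
      rw [Subgroup.mem_subgroupOf] at hm
      obtain ⟨k, hk, hkm⟩ := hMK hm
      have : k = m := Subtype.ext hkm
      rwa [← this]
    · intro h' hh' m hm
      rw [Subgroup.mem_subgroupOf] at hm ⊢
      exact hMn _ ⟨h', hh', rfl⟩ _ hm

/-- Going down to `N` when all restrictions are homogeneous. -/
theorem isIrr_restrict_of_homogeneous {G : Type u} [Group G] [Fintype G] (N : Subgroup G)
    (hN : N.Normal) (hsolv : Group.IsSolvable (G ⧸ N)) (hchief : ChiefHyp N) {χ : G → ℂ}
    (hχ : IsIrrCharacter G χ)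
    (hhom : ∀ (K : Subgroup G) (hK : K.Normal) [Fintype K], N ≤ K → ∀ ϑ : K → ℂ,
      IsIrrCharacter K ϑ → classInner (fun k : K => χ k) ϑ ≠ 0 → inertia hK ϑ = ⊤) :
    ∀ (n : ℕ) (K : Subgroup G), Nat.card K = n → K.Normal → N ≤ K →
      IsIrrCharacter K (fun k : K => χ k) → IsIrrCharacter N (fun k : N => χ k) := by
  classical
  intro n
  induction n using Nat.strong_induction_on with
  | _ n ih =>
    intro K hn hK hNK hirr
    by_cases hKN : K = N
    · subst hKN
      exact hirr
    have hlt : N < K := lt_of_le_of_ne hNK (Ne.symm hKN)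
    obtain ⟨L, hLn, hNL, hLK, hL⟩ := exists_chief_below hN hK hlt
    have hab := commutator_le_of_chief hN hK hLn hsolv hNL hLK hL
    have hcf := isClassFunction_of_isIrrCharacter hχ
    have hinv : ∀ (g : G) (k : K), (fun k : K => χ k) ⟨g * k * g⁻¹, hK.conj_mem (k : G) k.2 g⟩ =
        (fun k : K => χ k) k := fun g k => hcf k g
    have hcardlt : Nat.card L < n := by
      rw [← hn]
      exact card_lt_of_lt hLK
    letI : Fintype L := Fintype.ofFinite L
    refine ih _ hcardlt L rfl hLn hNL ?_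
    rcases going_down K L hLK hL hab _ hirr hinv with h | ⟨φ, e, hφ, h1, h2⟩ | ⟨F, hF, h1, h2⟩
    · exact h
    · exfalso
      refine hchief ⊤ K L hNL hLK le_top (fun h _ k hk => hK.conj_mem k hk h)
        (fun h _ l hl => hLn.conj_mem l hl h) (fun M h1 h2 h3 => hL M ?_ h1 h2) ?_
      · constructor
        intro m hm g
        exact h3 g trivial m hm
      · exact ⟨e, by rw [← h2, sq]⟩
    · exfalso
      have hrel : 1 < L.relIndex K := by
        have h0 : L.relIndex K ≠ 0 := Subgroup.index_ne_zero_of_finite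
        have h3 : L.relIndex K ≠ 1 := fun h =>
          absurd (Subgroup.relIndex_eq_one.mp h) (not_le_of_gt hLK)
        omega
      have hFc : 1 < F.card := by rw [h1]; exact hrel
      obtain ⟨φ, hφ, φ', hφ', hne⟩ := Finset.one_lt_card.mp hFc
      have h2' : (fun l : L => χ l) = ∑ ψ ∈ F, ψ := h2
      have hval : ∀ ψ ∈ F, classInner (fun l : L => χ l) ψ = 1 := by
        intro ψ hψ
        rw [h2', classInner_sum_left, Finset.sum_eq_single ψ]
        · exact classInner_self_of_isIrr (hF ψ hψ)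
        · intro b hb hb'
          exact classInner_eq_zero_of_isIrr_of_ne (hF b hb) (hF ψ hψ) hb'
        · intro h
          exact absurd hψ h
      have hT := hhom L hLn hNL φ (hF φ hφ) (by rw [hval φ hφ]; exact one_ne_zero)
      have h0 := classInner_restrict_eq_zero_of_not_conj hLn hχ (hF φ hφ) (hF φ' hφ')
        (by rw [hval φ hφ]; exact one_ne_zero) (fun g hg => by
          have hg' : g ∈ inertia hLn φ := by rw [hT]; trivial
          have : conjOn hLn g φ = φ := hg'
          rw [this] at hg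
          exact hne hg)
      rw [hval φ' hφ'] at h0
      exact one_ne_zero h0

/-- **Relative M-groups** (Isaacs 6.22). -/
theorem exists_relative : ∀ (n : ℕ) (G : Type u) [Group G] [Fintype G] (N : Subgroup G)
    (_ : N.Normal), Fintype.card G = n → Group.IsSolvable (G ⧸ N) → ChiefHyp N → ∀ χ : G → ℂ,
    IsIrrCharacter G χ → ∃ (H : Subgroup G) (hNH : N ≤ H) (ψ : H → ℂ), IsIrrCharacter H ψ ∧
      indFun H ψ = χ ∧ IsIrrCharacter N (fun n : N => ψ ⟨(n : G), hNH n.2⟩) := by
  classical
  intro n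
  induction n using Nat.strong_induction_on with
  | _ n ih =>
    intro G _ _ N hN hn hsolv hchief χ hχ
    by_cases hhom : ∀ (K : Subgroup G) (hK : K.Normal) [Fintype K], N ≤ K → ∀ ϑ : K → ℂ,
        IsIrrCharacter K ϑ → classInner (fun k : K => χ k) ϑ ≠ 0 → inertia hK ϑ = ⊤
    · have hirrN : IsIrrCharacter N (fun k : N => χ k) := by
        refine isIrr_restrict_of_homogeneous N hN hsolv hchief hχ hhom _ ⊤ rfl
          (by infer_instance) le_top ?_
        exact isIrrCharacter_comp_mulEquiv (Subgroup.topEquiv (G := G)) hχ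
      refine ⟨⊤, le_top, fun h => χ h, ?_, ?_, hirrN⟩
      · exact isIrrCharacter_comp_mulEquiv (Subgroup.topEquiv (G := G)) hχ
      · exact indFun_top (isClassFunction_of_isIrrCharacter hχ)
    · push Not at hhom
      obtain ⟨K, hK, _, hNK, ϑ, hϑ, hcon, hI⟩ := hhom
      set T := inertia hK ϑ with hTdef
      letI : Fintype T := Fintype.ofFinite T
      have hKT : K ≤ T := le_inertia hK (isClassFunction_of_isIrrCharacter hϑ)
      have hNT : N ≤ T := hNK.trans hKT
      obtain ⟨ψ₁, hψ₁, hind, -⟩ := exists_irr_inertia_of_lies_over hK hKT hϑ hTdef hχ hcon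
      have hlt : Fintype.card T < n := by
        rw [← hn, ← Nat.card_eq_fintype_card, ← Nat.card_eq_fintype_card]
        exact lt_of_le_of_ne (Subgroup.card_le_card_group T)
          (fun h => hI (Subgroup.eq_top_of_card_eq T h))
      have hsolvT : Group.IsSolvable (T ⧸ N.subgroupOf T) := by
        have : (N.subgroupOf T).Normal := hN.subgroupOf T
        let f : T ⧸ N.subgroupOf T →* G ⧸ N :=
          QuotientGroup.map (N.subgroupOf T) N T.subtype (fun x hx => hx)
        have hinj : Function.Injective f := by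
          rw [injective_iff_map_eq_one]
          intro q hq
          obtain ⟨t, rfl⟩ := QuotientGroup.mk_surjective q
          have h1 : ((t : G) : G ⧸ N) = 1 := hq
          rw [QuotientGroup.eq_one_iff] at h1 ⊢
          exact h1
        exact Group.isSolvable_of_isSolvable_injective hinj
      obtain ⟨H', hNH', ψ', hψ', hind', hres'⟩ := ih _ hlt T (N.subgroupOf T)
        (hN.subgroupOf T) rfl hsolvT (hchief.subgroup T hNT) ψ₁ hψ₁
      let eq1 := H'.equivMapOfInjective T.subtype T.subtype_injective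
      have hNH'' : N ≤ H'.map T.subtype := by
        intro x hx
        exact ⟨⟨x, hNT hx⟩, hNH' (Subgroup.mem_subgroupOf.mpr hx), rfl⟩
      refine ⟨H'.map T.subtype, hNH'', fun x => ψ' (eq1.symm x), ?_, ?_, ?_⟩
      · exact isIrrCharacter_comp_mulEquiv eq1.symm hψ'
      · rw [← hind, ← hind', Cfsg.Agent.Lib.Char.Monomial.indFun_indFun_map]
      · let eq2 : N ≃* N.subgroupOf T := (Subgroup.subgroupOfEquivOfLe hNT).symm
        have hirr := isIrrCharacter_comp_mulEquiv eq2 hres'
        convert hirr using 1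
        funext x
        simp only [Function.comp]
        congr 1
        apply eq1.injective
        rw [MulEquiv.apply_symm_apply]
        rfl

end Main

end Cfsg.Agent.Lib.Char.RelM
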