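import Cfsg.Agent.Lib.Char.Clifford
import Cfsg.Agent.Lib.Char.Degree
import Cfsg.Agent.Lib.Char.Linear
import Cfsg.Agent.Lib.Char.IndRep
import Mathlib.GroupTheory.Solvable
import Mathlib.Tactic

/-!
# Taketa's theorem: M-groups are solvable
-/

set_option autoImplicit false

namespace Cfsg.Agent.Lib.Char.Taketa

open Cfsg Module
open Cfsg.Agent.Lib.Char.Basic Cfsg.Agent.Lib.Char.Ortho Cfsg.Agent.Lib.Char.Complete
open Cfsg.Agent.Lib.Char.Induced Cfsg.Agent.Lib.Char.IndRep
open Cfsg.Agent.Lib.Char.Clifford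
open Cfsg.Agent.Lib.Char.Linear Cfsg.Agent.Lib.Char.Degree
open scoped ComplexConjugate

universe u

variable {G : Type u} [Group G] [Fintype G]

/-- If the permutation character takes its degree at `n`, then `n` lies in the subgroup. -/
theorem mem_of_indFun_one_eq (H : Subgroup G) (n : G)
    (h : indFun H (fun _ => (1 : ℂ)) n = indFun H (fun _ => (1 : ℂ)) 1) : n ∈ H := by
  classical
  have hcard : (Nat.card H : ℂ) ≠ 0 := card_ne_zero'
  rw [indFun_apply, indFun_apply] at h
  have h' := mul_left_cancel₀ (inv_ne_zero hcard) h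
  have hval : ∀ y : G, extendByZero H (fun _ => (1 : ℂ)) y = ((if y ∈ H then 1 else 0 : ℕ) : ℂ) := by
    intro y
    by_cases hy : y ∈ H
    · simp [extendByZero_of_mem H _ hy, hy]
    · simp [extendByZero_of_not_mem H _ hy, hy]
  simp only [hval] at h'
  rw [← Nat.cast_sum, ← Nat.cast_sum] at h'
  have h'' : ∑ x : G, (if x⁻¹ * n * x ∈ H then 1 else 0 : ℕ) =
      ∑ x : G, (if x⁻¹ * 1 * x ∈ H then 1 else 0 : ℕ) := by exact_mod_cast h'
  have hle : ∀ x ∈ (Finset.univ : Finset G), (if x⁻¹ * n * x ∈ H then 1 else 0 : ℕ) ≤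
      (if x⁻¹ * 1 * x ∈ H then 1 else 0 : ℕ) := by
    intro x _
    have : x⁻¹ * 1 * x ∈ H := by simp [H.one_mem]
    rw [if_pos this]
    split_ifs <;> omega
  have := (Finset.sum_eq_sum_iff_of_le hle).mp h'' 1 (Finset.mem_univ _)
  simp only [inv_one, one_mul, mul_one, H.one_mem, if_true] at this
  by_contra hn
  rw [if_neg hn] at this
  omega

/-- If a homomorphism is trivial on all conjugates of `g`, then the induced character takes its
degree at `g`. -/
theorem indFun_hom_eq_of_forall (H : Subgroup G) (lam : H →* ℂˣ) (g : G)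
    (h : ∀ x : G, ∃ hx : x⁻¹ * g * x ∈ H, lam ⟨_, hx⟩ = 1) :
    indFun H (fun h => (lam h : ℂ)) g = indFun H (fun h => (lam h : ℂ)) 1 := by
  rw [indFun_apply, indFun_apply]
  congr 1
  refine Finset.sum_congr rfl fun x _ => ?_
  obtain ⟨hx, hl⟩ := h x
  rw [extendByZero_of_mem _ _ hx, hl]
  have h1 : x⁻¹ * 1 * x ∈ H := by simp [H.one_mem]
  rw [extendByZero_of_mem _ _ h1]
  have h2 : (⟨x⁻¹ * 1 * x, h1⟩ : H) = 1 := Subtype.ext (by simp)
  rw [h2, map_one]

/-- Taketa: in an M-group, the `d`-th derived group acts trivially in irreducibles of degree `d`. -/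
theorem derivedSeries_le_ker
    (hM : ∀ χ : G → ℂ, IsIrrCharacter G χ →
      ∃ (H : Subgroup G) (lam : H →* ℂˣ), χ = indFun H (fun h => (lam h : ℂ))) :
    ∀ (d : ℕ) (χ : G → ℂ), IsIrrCharacter G χ → χ 1 = d → ∀ g ∈ derivedSeries G d, χ g = χ 1 := by
  classical
  intro d
  induction d using Nat.strong_induction_on with
  | _ d ih =>
    intro χ hχ hd g hg
    obtain ⟨H, lam, hχH⟩ := hM χ hχ
    have hindex : H.index = d := by
      have h1 := indFun_one H (fun h => (lam h : ℂ))
      rw [← hχH, hd] at h1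
      simp only [map_one, Units.val_one, mul_one] at h1
      exact_mod_cast h1.symm
    have hd0 : d ≠ 0 := by
      rintro rfl
      exact irr_one_ne_zero hχ (by simpa using hd)
    obtain ⟨k, rfl⟩ : ∃ k, d = k + 1 := Nat.exists_eq_succ_of_ne_zero hd0
    have hDH : derivedSeries G k ≤ H := by
      by_cases hk : k = 0
      · subst hk
        have : H = ⊤ := Subgroup.index_eq_one.mp (by simpa using hindex)
        rw [this]
        exact le_top
      have hone : IsIrrCharacter G (fun _ => (1 : ℂ)) :=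
        isIrrCharacter_of_deg_one isCharacter_one rfl
      have hπ : IsCharacter G (indFun H (fun _ => (1 : ℂ))) :=
        isCharacter_indFun H isCharacter_one
      have hπ1 : indFun H (fun _ => (1 : ℂ)) 1 = ((k + 1 : ℕ) : ℂ) := by
        rw [indFun_one, hindex, mul_one]
      have hcon1 : classInner (indFun H (fun _ => (1 : ℂ))) (fun _ : G => (1 : ℂ)) ≠ 0 := by
        letI : Fintype H := Fintype.ofFinite H
        rw [classInner_indFun_left H _ _ (fun _ _ => rfl)]
        have hone' : IsIrrCharacter H (fun _ => (1 : ℂ)) :=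
          isIrrCharacter_of_deg_one isCharacter_one rfl
        rw [classInner_self_of_isIrr hone']
        exact one_ne_zero
      have hlt : ∀ (β : G → ℂ) (hβ : IsIrrCharacter G β), classInner (indFun H (fun _ => (1 : ℂ))) β ≠ 0 →
          ∀ n ∈ derivedSeries G k, β n = β 1 := by
        intro β hβ hcon n hn
        obtain ⟨b, hb⟩ := exists_deg_of_isCharacter (isCharacter_of_isIrrCharacter hβ)
        have hbk : b < k + 1 := by
          by_contra hcontra
          have hle : k + 1 ≤ b := by omega
          have heq := eq_of_constituent_of_deg_le hπ hβ hcon hπ1 hb hle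
          rw [heq] at hcon1
          by_cases hβ1 : β = fun _ => (1 : ℂ)
          · rw [hβ1] at hb
            have : ((1 : ℕ) : ℂ) = b := by simpa using hb
            have hb1 : b = 1 := by exact_mod_cast this.symm
            omega
          · exact hcon1 (classInner_eq_zero_of_isIrr_of_ne hβ hone hβ1)
        refine ih b hbk β hβ hb n ?_
        exact derivedSeries_antitone G (by omega : b ≤ k) hn
      intro n hn
      apply mem_of_indFun_one_eq
      have := finite_irrCharacter (G := G)
      letI := Fintype.ofFinite (IrrCharacter G)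
      have hexp := classFunction_eq_sum (isClassFunction_of_isCharacter hπ)
      rw [hexp]
      simp only [Finset.sum_apply, Pi.smul_apply, smul_eq_mul]
      refine Finset.sum_congr rfl fun i _ => ?_
      by_cases hi : classInner (indFun H (fun _ => (1 : ℂ))) (i : G → ℂ) = 0
      · rw [hi, zero_mul, zero_mul]
      · rw [hlt _ i.2 hi n hn]
    have hcomm : derivedSeries G (k + 1) ≤ (lam.ker).map H.subtype := by
      rw [derivedSeries_succ, Subgroup.commutator_le]
      intro a ha b hb
      have ha' := hDH ha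
      have hb' := hDH hb
      refine ⟨(⟨a, ha'⟩ : H) * (⟨b, hb'⟩ : H) * (⟨a, ha'⟩ : H)⁻¹ * (⟨b, hb'⟩ : H)⁻¹, ?_, rfl⟩
      rw [SetLike.mem_coe, MonoidHom.mem_ker]
      simp only [map_mul, map_inv]
      exact (by rw [mul_comm (lam _) (lam _)]; group)
    rw [hχH]
    apply indFun_hom_eq_of_forall
    intro x
    have hconj : x⁻¹ * g * x ∈ derivedSeries G (k + 1) := by
      have := (derivedSeries_normal G (k + 1)).conj_mem g hg x⁻¹
      rwa [inv_inv] at this
    obtain ⟨y, hy, hyx⟩ := hcomm hconj
    refine ⟨hyx ▸ y.2, ?_⟩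
    have : (⟨x⁻¹ * g * x, hyx ▸ y.2⟩ : H) = y := Subtype.ext hyx.symm
    rw [this]
    exact hy

/-- **Taketa**: M-groups are solvable. -/
theorem isSolvable_of_monomial
    (hM : ∀ χ : G → ℂ, IsIrrCharacter G χ →
      ∃ (H : Subgroup G) (lam : H →* ℂˣ), χ = indFun H (fun h => (lam h : ℂ))) :
    Group.IsSolvable G := by
  rw [Group.isSolvable_def]
  refine ⟨Nat.card G, ?_⟩
  rw [eq_bot_iff]
  intro g hg
  rw [Subgroup.mem_bot]
  apply eq_one_of_forall_irr
  rintro ⟨χ, hχ⟩
  have h1 := charDegree_natCast (isCharacter_of_isIrrCharacter hχ)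
  refine derivedSeries_le_ker hM (charDegree χ) χ hχ h1.symm g ?_
  refine derivedSeries_antitone G ?_ hg
  exact Nat.le_of_dvd Nat.card_pos (charDegree_dvd_card hχ)

end Cfsg.Agent.Lib.Char.Taketa
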