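import Cfsg.Agent.Lib.Char.Taketa
import Mathlib.Tactic

/-!
# Taketa's theorem: derived length at most the number of character degrees
-/

set_option autoImplicit false
set_option linter.unusedSectionVars false
set_option linter.style.haveILetI false

namespace Cfsg.Agent.Lib.Char.TaketaCard

open Cfsg Module
open Cfsg.Agent.Lib.Char.Basic Cfsg.Agent.Lib.Char.Ortho Cfsg.Agent.Lib.Char.Complete
open Cfsg.Agent.Lib.Char.Induced Cfsg.Agent.Lib.Char.Linear Cfsg.Agent.Lib.Char.Degree
open Cfsg.Agent.Lib.Char.Taketa Cfsg.Agent.Lib.Char.IndRep Cfsg.Agent.Lib.Char.Clifford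

universe u

variable {G : Type u} [Group G] [Fintype G]

/-- Taketa, sharp form: in an M-group, if `S` contains all character degrees, the derived group of
index the number of elements of `S` not exceeding `d` lies in the kernel of each character of
degree `d`. -/
theorem derivedSeries_card_le_ker
    (hM : ∀ χ : G → ℂ, IsIrrCharacter G χ →
      ∃ (H : Subgroup G) (lam : H →* ℂˣ), χ = indFun H (fun h => (lam h : ℂ)))
    (S : Finset ℕ) (hS : ∀ χ : G → ℂ, IsIrrCharacter G χ → ∀ d : ℕ, χ 1 = d → d ∈ S) :
    ∀ (d : ℕ) (χ : G → ℂ), IsIrrCharacter G χ → χ 1 = d →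
      ∀ g ∈ derivedSeries G (S.filter (· ≤ d)).card, χ g = χ 1 := by
  classical
  intro d
  induction d using Nat.strong_induction_on with
  | _ d ih =>
    intro χ hχ hd g hg
    obtain ⟨H, lam, hχH⟩ := hM χ hχ
    have hindex : H.index = d := by
      have h1 := indFun_one H (fun h => (lam h : ℂ))
      rw [← hχH, hd] at h1
      simp only [map_one, Units.val_one, mul_one] at h1
      exact_mod_cast h1.symm
    have hdS : d ∈ S.filter (· ≤ d) := Finset.mem_filter.mpr ⟨hS χ hχ d hd, le_refl _⟩
    obtain ⟨r, hr⟩ : ∃ r, (S.filter (· ≤ d)).card = r + 1 :=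
      Nat.exists_eq_succ_of_ne_zero (Finset.card_ne_zero_of_mem hdS)
    rw [hr] at hg
    have hDH : derivedSeries G r ≤ H := by
      by_cases hk : d = 1
      · have : H = ⊤ := Subgroup.index_eq_one.mp (by rw [hindex, hk])
        rw [this]
        exact le_top
      have hone : IsIrrCharacter G (fun _ => (1 : ℂ)) :=
        isIrrCharacter_of_deg_one isCharacter_one rfl
      have hπ : IsCharacter G (indFun H (fun _ => (1 : ℂ))) :=
        isCharacter_indFun H isCharacter_one
      have hπ1 : indFun H (fun _ => (1 : ℂ)) 1 = (d : ℂ) := by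
        rw [indFun_one, hindex, mul_one]
      have hcon1 : classInner (indFun H (fun _ => (1 : ℂ))) (fun _ : G => (1 : ℂ)) ≠ 0 := by
        letI : Fintype H := Fintype.ofFinite H
        rw [classInner_indFun_left H _ _ (fun _ _ => rfl)]
        have hone' : IsIrrCharacter H (fun _ => (1 : ℂ)) :=
          isIrrCharacter_of_deg_one isCharacter_one rfl
        rw [classInner_self_of_isIrr hone']
        exact one_ne_zero
      have hlt : ∀ (β : G → ℂ) (hβ : IsIrrCharacter G β), classInner (indFun H (fun _ => (1 : ℂ))) β ≠ 0 →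
          ∀ n ∈ derivedSeries G r, β n = β 1 := by
        intro β hβ hcon n hn
        obtain ⟨b, hb⟩ := exists_deg_of_isCharacter (isCharacter_of_isIrrCharacter hβ)
        have hbk : b < d := by
          by_contra hcontra
          have hle : d ≤ b := by omega
          have heq := eq_of_constituent_of_deg_le hπ hβ hcon hπ1 hb hle
          rw [heq] at hcon1
          by_cases hβ1 : β = fun _ => (1 : ℂ)
          · rw [hβ1] at hb
            have : ((1 : ℕ) : ℂ) = b := by simpa using hb
            have hb1 : b = 1 := by exact_mod_cast this.symm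
            have h3 : d ≤ 1 := by omega
            have h4 : d ≠ 0 := by
              rw [← hindex]
              exact Subgroup.index_ne_zero_of_finite
            omega
          · exact hcon1 (classInner_eq_zero_of_isIrr_of_ne hβ hone hβ1)
        refine ih b hbk β hβ hb n ?_
        refine derivedSeries_antitone G ?_ hn
        -- the rank of `b` is smaller
        have h5 : (S.filter (· ≤ b)) ⊂ S.filter (· ≤ d) := by
          rw [Finset.ssubset_iff_of_subset]
          · refine ⟨d, hdS, ?_⟩
            simp only [Finset.mem_filter, not_and, not_le]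
            intro _
            exact hbk
          · intro x hx
            rw [Finset.mem_filter] at hx ⊢
            exact ⟨hx.1, by omega⟩
        have h6 := Finset.card_lt_card h5
        omega
      intro n hn
      apply mem_of_indFun_one_eq
      have := finite_irrCharacter (G := G)
      letI := Fintype.ofFinite (IrrCharacter G)
      have hexp := classFunction_eq_sum (isClassFunction_of_isCharacter hπ)
      rw [hexp]
      simp only [Finset.sum_apply, Pi.smul_apply, smul_eq_mul]
      refine Finset.sum_congr rfl fun i _ => ?_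
      by_cases hi : classInner (indFun H (fun _ => (1 : ℂ))) (i : G → ℂ) = 0
      · rw [hi, zero_mul, zero_mul]
      · rw [hlt _ i.2 hi n hn]
    have hcomm : derivedSeries G (r + 1) ≤ (lam.ker).map H.subtype := by
      rw [derivedSeries_succ, Subgroup.commutator_le]
      intro a ha b hb
      have ha' := hDH ha
      have hb' := hDH hb
      refine ⟨(⟨a, ha'⟩ : H) * (⟨b, hb'⟩ : H) * (⟨a, ha'⟩ : H)⁻¹ * (⟨b, hb'⟩ : H)⁻¹, ?_, rfl⟩
      rw [SetLike.mem_coe, MonoidHom.mem_ker]
      simp only [map_mul, map_inv]
      exact (by rw [mul_comm (lam _) (lam _)]; group)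
    rw [hχH]
    apply indFun_hom_eq_of_forall
    intro x
    have hconj : x⁻¹ * g * x ∈ derivedSeries G (r + 1) := by
      have := (derivedSeries_normal G (r + 1)).conj_mem g hg x⁻¹
      rwa [inv_inv] at this
    obtain ⟨y, hy, hyx⟩ := hcomm hconj
    refine ⟨hyx ▸ y.2, ?_⟩
    have : (⟨x⁻¹ * g * x, hyx ▸ y.2⟩ : H) = y := Subtype.ext hyx.symm
    rw [this]
    exact hy

/-- **Taketa**: the derived length of an M-group is at most the number of its character degrees. -/
theorem derivedSeries_card_eq_bot
    (hM : ∀ χ : G → ℂ, IsIrrCharacter G χ →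
      ∃ (H : Subgroup G) (lam : H →* ℂˣ), χ = indFun H (fun h => (lam h : ℂ)))
    (S : Finset ℕ) (hS : ∀ χ : G → ℂ, IsIrrCharacter G χ → ∀ d : ℕ, χ 1 = d → d ∈ S) :
    derivedSeries G S.card = ⊥ := by
  classical
  rw [eq_bot_iff]
  intro g hg
  rw [Subgroup.mem_bot]
  apply eq_one_of_forall_irr
  rintro ⟨χ, hχ⟩
  obtain ⟨d, hd⟩ := exists_deg_of_isCharacter (isCharacter_of_isIrrCharacter hχ)
  refine derivedSeries_card_le_ker hM S hS d χ hχ hd g ?_
  exact derivedSeries_antitone G (Finset.card_filter_le _ _) hg

end Cfsg.Agent.Lib.Char.TaketaCard
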